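import Groth.Agent.L25.Char.DescentLift
import Groth.Agent.L27.EtaleLift
import Groth.Agent.L05.Hensel.LocalAlg
import Groth.Agent.L05.Hensel.Perm
import Mathlib.RingTheory.Henselian
import Mathlib.RingTheory.Ideal.GoingDown
import Mathlib.RingTheory.Unramified.LocalStructure
import Mathlib.RingTheory.Localization.Away.Lemmas

/-!
# Lifting groups of multiplicative type along henselian pairs and nil ideals
-/

set_option autoImplicit false

universe u

open TensorProduct Groth.L25.MultType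

namespace Groth.L25.Char.Descent

variable {R : Type u} [CommRing R] (I : Ideal R)

theorem red_surjective (U : Type u) [CommRing U] [Algebra R U] :
    Function.Surjective (red I U) := by
  intro z
  induction z using TensorProduct.induction_on with
  | zero => exact ⟨0, map_zero _⟩
  | add a b ha hb =>
    obtain ⟨x, rfl⟩ := ha
    obtain ⟨y, rfl⟩ := hb
    exact ⟨x + y, map_add _ x y⟩
  | tmul r u =>
    obtain ⟨r, rfl⟩ := Ideal.Quotient.mk_surjective r
    refine ⟨r • u, ?_⟩
    change (1 : R ⧸ I) ⊗ₜ[R] (r • u) = _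
    rw [← TensorProduct.smul_tmul, Algebra.smul_def, mul_one]
    rfl

theorem red_eq_zero_iff {U : Type u} [CommRing U] [Algebra R U] (z : U) :
    red I U z = 0 ↔ z ∈ I.map (algebraMap R U) := by
  let Q := Algebra.TensorProduct.quotIdealMapEquivQuotTensor U I
  have hQ : Q (Ideal.Quotient.mk _ z) = red I U z := by simp [Q]
  rw [← hQ, map_eq_zero_iff _ Q.injective, Ideal.Quotient.eq_zero_iff_mem]

/-- Idempotents of integral algebras lift along henselian pairs. -/
theorem goodHom_of_henselian [h : HenselianRing R I] (U : Type u) [CommRing U] [Algebra R U]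
    [Algebra.IsIntegral R U] : GoodHom (red I U).toRingHom := by
  refine ⟨red_surjective I U, fun x hx => ?_, fun e₀ he₀ => ?_⟩
  · exact Groth.L05.map_le_jacobson_bot h.jac ((red_eq_zero_iff I x).1 hx)
  · obtain ⟨u, rfl⟩ := red_surjective I U e₀
    obtain ⟨e, he, hev⟩ := Groth.L05.exists_idem_lift_of_integral I u
      ((red_eq_zero_iff I _).1 (by rw [map_sub, map_mul]; exact sub_eq_zero.2 he₀.eq))
    refine ⟨e, he, sub_eq_zero.1 ?_⟩
    change red I U e - red I U u = 0
    rw [← map_sub]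
    exact (red_eq_zero_iff I _).2 hev

/-- Idempotents lift along nil ideals. -/
theorem goodHom_of_nil (hI : ∀ x ∈ I, IsNilpotent x) (U : Type u) [CommRing U] [Algebra R U] :
    GoodHom (red I U).toRingHom := by
  have hk : ∀ x ∈ RingHom.ker (red I U).toRingHom, IsNilpotent x := by
    intro x hx
    have hx' := (red_eq_zero_iff I x).1 hx
    have : I.map (algebraMap R U) ≤ nilradical U := Ideal.map_le_iff_le_comap.2 fun r hr =>
      mem_nilradical.2 ((hI r hr).map (algebraMap R U))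
    exact mem_nilradical.1 (this hx')
  exact ⟨red_surjective I U, fun x hx => Ideal.radical_le_jacobson (mem_nilradical.1
    (mem_nilradical.2 (hk x hx))), fun e₀ he₀ =>
      exists_isIdempotentElem_eq_of_ker_isNilpotent _ hk e₀ (red_surjective I U e₀) he₀⟩

/-- Finite étale algebras lift along henselian pairs. -/
theorem exists_finite_etale_lift' [HenselianRing R I] (C₀ : Type u) [CommRing C₀]
    [Algebra (R ⧸ I) C₀] [Algebra.Etale (R ⧸ I) C₀] [Module.Finite (R ⧸ I) C₀] :
    ∃ (C : Type u) (_ : CommRing C) (_ : Algebra R C), Algebra.Etale R C ∧ Module.Finite R C ∧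
      Nonempty ((R ⧸ I) ⊗[R] C ≃ₐ[R ⧸ I] C₀) := by
  classical
  obtain ⟨C, _, _, het, ⟨θ⟩⟩ := Groth.L27.EtaleLift.exists_lift R I C₀
  let π : C →ₐ[R] (R ⧸ I) ⊗[R] C := red I C
  haveI : Module.Finite (R ⧸ I) ((R ⧸ I) ⊗[R] C) := Module.Finite.equiv θ.symm.toLinearEquiv
  haveI : Module.Finite R ((R ⧸ I) ⊗[R] C) := by
    haveI : Module.Finite R (R ⧸ I) := Module.Finite.of_surjective
      (Ideal.Quotient.mkₐ R I).toLinearMap Ideal.Quotient.mk_surjective
    exact Module.Finite.trans (R ⧸ I) _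
  have hint : ∀ x : C, IsIntegral R
      (Ideal.Quotient.mk (I.map (algebraMap R C) ⊔ Ideal.span {1 - (1 : C)}) x) := by
    intro x
    obtain ⟨g, hg, hgx⟩ := Algebra.IsIntegral.isIntegral (R := R) (π x)
    refine ⟨g, hg, ?_⟩
    rw [← Ideal.Quotient.mkₐ_eq_mk R, ← Polynomial.aeval_def, Polynomial.aeval_algHom_apply,
      Ideal.Quotient.mkₐ_eq_mk, Ideal.Quotient.eq_zero_iff_mem]
    refine Ideal.mem_sup_left ((red_eq_zero_iff I _).1 ?_)
    rw [← Polynomial.aeval_algHom_apply, Polynomial.aeval_def]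
    exact hgx
  haveI : Algebra.QuasiFinite R C := inferInstance
  obtain ⟨e, he, he1, hfin⟩ := Groth.L05.exists_idem_finite_piece I (1 : C)
    (by simp) (fun p _ _ _ => inferInstance) hint
  let Ce := C ⧸ Ideal.span ({1 - e} : Set C)
  haveI : IsLocalization.Away e Ce := IsLocalization.Away.quotient_of_isIdempotentElem he
  haveI : Algebra.Etale C Ce := Algebra.Etale.of_isLocalizationAway e
  refine ⟨Ce, inferInstance, inferInstance, Algebra.Etale.comp R C Ce, hfin, ?_⟩
  let p : C →ₐ[R] Ce := Ideal.Quotient.mkₐ R _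
  let Φ := Algebra.TensorProduct.map (AlgHom.id (R ⧸ I) (R ⧸ I)) p
  have hΦ : Function.Bijective Φ := by
    have hp1 : π e = 1 := by
      rw [← sub_eq_zero, ← map_one π, ← map_sub]
      exact (red_eq_zero_iff I _).2 he1
    let g : Ce →ₐ[R] (R ⧸ I) ⊗[R] C := Ideal.Quotient.liftₐ _ π (fun a ha => by
      obtain ⟨b, rfl⟩ := Ideal.mem_span_singleton'.1 ha
      rw [map_mul, map_sub, map_one, hp1, sub_self, mul_zero])
    let Ψ' : (R ⧸ I) ⊗[R] Ce →ₐ[R ⧸ I] (R ⧸ I) ⊗[R] C :=
      Algebra.TensorProduct.lift (Algebra.ofId (R ⧸ I) _) g fun _ _ => Commute.all _ _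
    have h1 : ∀ z, Ψ' (Φ z) = z := by
      intro z
      induction z using TensorProduct.induction_on with
      | zero => simp
      | add a b ha hb => simp only [map_add, ha, hb]
      | tmul r c =>
        simp only [Φ, Ψ', Algebra.TensorProduct.map_tmul, Algebra.TensorProduct.lift_tmul,
          AlgHom.id_apply]
        change algebraMap (R ⧸ I) _ r * π c = _
        simp [π, Algebra.TensorProduct.tmul_mul_tmul]
    have hsurj : Function.Surjective Φ := by
      intro z
      induction z using TensorProduct.induction_on with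
      | zero => exact ⟨0, map_zero _⟩
      | add a b ha hb =>
        obtain ⟨x, hx⟩ := ha
        obtain ⟨y, hy⟩ := hb
        exact ⟨x + y, by rw [map_add, hx, hy]⟩
      | tmul r c =>
        obtain ⟨c, rfl⟩ := Ideal.Quotient.mk_surjective c
        exact ⟨r ⊗ₜ c, rfl⟩
    exact ⟨Function.LeftInverse.injective h1, hsurj⟩
  exact ⟨(AlgEquiv.ofBijective Φ hΦ).symm.trans θ⟩

/-- Flat lifts of faithfully flat algebras along an ideal in the Jacobson radical are faithfully
flat. -/
theorem faithfullyFlat_of_reduction (hI : I ≤ (⊥ : Ideal R).jacobson) {C : Type u} [CommRing C]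
    [Algebra R C] [Module.Flat R C] {C₀ : Type u} [CommRing C₀] [Algebra (R ⧸ I) C₀]
    [Module.FaithfullyFlat (R ⧸ I) C₀] (θ : (R ⧸ I) ⊗[R] C ≃ₐ[R ⧸ I] C₀) :
    Module.FaithfullyFlat R C := by
  refine Module.FaithfullyFlat.of_comap_surjective fun p => ?_
  obtain ⟨m, hm, hpm⟩ := Ideal.exists_le_maximal p.asIdeal p.isPrime.ne_top
  have hIm : I ≤ m := hI.trans (sInf_le ⟨bot_le, hm⟩)
  obtain ⟨q, hq⟩ : (⟨m, hm.isPrime⟩ : PrimeSpectrum R) ∈
      Set.range (PrimeSpectrum.comap (Ideal.Quotient.mk I)) := by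
    rw [range_comap_of_surjective _ _ Ideal.Quotient.mk_surjective]
    simpa [Ideal.mk_ker] using hIm
  obtain ⟨w, hw⟩ := PrimeSpectrum.comap_surjective_of_faithfullyFlat (A := R ⧸ I) (B := C₀) q
  letI : Algebra R C₀ := ((algebraMap (R ⧸ I) C₀).comp (Ideal.Quotient.mk I)).toAlgebra
  haveI : IsScalarTower R (R ⧸ I) C₀ := IsScalarTower.of_algebraMap_eq fun _ => rfl
  let ψ : C →ₐ[R] C₀ := ((θ : (R ⧸ I) ⊗[R] C →ₐ[R ⧸ I] C₀).restrictScalars R).comp (red I C)
  haveI : Algebra.HasGoingDown R C := inferInstance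
  have hmem : PrimeSpectrum.comap (algebraMap R C) (PrimeSpectrum.comap ψ.toRingHom w) =
      ⟨m, hm.isPrime⟩ := by
    rw [← PrimeSpectrum.comap_comp_apply, ← hq, ← hw, ← PrimeSpectrum.comap_comp_apply]
    exact congrArg (fun f => PrimeSpectrum.comap f w) ψ.comp_algebraMap
  have hgen := (Algebra.HasGoingDown.iff_generalizingMap_primeSpectrumComap (R := R) (S := C)).mp
    inferInstance
  have hspec : p ⤳ PrimeSpectrum.comap (algebraMap R C) (PrimeSpectrum.comap ψ.toRingHom w) := by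
    rw [hmem, ← PrimeSpectrum.le_iff_specializes]
    exact hpm
  obtain ⟨a, -, ha⟩ := hgen hspec
  exact ⟨a, ha⟩

/-- A splitting over a lift of an étale algebra. -/
theorem isDiag_reduction {B : Type u} [CommRing B] [HopfAlgebra (R ⧸ I) B] {C₀ : Type u}
    [CommRing C₀] [Algebra (R ⧸ I) C₀] (hd : SGA3b.IsDiag C₀ (C₀ ⊗[R ⧸ I] B)) {C : Type u}
    [CommRing C] [Algebra R C] (θ : (R ⧸ I) ⊗[R] C ≃ₐ[R ⧸ I] C₀) :
    SGA3b.IsDiag ((R ⧸ I) ⊗[R] C) (((R ⧸ I) ⊗[R] C) ⊗[R ⧸ I] B) := by
  letI : Algebra C₀ ((R ⧸ I) ⊗[R] C) := θ.symm.toAlgHom.toRingHom.toAlgebra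
  haveI : IsScalarTower (R ⧸ I) C₀ ((R ⧸ I) ⊗[R] C) :=
    IsScalarTower.of_algebraMap_eq fun r => (θ.symm.commutes r).symm
  exact isDiag_of_tower hd

/-- Isotrivial groups lift along henselian pairs. -/
theorem exists_isotrivial_lift [h : HenselianRing R I] {B : Type u} [CommRing B]
    [HopfAlgebra (R ⧸ I) B] (h0 : SGA3b.IsIsotrivial (R ⧸ I) B) :
    ∃ (A : Type u) (_ : CommRing A) (_ : HopfAlgebra R A), SGA3b.IsIsotrivial R A ∧
      Nonempty ((R ⧸ I) ⊗[R] A ≃ₐc[R ⧸ I] B) := by
  classical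
  obtain ⟨R₀, _, _, _, _, hff₀, hd⟩ := h0
  obtain ⟨C, _, _, het, hfin, ⟨θ⟩⟩ := exists_finite_etale_lift' I R₀
  haveI := hff₀
  haveI : Module.FaithfullyFlat R C := faithfullyFlat_of_reduction I h.jac θ
  obtain ⟨M, hM, ⟨e⟩⟩ := isDiag_reduction I hd θ
  haveI : Module.FaithfullyFlat R (PUnit.{u+1} → C) :=
    Module.FaithfullyFlat.of_linearEquiv _ C (LinearEquiv.funUnique PUnit.{u+1} R C)
  obtain ⟨A, _, _, hsplit, hred⟩ := exists_hopf_lift (T := fun _ : PUnit.{u+1} => C)
    (M := fun _ => M) (I := I) (fun _ => e) (fun _ => goodHom_of_henselian I C)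
    (fun _ _ => goodHom_of_henselian I (C ⊗[R] C))
    (fun _ _ _ => goodHom_of_henselian I (C ⊗[R] (C ⊗[R] C)))
  exact ⟨A, inferInstance, inferInstance,
    ⟨C, inferInstance, inferInstance, het, hfin, inferInstance, M, hM, hsplit PUnit.unit⟩, hred⟩

end Groth.L25.Char.Descent
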