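import Groth.Agent.L25.Char.AdicHom
import Groth.Agent.L25.Char.DescentApply
import Groth.Agent.L25.MultType.Image
import Mathlib.RingTheory.Ideal.Cotangent
import Mathlib.RingTheory.Ideal.IdempotentFG
import Mathlib.RingTheory.HopfAlgebra.Quotient
import Mathlib.RingTheory.Bialgebra.Quotient

/-!
# The open and closed isotrivial subgroup over an adically complete base
-/

set_option autoImplicit false

universe u

open TensorProduct WithConv

namespace Groth.L25.Char

open Groth.L25.MultType

variable {R : Type u} [CommRing R]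

section kernel

variable {C A : Type u} [CommRing C] [HopfAlgebra R C] [CommRing A] [HopfAlgebra R A]

theorem bialgHom_antipode (φ : C →ₐc[R] A) (c : C) :
    φ (HopfAlgebra.antipode R c) = HopfAlgebra.antipode R (φ c) := by
  have h : toConv ((HopfAlgebra.antipodeAlgHom R A).comp φ.toAlgHom) =
      (toConv φ.toAlgHom)⁻¹ := by
    refine eq_inv_of_mul_eq_one_left ?_
    have h1 := AlgHom.convMul_comp_bialgHom_distrib
      (toConv (HopfAlgebra.antipodeAlgHom R A)) (toConv (AlgHom.id R A)) φ
    rw [AlgHom.antipode_id_cancel] at h1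
    refine WithConv.ext (AlgHom.ext fun x => ?_)
    have h2 := DFunLike.congr_fun h1 x
    simp only [AlgHom.convOne_apply, AlgHom.comp_apply, WithConv.ofConv_toConv,
      AlgHom.id_comp] at h2 ⊢
    rw [← h2]
    simp [AlgHom.convOne_def]
  exact (DFunLike.congr_fun (congrArg WithConv.ofConv h) c).symm

/-- The kernel of a surjective homomorphism is a Hopf ideal. -/
theorem isHopfIdeal_ker (φ : C →ₐc[R] A) (hφ : Function.Surjective φ) :
    (RingHom.ker (φ : C →ₐ[R] A)).IsHopfIdeal R := by
  let J := RingHom.ker (φ : C →ₐ[R] A)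
  let L : C →ₗ[R] A := (φ : C →ₐ[R] A).toLinearMap
  have hker : LinearMap.ker L = J.restrictScalars R := rfl
  let ψ : (C ⧸ J.restrictScalars R) ≃ₗ[R] A :=
    (Submodule.quotEquivOfEq _ _ hker.symm).trans (L.quotKerEquivOfSurjective hφ)
  have hψ : ψ.toLinearMap ∘ₗ (J.restrictScalars R).mkQ = L := rfl
  refine { toIsCoideal := ⟨fun x hx => ?_, fun x hx => ?_⟩, antipode_mem := fun x hx => ?_ }
  · have hx' : φ x = 0 := hx
    rw [← CoalgHomClass.counit_comp_apply φ x, hx', map_zero]
  · apply (TensorProduct.congr ψ ψ).injective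
    rw [map_zero]
    have hx' : φ x = 0 := hx
    have h1 : TensorProduct.map L L (Coalgebra.comul (R := R) x) =
        Coalgebra.comul (R := R) (φ x) := CoalgHomClass.map_comp_comul_apply φ x
    rw [hx', map_zero] at h1
    rw [← h1, ← hψ, TensorProduct.map_comp]
    rfl
  · have hx' : φ x = 0 := hx
    change φ (HopfAlgebra.antipode R x) = 0
    rw [bialgHom_antipode, hx', map_zero]

end kernel

section conormal

variable {C : Type u} [CommRing C] [HopfAlgebra R C] (J : Ideal C) [J.IsHopfIdeal R]

theorem conv_cancel {X Y : Type u} [CommRing X] [Algebra R X] [CommRing Y] [Algebra R Y]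
    (l : Y →ₐ[R] X) (r : C →ₐ[R] X) (f g : C →ₐ[R] Y) (h : toConv f * toConv g = 1) :
    toConv (l.comp f) * (toConv (l.comp g) * toConv r) = toConv r := by
  have h1 := AlgHom.comp_convMul_distrib l (toConv f) (toConv g)
  rw [h] at h1
  have h2 : toConv (l.comp f) * toConv (l.comp g) = 1 :=
    WithConv.ofConv_injective (h1.symm.trans (AlgHom.ext fun x => by simp))
  rw [← mul_assoc, h2, one_mul]

/-- A Hopf ideal with trivial conormal sheaf along the unit section is idempotent. -/
theorem le_sq_of_le_ker_mul [Module.Flat R (C ⧸ J)]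
    (h : J ≤ RingHom.ker (Bialgebra.counitAlgHom R C) * J) : J ≤ J ^ 2 := by
  classical
  let P := C ⧸ J
  let π : C →ₐ[R] P := Ideal.Quotient.mkₐ R J
  let Sπ : C →ₐ[R] P := π.comp (HopfAlgebra.antipodeAlgHom R C)
  let ι : P ⊗[R] J →ₗ[R] P ⊗[R] C := (J.restrictScalars R).subtype.lTensor P
  have hι : Function.Injective ι :=
    Module.Flat.lTensor_preserves_injective_linearMap (M := P) _
      (J.restrictScalars R).injective_subtype
  haveI : IsScalarTower R P J.Cotangent := ⟨fun r p x => by
    obtain ⟨c, rfl⟩ := Ideal.Quotient.mk_surjective p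
    change (r • c) • x = r • (c • x)
    exact smul_assoc r c x⟩
  haveI : SMulCommClass P R J.Cotangent := ⟨fun p r x => by
    obtain ⟨c, rfl⟩ := Ideal.Quotient.mk_surjective p
    change c • r • x = r • (c • x)
    exact smul_comm c r x⟩
  let L : P ⊗[R] J →ₗ[R] J.Cotangent :=
    TensorProduct.lift (LinearMap.mk₂ R (fun (p : P) (j : J) => p • J.toCotangent j)
      (fun p q j => add_smul p q _) (fun r p j => smul_assoc r p _)
      (fun p j k => by rw [map_add, smul_add])
      (fun r p j => by
        rw [LinearMap.map_smul_of_tower, smul_comm]))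
  have hL : ∀ (p : P) (j : J), L (p ⊗ₜ j) = p • J.toCotangent j := fun _ _ => rfl
  let μ : P ⊗[R] C →ₐ[R] P :=
    Algebra.TensorProduct.lift (AlgHom.id R P) π fun _ _ => Commute.all _ _
  let tr : (C →ₐ[R] P) → C →ₐ[R] P ⊗[R] C := fun f =>
    (Algebra.TensorProduct.map f (AlgHom.id R C)).comp (Bialgebra.comulAlgHom R C)
  let τ : P ⊗[R] C →ₐ[R] P ⊗[R] C :=
    Algebra.TensorProduct.lift Algebra.TensorProduct.includeLeft (tr Sπ) fun _ _ => Commute.all _ _
  have hSπ : toConv Sπ * toConv π = 1 := by
    have h1 := AlgHom.comp_convMul_distrib π (toConv (HopfAlgebra.antipodeAlgHom R C))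
      (toConv (AlgHom.id R C))
    rw [AlgHom.antipode_id_cancel] at h1
    exact WithConv.ofConv_injective (h1.symm.trans (AlgHom.ext fun x => by simp [π]; rfl))
  have hμτ : ∀ c, μ (tr Sπ c) = algebraMap R P (Coalgebra.counit (R := R) c) := by
    intro c
    have h1 := DFunLike.congr_fun (congrArg WithConv.ofConv hSπ) c
    rw [AlgHom.convMul_apply] at h1
    simp only [WithConv.ofConv_toConv] at h1
    have h2 : ∀ w : C ⊗[R] C, μ (Algebra.TensorProduct.map Sπ (AlgHom.id R C) w) =
        Algebra.TensorProduct.lift Sπ π (fun _ _ => Commute.all _ _) w := by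
      intro w
      induction w using TensorProduct.induction_on with
      | zero => simp
      | add a b ha hb => simp only [map_add, ha, hb]
      | tmul a b => simp [μ]
    change μ (Algebra.TensorProduct.map Sπ (AlgHom.id R C) (Coalgebra.comul (R := R) c)) = _
    rw [h2]
    refine Eq.trans ?_ (h1.trans (by simp [AlgHom.convOne_apply]))
    induction Coalgebra.comul (R := R) c using TensorProduct.induction_on with
    | zero => simp
    | add a b ha hb => simp only [map_add, ha, hb]
    | tmul a b => simp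
  have hrange : ∀ (f : C →ₐ[R] P), (∀ x ∈ J, f x = 0) → ∀ j ∈ J, ∃ y, ι y = tr f j := by
    intro f hf j hj
    let fb : (C ⧸ J.restrictScalars R) →ₗ[R] P :=
      (J.restrictScalars R).liftQ f.toLinearMap hf
    have h0 := Submodule.IsCoideal.map_mkQ_comul_eq_zero (R := R) (I := J.restrictScalars R) hj
    have h1 : (J.restrictScalars R).mkQ.lTensor P (tr f j) = 0 := by
      have h2 : ∀ w : C ⊗[R] C, (J.restrictScalars R).mkQ.lTensor P
          (Algebra.TensorProduct.map f (AlgHom.id R C) w) =
          TensorProduct.map fb (LinearMap.id : (C ⧸ J.restrictScalars R) →ₗ[R] _)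
            (TensorProduct.map (J.restrictScalars R).mkQ (J.restrictScalars R).mkQ w) := by
        intro w
        induction w using TensorProduct.induction_on with
        | zero => simp
        | add a b ha hb => simp only [map_add, ha, hb]
        | tmul a b => rfl
      change (J.restrictScalars R).mkQ.lTensor P
        (Algebra.TensorProduct.map f (AlgHom.id R C) (Coalgebra.comul (R := R) j)) = 0
      rw [h2]
      exact (congrArg _ h0).trans (map_zero _)
    exact ((lTensor_exact P (LinearMap.exact_subtype_mkQ (J.restrictScalars R))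
      (J.restrictScalars R).mkQ_surjective) _).1 h1
  have hlam : ∀ (x : P ⊗[R] C) (y : P ⊗[R] J), μ x = 0 → ∃ z, x * ι y = ι z ∧ L z = 0 := by
    intro x y hx
    induction y using TensorProduct.induction_on with
    | zero => exact ⟨0, by simp, map_zero L⟩
    | add a b ha hb =>
      obtain ⟨z, hz, hz0⟩ := ha
      obtain ⟨z', hz', hz0'⟩ := hb
      exact ⟨z + z', by rw [map_add, mul_add, hz, hz', map_add],
        by rw [map_add, hz0, hz0', add_zero]⟩
    | tmul p j =>
      suffices ∃ z, x * ι (p ⊗ₜ j) = ι z ∧ L z = (μ x * p) • J.toCotangent j by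
        obtain ⟨z, hz, hz0⟩ := this
        exact ⟨z, hz, by rw [hz0, hx, zero_mul, zero_smul]⟩
      clear hx
      induction x using TensorProduct.induction_on with
      | zero => exact ⟨0, by simp, by simp⟩
      | add a b ha hb =>
        obtain ⟨z, hz, hz0⟩ := ha
        obtain ⟨z', hz', hz0'⟩ := hb
        exact ⟨z + z', by rw [map_add, add_mul, hz, hz'],
          by rw [map_add, hz0, hz0', map_add, add_mul, add_smul]⟩
      | tmul a c =>
        refine ⟨(a * p) ⊗ₜ (c • j), ?_, ?_⟩
        · change (a ⊗ₜ[R] c) * (p ⊗ₜ[R] (j : C)) = (a * p) ⊗ₜ[R] (c * (j : C))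
          rw [Algebra.TensorProduct.tmul_mul_tmul]
        · rw [hL, LinearMap.map_smul_of_tower]
          change (a * p) • c • J.toCotangent j = (μ (a ⊗ₜ c) * p) • J.toCotangent j
          rw [← algebraMap_smul P c (J.toCotangent j), smul_smul]
          congr 1
          simp [μ, π, Ideal.Quotient.algebraMap_eq, mul_assoc, mul_comm, mul_left_comm]
          rfl
  have hτσ : ∀ c, τ (tr π c) = (1 : P) ⊗ₜ[R] c := by
    intro c
    let l : P →ₐ[R] P ⊗[R] C := Algebra.TensorProduct.includeLeft
    let r : C →ₐ[R] P ⊗[R] C := Algebra.TensorProduct.includeRight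
    have hπS : toConv π * toConv Sπ = 1 := mul_eq_one_comm.1 hSπ
    have key : toConv (τ.comp (tr π)) = toConv r := by
      have e1 : toConv (tr Sπ) = toConv (l.comp Sπ) * toConv r := by
        refine WithConv.ext (AlgHom.ext fun x => ?_)
        rw [AlgHom.convMul_apply]
        change Algebra.TensorProduct.map Sπ (AlgHom.id R C) (Coalgebra.comul (R := R) x) = _
        induction Coalgebra.comul (R := R) x using TensorProduct.induction_on with
        | zero => simp
        | add a b ha hb => simp only [map_add, ha, hb]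
        | tmul a b => simp [l, r]
      have e2 : toConv (τ.comp (tr π)) = toConv (l.comp π) * toConv (tr Sπ) := by
        refine WithConv.ext (AlgHom.ext fun x => ?_)
        rw [AlgHom.convMul_apply]
        change τ (Algebra.TensorProduct.map π (AlgHom.id R C) (Coalgebra.comul (R := R) x)) = _
        induction Coalgebra.comul (R := R) x using TensorProduct.induction_on with
        | zero => simp
        | add a b ha hb => simp only [map_add, ha, hb]
        | tmul a b => simp [τ, l]
      exact (e2.trans (congrArg (toConv (l.comp π) * ·) e1)).trans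
        (conv_cancel (X := P ⊗[R] C) (Y := P) l r π Sπ hπS)
    exact DFunLike.congr_fun (congrArg WithConv.ofConv key) c
  intro j hj
  obtain ⟨y, hy⟩ := hrange π (fun x hx => Ideal.Quotient.eq_zero_iff_mem.2 hx) j hj
  have hyz : ∃ z, τ (ι y) = ι z ∧ L z = 0 := by
    clear hy
    induction y using TensorProduct.induction_on with
    | zero => exact ⟨0, by simp, map_zero L⟩
    | add a b ha hb =>
      obtain ⟨z, hz, hz0⟩ := ha
      obtain ⟨z', hz', hz0'⟩ := hb
      exact ⟨z + z', by rw [map_add, map_add, hz, hz', map_add],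
        by rw [map_add, hz0, hz0', add_zero]⟩
    | tmul a j' =>
      obtain ⟨j', hj'⟩ := j'
      change ∃ z, τ (a ⊗ₜ[R] j') = ι z ∧ L z = 0
      have hj'' := h hj'
      clear hj'
      induction hj'' using Submodule.mul_induction_on' with
      | mem_mul_mem k hk i hi =>
        obtain ⟨w, hw⟩ := hrange Sπ (fun x hx =>
          Ideal.Quotient.eq_zero_iff_mem.2 (Ideal.IsHopfIdeal.antipode_mem (R := R) hx)) i hi
        obtain ⟨z, hz, hz0⟩ := hlam (τ (a ⊗ₜ k)) w (by
          rw [show τ (a ⊗ₜ[R] k) = (a ⊗ₜ[R] (1 : C)) * tr Sπ k by simp [τ],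
            map_mul, hμτ]
          rw [RingHom.mem_ker] at hk
          rw [show Coalgebra.counit (R := R) k = 0 from hk, map_zero, mul_zero])
        refine ⟨z, ?_, hz0⟩
        rw [← hz, hw, show a ⊗ₜ[R] (k * i) = (a ⊗ₜ[R] k) * ((1 : P) ⊗ₜ[R] i) by simp, map_mul,
          show τ ((1 : P) ⊗ₜ[R] i) = tr Sπ i by
            simp [τ, ← Algebra.TensorProduct.one_def]]
      | add u _ v _ hu hv =>
        obtain ⟨z, hz, hz0⟩ := hu
        obtain ⟨z', hz', hz0'⟩ := hv
        exact ⟨z + z', by rw [TensorProduct.tmul_add, map_add, hz, hz', map_add],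
          by rw [map_add, hz0, hz0', add_zero]⟩
  obtain ⟨z, hz, hz0⟩ := hyz
  rw [hy, hτσ] at hz
  have hz' : z = (1 : P) ⊗ₜ[R] (⟨j, hj⟩ : J) := hι (hz.symm.trans rfl)
  rw [hz', hL, one_smul] at hz0
  exact (J.toCotangent_eq_zero _).1 hz0

end conormal

variable [IsNoetherianRing R] {I : Ideal R} [IsAdicComplete I R] {C : Type u} [CommRing C]
  [HopfAlgebra R C]

theorem isQuasiIsotrivial_of_isIsotrivial {S B : Type u} [CommRing S] [CommRing B]
    [HopfAlgebra S B] (h : SGA3b.IsIsotrivial S B) : SGA3b.IsQuasiIsotrivial S B := by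
  obtain ⟨S', _, _, _, _, _, hd⟩ := h
  refine ⟨{1}, Ideal.span_singleton_one, fun f hf => ?_⟩
  rw [Set.mem_singleton_iff] at hf
  subst hf
  let L := Localization.Away (1 : S)
  refine ⟨L ⊗[S] S', inferInstance, inferInstance, inferInstance, inferInstance, ?_⟩
  letI : Algebra S' (L ⊗[S] S') := Algebra.TensorProduct.rightAlgebra
  haveI : IsScalarTower S S' (L ⊗[S] S') := IsScalarTower.of_algebraMap_eq fun r => by
    change algebraMap S L r ⊗ₜ[S] (1 : S') = (1 : L) ⊗ₜ algebraMap S S' r
    exact Algebra.TensorProduct.tmul_one_eq_one_tmul r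
  exact isDiag_of_bialgEquiv (cancelBialg S L (L ⊗[S] S') B).symm (isDiag_of_tower (R' := S') hd)

/-- A homomorphism to an isotrivial group surjective modulo `I` is surjective. -/
theorem surjective_of_reduction {A : Type u} [CommRing A] [HopfAlgebra R A]
    (hA : SGA3b.IsIsotrivial R A) (φ : C →ₐc[R] A)
    (hφ : ∀ a : A, ∃ c : C, (1 : R ⧸ I) ⊗ₜ[R] (φ c) = (1 : R ⧸ I) ⊗ₜ[R] a) :
    Function.Surjective φ := by
  obtain ⟨T, _, _, _, hfin, hff, M, _, ⟨e⟩⟩ := hA
  haveI := hff
  haveI := hfin
  have hjac : I.map (algebraMap R T) ≤ (⊥ : Ideal T).jacobson :=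
    Groth.L05.map_le_jacobson_bot (IsAdicComplete.le_jacobson_bot I)
  have hcoe : ∀ y ∈ I • (⊤ : Submodule R (T ⊗[R] A)), ∀ m,
      (e y).coeff m ∈ I.map (algebraMap R T) := by
    intro y hy m
    induction hy using Submodule.smul_induction_on' with
    | smul r hr x _ =>
      rw [← algebraMap_smul T r x, map_smul, MonoidAlgebra.coeff_smul, Finsupp.smul_apply,
        smul_eq_mul]
      exact Ideal.mul_mem_right _ _ (Ideal.mem_map_of_mem _ hr)
    | add x _ y _ hx hy =>
      rw [map_add, MonoidAlgebra.coeff_add, Finsupp.add_apply]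
      exact add_mem hx hy
  have happrox : ∀ z : T ⊗[R] A, ∃ w : T ⊗[R] C,
      z - (φ : C →ₐ[R] A).toLinearMap.lTensor T w ∈ I • (⊤ : Submodule R (T ⊗[R] A)) := by
    intro z
    induction z using TensorProduct.induction_on with
    | zero => exact ⟨0, by simp⟩
    | add a b ha hb =>
      obtain ⟨w, hw⟩ := ha
      obtain ⟨w', hw'⟩ := hb
      exact ⟨w + w', by rw [map_add, add_sub_add_comm]; exact add_mem hw hw'⟩
    | tmul t a =>
      obtain ⟨c, hc⟩ := hφ a
      refine ⟨t ⊗ₜ c, ?_⟩
      have h0 : a - φ c ∈ I • (⊤ : Submodule R A) := by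
        rw [← Submodule.Quotient.eq]
        have h1 := congrArg (TensorProduct.quotTensorEquivQuotSMul A I) hc
        rw [TensorProduct.quotTensorEquivQuotSMul_mk_one_tmul,
          TensorProduct.quotTensorEquivQuotSMul_mk_one_tmul] at h1
        exact h1.symm
      rw [LinearMap.lTensor_tmul, ← TensorProduct.tmul_sub]
      have h2 := Submodule.mem_map_of_mem (f := TensorProduct.mk R T A t) h0
      rw [Submodule.map_smul''] at h2
      exact Submodule.smul_mono le_rfl le_top h2
  have hkey : ∀ z, readHom e φ z = e ((φ : C →ₐ[R] A).toLinearMap.lTensor T z) := by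
    intro z
    induction z using TensorProduct.induction_on with
    | zero => simp
    | add a b ha hb => simp only [map_add, ha, hb]
    | tmul t c => rfl
  have hψ : Function.Surjective (readHom e φ) := by
    refine surjective_of_coefI (readHom e φ) fun m => ?_
    obtain ⟨w, hw⟩ := happrox (e.symm (MonoidAlgebra.single m 1))
    have h1 := hcoe _ hw m
    rw [map_sub, BialgEquiv.apply_symm_apply, MonoidAlgebra.coeff_sub, Finsupp.sub_apply,
      MonoidAlgebra.coeff_single, Finsupp.single_eq_same, ← hkey] at h1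
    have h2 := coeff_mem_coefI (readHom e φ) w m
    by_contra hne
    obtain ⟨p, hp, hle⟩ := Ideal.exists_le_maximal _ hne
    refine hp.ne_top ((Ideal.eq_top_iff_one p).2 ?_)
    have h3 := p.add_mem ((hjac.trans (sInf_le ⟨bot_le, hp⟩)) h1) (hle h2)
    rwa [sub_add_cancel] at h3
  refine (Module.FaithfullyFlat.lTensor_surjective_iff_surjective R T
    (φ : C →ₐ[R] A).toLinearMap).1 fun y => ?_
  obtain ⟨z, hz⟩ := hψ (e y)
  exact ⟨z, e.injective ((hkey z).symm.trans hz)⟩

/-- The open and closed isotrivial subgroup. -/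
theorem exists_clopen (hft : Algebra.FiniteType R C)
    (hfl : ∀ (q : Ideal C) [q.IsPrime], Ideal.map (algebraMap R C) I ≤ q →
      Module.Flat R (Localization.AtPrime q))
    (h0 : SGA3b.IsIsotrivial (R ⧸ I) ((R ⧸ I) ⊗[R] C)) :
    ∃ (A : Type u) (_ : CommRing A) (_ : HopfAlgebra R A) (φ : C →ₐc[R] A) (e : C),
      SGA3b.IsIsotrivial R A ∧ Function.Surjective φ ∧ IsIdempotentElem e ∧
      RingHom.ker (φ : C →ₐ[R] A) = Ideal.span {e} ∧ e ∈ I.map (algebraMap R C) ∧
      Nonempty ((R ⧸ I) ⊗[R] A ≃ₐc[R ⧸ I] (R ⧸ I) ⊗[R] C) := by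
  obtain ⟨A, _, _, hA, ⟨θ⟩⟩ := Descent.exists_isotrivial_lift I h0
  obtain ⟨φ, hφ⟩ := (reduction_bijective hA hfl (isQuasiIsotrivial_of_isIsotrivial h0)).2
    (θ.symm : (R ⧸ I) ⊗[R] C →ₐc[R ⧸ I] (R ⧸ I) ⊗[R] A)
  have hsurj : Function.Surjective φ := by
    refine surjective_of_reduction (I := I) hA φ fun a => ?_
    have key : ∀ z : (R ⧸ I) ⊗[R] C, ∃ c : C, z = (1 : R ⧸ I) ⊗ₜ c :=
      fun z => ⟨_, (Descent.red_surjective I C z).choose_spec.symm⟩
    obtain ⟨c, hc⟩ := key (θ ((1 : R ⧸ I) ⊗ₜ a))
    refine ⟨c, ?_⟩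
    rw [← hφ c, ← hc]
    exact θ.symm_apply_apply _
  haveI : IsNoetherianRing C := Algebra.FiniteType.isNoetherianRing R C
  let J := RingHom.ker (φ : C →ₐ[R] A)
  haveI : J.IsHopfIdeal R := isHopfIdeal_ker φ hsurj
  haveI : Module.Projective R A := projective_of_isMultType (isMultType_of_isIsotrivial hA)
  let qe : (C ⧸ J) ≃ₐ[R] A := Ideal.quotientKerAlgEquivOfSurjective hsurj
  haveI : Module.Flat R (C ⧸ J) := Module.Flat.of_linearEquiv qe.toLinearEquiv
  have hJI : ∀ c ∈ J, c ∈ I.map (algebraMap R C) := fun c hc => by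
    refine (Descent.red_eq_zero_iff I c).1 ?_
    change (1 : R ⧸ I) ⊗ₜ[R] c = 0
    apply θ.symm.injective
    change (θ.symm : (R ⧸ I) ⊗[R] C →ₐc[R ⧸ I] (R ⧸ I) ⊗[R] A) ((1 : R ⧸ I) ⊗ₜ c) = θ.symm 0
    rw [hφ c, show φ c = 0 from hc, TensorProduct.tmul_zero, map_zero]
  have hIJ : J ≤ I.map (algebraMap R C) * J := by
    intro c hc
    have h1 : c ∈ I • LinearMap.ker (φ : C →ₐ[R] A).toLinearMap := by
      refine mem_smul_ker_of_flat (φ : C →ₐ[R] A).toLinearMap hsurj hc ?_
      exact (Descent.red_eq_zero_iff I c).2 (hJI c hc)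
    refine Submodule.smul_induction_on h1 (fun r hr x hx => ?_) (fun x y hx hy => add_mem hx hy)
    rw [Algebra.smul_def]
    exact Ideal.mul_mem_mul (Ideal.mem_map_of_mem _ hr) hx
  obtain ⟨r, hr1, hr0⟩ := Submodule.exists_sub_one_mem_and_smul_eq_zero_of_fg_of_le_smul
    (I.map (algebraMap R C)) J (IsNoetherian.noetherian J) (by rwa [Ideal.smul_eq_mul])
  have hmul : J ≤ RingHom.ker (Bialgebra.counitAlgHom R C) * J := by
    intro j hj
    let u := Coalgebra.counit (R := R) r
    have hu : IsUnit u := by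
      have h1 : Bialgebra.counitAlgHom R C (r - 1) ∈ I := by
        have h2 : I.map (algebraMap R C) ≤ I.comap (Bialgebra.counitAlgHom R C) :=
          Ideal.map_le_iff_le_comap.2 fun x hx => by simpa using hx
        exact h2 hr1
      rw [map_sub, map_one] at h1
      have h3 := Ideal.mem_jacobson_bot.1 (IsAdicComplete.le_jacobson_bot I h1) 1
      rwa [mul_one, sub_add_cancel] at h3
    have hk : algebraMap R C u - r ∈ RingHom.ker (Bialgebra.counitAlgHom R C) := by
      rw [RingHom.mem_ker, map_sub, AlgHom.commutes]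
      simp [u]
    have h4 : j = algebraMap R C (hu.unit⁻¹ : Rˣ) * ((algebraMap R C u - r) * j) := by
      rw [sub_mul, ← smul_eq_mul r j, hr0 j hj, sub_zero, ← mul_assoc, ← map_mul]
      rw [IsUnit.val_inv_mul, map_one, one_mul]
    rw [h4]
    exact Ideal.mul_mem_left _ _ (Ideal.mul_mem_mul hk hj)
  have hsq : J ≤ J ^ 2 := le_sq_of_le_ker_mul J hmul
  obtain ⟨e, he, hJe⟩ := (Ideal.isIdempotentElem_iff_of_fg J (IsNoetherian.noetherian J)).1
    (le_antisymm Ideal.mul_le_right (by rwa [pow_two] at hsq))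
  exact ⟨A, inferInstance, inferInstance, φ, e, hA, hsurj, he, hJe,
    hJI e (by rw [hJe]; exact Ideal.subset_span rfl), ⟨θ⟩⟩

end Groth.L25.Char
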