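import Groth.Agent.L25.Char.Spread
import Groth.Agent.L01.ProjDescent
import Mathlib.RingTheory.Spectrum.Prime.RingHom
import Mathlib.RingTheory.Spectrum.Prime.Topology

/-!
# Groups of multiplicative type of finite type are split by étale algebras
-/

set_option autoImplicit false

universe u

open TensorProduct

namespace Groth.L25.Char

open Groth.L25.MultType

/-- Constant type: split near every prime by an étale algebra. -/
theorem exists_etale_split_of_const {R : Type u} [CommRing R] {A : Type u} [CommRing A]
    [HopfAlgebra R A] [Algebra.FiniteType R A] (hA : SGA3b.IsMultTypeConst R A)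
    (p : Ideal R) [p.IsPrime] :
    ∃ (B : Type u) (_ : CommRing B) (_ : Algebra R B) (_ : Algebra.Etale R B) (q : Ideal B),
      q.IsPrime ∧ q.comap (algebraMap R B) = p ∧
        ∃ (M : Type u) (_ : CommGroup M), Monoid.FG M ∧
          Nonempty (B ⊗[R] A ≃ₐc[B] MonoidAlgebra B M) := by
  obtain ⟨S, _, _, hff, N, _, ⟨eS⟩⟩ := hA
  haveI : Nontrivial R := ⟨0, 1, fun h => ‹p.IsPrime›.ne_top
    ((Ideal.eq_top_iff_one _).2 (h ▸ p.zero_mem))⟩
  obtain ⟨P, hP, hPp⟩ := Ideal.exists_isPrime_liesOver_of_faithfullyFlat (B := S) p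
  haveI : Nontrivial S := ⟨0, 1, fun h => hP.ne_top ((Ideal.eq_top_iff_one _).2 (h ▸ P.zero_mem))⟩
  haveI : Algebra.FiniteType S (MonoidAlgebra S N) :=
    Algebra.FiniteType.equiv (A := S ⊗[R] A) inferInstance eS.toAlgEquiv
  haveI : Monoid.FG N := MonoidAlgebra.finiteType_iff_fg.1 (inferInstance : Algebra.FiniteType S _)
  haveI := finitePresentation_monoidAlgebra S N
  haveI : Algebra.FinitePresentation S (S ⊗[R] A) :=
    Algebra.FinitePresentation.equiv eS.toAlgEquiv.symm
  haveI : Algebra.FinitePresentation R A :=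
    Algebra.FinitePresentation.of_finitePresentation_tensorProduct_of_faithfullyFlat (T := S)
  haveI : Module.Free S (S ⊗[R] A) :=
    Module.Free.of_equiv (eS.toLinearEquiv.trans (MonoidAlgebra.coeffLinearEquiv S)).symm
  haveI : Module.Projective R A := Groth.L01.ProjDescent.projective (S := S) (M := A)
  let R' := Localization.AtPrime P
  haveI : Module.Flat R R' := Module.Flat.trans R S R'
  let e : R' ⊗[R] A ≃ₐc[R'] MonoidAlgebra R' N := (splitEquiv eS R').symm
  obtain ⟨V, hV⟩ := exists_nhd_split eS e
  refine ⟨V.B, inferInstance, inferInstance, inferInstance,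
    (IsLocalRing.maximalIdeal R').comap V.ψ.toRingHom, Ideal.IsPrime.comap _, ?_,
    N, inferInstance, inferInstance, hV⟩
  have h1 : ((IsLocalRing.maximalIdeal R').comap V.ψ.toRingHom).comap (algebraMap R V.B) =
      ((IsLocalRing.maximalIdeal R').comap (algebraMap S R')).comap (algebraMap R S) := by
    rw [Ideal.comap_comap, Ideal.comap_comap, ← IsScalarTower.algebraMap_eq]
    congr 1
    exact RingHom.ext fun r => V.ψ.commutes r
  have h2 : (IsLocalRing.maximalIdeal R').comap (algebraMap S R') = P :=
    (IsLocalization.AtPrime.under_maximalIdeal R' P)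
  rw [h1, h2]
  exact hPp.over.symm

/-- Split near every prime by an étale algebra. -/
theorem exists_etale_split {R : Type u} [CommRing R] {A : Type u} [CommRing A] [HopfAlgebra R A]
    [Algebra.FiniteType R A] (hA : SGA3b.IsMultType R A) (p : Ideal R) [hp : p.IsPrime] :
    ∃ (B : Type u) (_ : CommRing B) (_ : Algebra R B) (_ : Algebra.Etale R B) (q : Ideal B),
      q.IsPrime ∧ q.comap (algebraMap R B) = p ∧
        ∃ (M : Type u) (_ : CommGroup M), Monoid.FG M ∧
          Nonempty (B ⊗[R] A ≃ₐc[B] MonoidAlgebra B M) := by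
  obtain ⟨s, hs, h⟩ := hA
  obtain ⟨f, hf, hfp⟩ : ∃ f ∈ s, f ∉ p := by
    by_contra hcon
    push Not at hcon
    exact hp.ne_top (top_le_iff.1 (hs ▸ Ideal.span_le.2 hcon))
  obtain ⟨pf, hpf⟩ : ∃ x : PrimeSpectrum (Localization.Away f),
      x.asIdeal.comap (algebraMap R (Localization.Away f)) = p := by
    have : (⟨p, hp⟩ : PrimeSpectrum R) ∈
        Set.range (PrimeSpectrum.comap (algebraMap R (Localization.Away f))) := by
      rw [PrimeSpectrum.localization_away_comap_range (Localization.Away f) f]
      exact hfp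
    obtain ⟨x, hx⟩ := this
    exact ⟨x, congrArg PrimeSpectrum.asIdeal hx⟩
  obtain ⟨B, _, _, _, q, hq, hqp, M, _, hM, ⟨e⟩⟩ :=
    exists_etale_split_of_const (h f hf) pf.asIdeal
  letI : Algebra R B := ((algebraMap (Localization.Away f) B).comp
    (algebraMap R (Localization.Away f))).toAlgebra
  haveI : IsScalarTower R (Localization.Away f) B := IsScalarTower.of_algebraMap_eq fun _ => rfl
  haveI : Algebra.Etale R (Localization.Away f) := Algebra.Etale.of_isLocalizationAway f
  haveI : Algebra.Etale R B := Algebra.Etale.comp R (Localization.Away f) B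
  refine ⟨B, inferInstance, inferInstance, inferInstance, q, hq, ?_, M, inferInstance, hM,
    ⟨(cancelBialg R (Localization.Away f) B A).symm.trans e⟩⟩
  rw [IsScalarTower.algebraMap_eq R (Localization.Away f) B, ← Ideal.comap_comap, hqp, hpf]

/-- Groups of multiplicative type and of finite type are quasi-isotrivial. -/
theorem isQuasiIsotrivial {R : Type u} [CommRing R] {A : Type u} [CommRing A] [HopfAlgebra R A]
    [Algebra.FiniteType R A] (hA : SGA3b.IsMultType R A) : SGA3b.IsQuasiIsotrivial R A := by
  refine ⟨{g | SGA3b.IsQuasiIsotrivialConst (Localization.Away g) (Localization.Away g ⊗[R] A)},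
    ?_, fun g hg => hg⟩
  by_contra hcon
  obtain ⟨p, hp, hle⟩ := Ideal.exists_le_maximal _ hcon
  obtain ⟨B, _, _, _, q, hq, hqp, M, _, -, ⟨e⟩⟩ := exists_etale_split hA p
  have hopen : IsOpen (Set.range (PrimeSpectrum.comap (algebraMap R B))) := by
    rw [← Set.image_univ]
    exact PrimeSpectrum.isOpenMap_comap_of_hasGoingDown_of_finitePresentation _ isOpen_univ
  obtain ⟨_, ⟨g, rfl⟩, hg, hsub⟩ := PrimeSpectrum.isTopologicalBasis_basic_opens.exists_subset_of_mem_open
    (a := (⟨p, hp.isPrime⟩ : PrimeSpectrum R)) (u := Set.range (PrimeSpectrum.comap (algebraMap R B)))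
    ⟨⟨q, hq⟩, PrimeSpectrum.ext hqp⟩ hopen
  refine hg (hle (Ideal.subset_span ?_))
  let Rg := Localization.Away g
  let B' := Localization.Away (algebraMap R B g)
  let ρ : Rg →+* B' := IsLocalization.Away.lift g
    (g := (algebraMap B B').comp (algebraMap R B))
    (IsLocalization.Away.algebraMap_isUnit (S := B') (algebraMap R B g))
  letI : Algebra Rg B' := ρ.toAlgebra
  haveI : IsScalarTower R Rg B' := IsScalarTower.of_algebraMap_eq fun r => by
    rw [IsScalarTower.algebraMap_apply R B B']
    exact (IsLocalization.Away.lift_eq g (g := (algebraMap B B').comp (algebraMap R B))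
      (IsLocalization.Away.algebraMap_isUnit (S := B') (algebraMap R B g)) r).symm
  haveI : Algebra.Etale R Rg := Algebra.Etale.of_isLocalizationAway g
  haveI : Algebra.Etale B B' := Algebra.Etale.of_isLocalizationAway (algebraMap R B g)
  haveI : Algebra.Etale R B' := Algebra.Etale.comp R B B'
  haveI : Algebra.Etale Rg B' := Algebra.Etale.of_restrictScalars R Rg B'
  haveI : Module.FaithfullyFlat Rg B' := by
    refine Module.FaithfullyFlat.of_comap_surjective fun x => ?_
    have hx : PrimeSpectrum.comap (algebraMap R Rg) x ∈ PrimeSpectrum.basicOpen g := by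
      have := Set.mem_range_self (f := PrimeSpectrum.comap (algebraMap R Rg)) x
      rwa [PrimeSpectrum.localization_away_comap_range Rg g] at this
    obtain ⟨w, hw⟩ := hsub hx
    have hw' : w ∈ PrimeSpectrum.basicOpen (algebraMap R B g) := by
      rw [← hw] at hx
      exact hx
    rw [← SetLike.mem_coe, ← PrimeSpectrum.localization_away_comap_range B' (algebraMap R B g)]
      at hw'
    obtain ⟨z, hz⟩ := hw'
    refine ⟨z, PrimeSpectrum.localization_comap_injective Rg (Submonoid.powers g) ?_⟩
    rw [← hw, ← hz, ← PrimeSpectrum.comap_comp_apply, ← PrimeSpectrum.comap_comp_apply,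
      ← IsScalarTower.algebraMap_eq, ← IsScalarTower.algebraMap_eq]
  exact ⟨B', inferInstance, inferInstance, inferInstance, inferInstance, M, inferInstance,
    ⟨(cancelBialg R Rg B' A).trans (splitEquiv e B').symm⟩⟩

end Groth.L25.Char
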