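import Groth.Agent.L25.Char.AdicClopen
import Mathlib.RingTheory.Spectrum.Prime.Topology
import Mathlib.RingTheory.Flat.Localization

/-!
# Isotriviality over adically complete rings for groups with connected fibres
-/

set_option autoImplicit false

universe u

open TensorProduct Groth.L25.MultType

namespace Groth.L25.Char

theorem isIsotrivial_of_bialgEquiv {R A B : Type u} [CommRing R] [CommRing A] [HopfAlgebra R A]
    [CommRing B] [HopfAlgebra R B] (e : A ≃ₐc[R] B) (h : SGA3b.IsIsotrivial R A) :
    SGA3b.IsIsotrivial R B := by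
  obtain ⟨T, i1, i2, i3, i4, i5, hd⟩ := h
  exact ⟨T, i1, i2, i3, i4, i5, isDiag_of_bialgEquiv (baseChangeEquiv R T e) hd⟩

/-- The quotient by the kernel of a surjective homomorphism. -/
theorem nonempty_quotientEquiv {R C A : Type u} [CommRing R] [CommRing C] [HopfAlgebra R C]
    [CommRing A] [HopfAlgebra R A] (φ : C →ₐc[R] A) (hφ : Function.Surjective φ) (J : Ideal C)
    [J.IsHopfIdeal R] (hJ : RingHom.ker (φ : C →ₐ[R] A) = J) :
    Nonempty ((C ⧸ J) ≃ₐc[R] A) := by
  let e : (C ⧸ J) ≃ₐ[R] A :=
    (Ideal.quotientEquivAlgOfEq R hJ.symm).trans (Ideal.quotientKerAlgEquivOfSurjective hφ)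
  have he : ∀ c, e (Ideal.Quotient.mk J c) = φ c := fun c => rfl
  refine ⟨BialgEquiv.ofAlgEquiv e ?_ ?_⟩
  · refine Ideal.Quotient.algHom_ext R (AlgHom.ext fun c => ?_)
    change Coalgebra.counit (R := R) (e (Ideal.Quotient.mk J c)) = Coalgebra.counit (R := R) c
    rw [he]
    exact CoalgHomClass.counit_comp_apply φ c
  · refine Ideal.Quotient.algHom_ext R (AlgHom.ext fun c => ?_)
    change Algebra.TensorProduct.map e.toAlgHom e.toAlgHom
        (Algebra.TensorProduct.map (Ideal.Quotient.mkₐ R J) (Ideal.Quotient.mkₐ R J)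
          (Coalgebra.comul (R := R) c)) = Coalgebra.comul (R := R) (e (Ideal.Quotient.mk J c))
    rw [he, ← CoalgHomClass.map_comp_comul_apply φ c]
    induction Coalgebra.comul (R := R) c using TensorProduct.induction_on with
    | zero => simp
    | add a b ha hb => simp only [map_add, ha, hb]
    | tmul a b => rfl

theorem idem_eq_zero_or_one {S : Type u} [CommRing S] [ConnectedSpace (PrimeSpectrum S)] {e : S}
    (he : IsIdempotentElem e) : e = 0 ∨ e = 1 := by
  have hc : IsClopen (PrimeSpectrum.basicOpen e : Set (PrimeSpectrum S)) :=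
    PrimeSpectrum.isClopen_basicOpen_of_mul_add e (1 - e) he.mul_one_sub_self (add_sub_cancel _ _)
  rcases isClopen_iff.1 hc with h | h
  · left
    refine PrimeSpectrum.basicOpen_injOn_isIdempotentElem he IsIdempotentElem.zero ?_
    refine TopologicalSpace.Opens.ext ?_
    rw [h, PrimeSpectrum.basicOpen_zero]
    rfl
  · right
    refine PrimeSpectrum.basicOpen_injOn_isIdempotentElem he IsIdempotentElem.one ?_
    refine TopologicalSpace.Opens.ext ?_
    rw [h, PrimeSpectrum.basicOpen_one]
    rfl

variable {R : Type u} [CommRing R] [IsNoetherianRing R] {I : Ideal R} [IsAdicComplete I R]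
  {C : Type u} [CommRing C] [HopfAlgebra R C] [Module.Flat R C]

theorem flat_localization (q : Ideal C) [q.IsPrime] : Module.Flat R (Localization.AtPrime q) :=
  Module.Flat.trans R C (Localization.AtPrime q)

/-- With connected fibres the group is the lifted isotrivial group. -/
theorem exists_equiv_of_connected (hft : Algebra.FiniteType R C)
    (hconn : ∀ (p : Ideal R) [p.IsPrime], ConnectedSpace (PrimeSpectrum (p.ResidueField ⊗[R] C)))
    (h0 : SGA3b.IsIsotrivial (R ⧸ I) ((R ⧸ I) ⊗[R] C)) :
    ∃ (A : Type u) (_ : CommRing A) (_ : HopfAlgebra R A), SGA3b.IsIsotrivial R A ∧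
      Nonempty (A ≃ₐc[R] C) := by
  obtain ⟨A, _, _, φ, e, hA, hφ, he, hker, -, -⟩ :=
    exists_clopen hft (fun q _ _ => flat_localization q) h0
  have heq0 : e = 0 := by
    have hε : Coalgebra.counit (R := R) e = 0 := by
      have hmem : e ∈ RingHom.ker (φ : C →ₐ[R] A) := by rw [hker]; exact Ideal.subset_span rfl
      rw [← CoalgHomClass.counit_comp_apply φ e, show φ e = 0 from hmem, map_zero]
    refine he.eq_zero_of_isNilpotent ?_
    refine mem_nilradical.1 ?_
    rw [nilradical_eq_sInf]
    refine Ideal.mem_sInf.2 fun {q} (hq : q.IsPrime) => ?_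
    let p := q.comap (algebraMap R C)
    haveI : p.IsPrime := hq.comap _
    let K := q.ResidueField
    let j : C →ₐ[R] p.ResidueField ⊗[R] C := Algebra.TensorProduct.includeRight
    haveI := hconn p
    rcases idem_eq_zero_or_one (he.map j) with h | h
    · let g : p.ResidueField →+* K := Ideal.ResidueField.map p q (algebraMap R C) rfl
      let gA : p.ResidueField →ₐ[R] K :=
        AlgHom.mk g (fun r => by
          change g (algebraMap R p.ResidueField r) = _
          rw [Ideal.ResidueField.map_algebraMap, ← IsScalarTower.algebraMap_apply])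
      have h1 : Algebra.TensorProduct.lift gA (IsScalarTower.toAlgHom R C K)
          (fun _ _ => Commute.all _ _) (j e) = algebraMap C K e := by simp [j]
      rw [h, map_zero] at h1
      exact Ideal.algebraMap_residueField_eq_zero.1 h1.symm
    · exfalso
      have h1 : Coalgebra.counit (R := p.ResidueField) (j e) = 0 := by
        simp [j, TensorProduct.counit_tmul, hε]
      rw [h, Bialgebra.counit_one] at h1
      exact one_ne_zero h1
  have hbij : Function.Bijective φ := by
    refine ⟨(injective_iff_map_eq_zero φ).2 fun c hc => ?_, hφ⟩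
    have hmem : c ∈ RingHom.ker (φ : C →ₐ[R] A) := hc
    rw [hker, heq0, Ideal.span_singleton_eq_bot.2 rfl] at hmem
    exact hmem
  exact ⟨A, inferInstance, inferInstance, hA, ⟨(BialgEquiv.ofBijective φ hbij).symm⟩⟩

end Groth.L25.Char

namespace Groth.L25.Char

theorem isTorus_of_bialgEquiv {R A B : Type u} [CommRing R] [CommRing A] [HopfAlgebra R A]
    [CommRing B] [HopfAlgebra R B] (e : A ≃ₐc[R] B) (h : SGA3b.IsTorus R A) :
    SGA3b.IsTorus R B := by
  obtain ⟨s, hs, hf⟩ := h
  refine ⟨s, hs, fun f hfs => ?_⟩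
  obtain ⟨R', i1, i2, i3, n, ⟨d⟩⟩ := hf f hfs
  exact ⟨R', i1, i2, i3, n, ⟨(baseChangeEquiv (Localization.Away f) R'
    (baseChangeEquiv R (Localization.Away f) e)).symm.trans d⟩⟩

/-- Change of group, in any universes. -/
noncomputable def mapEquiv (S : Type u) [CommRing S] {M : Type*} {N : Type*} [CommGroup M]
    [CommGroup N] (g : M ≃* N) : MonoidAlgebra S M ≃ₐc[S] MonoidAlgebra S N :=
  BialgEquiv.ofBijective (MonoidAlgebra.mapDomainBialgHom S g.toMonoidHom)
    (Function.bijective_iff_has_inverse.2
      ⟨MonoidAlgebra.mapDomainBialgHom S g.symm.toMonoidHom,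
      fun x => by
        induction x using MonoidAlgebra.induction_linear with
        | zero => simp
        | add a b ha hb => simp only [map_add, ha, hb]
        | single m r => simp,
      fun x => by
        induction x using MonoidAlgebra.induction_linear with
        | zero => simp
        | add a b ha hb => simp only [map_add, ha, hb]
        | single m r => simp⟩)

theorem isTorus_of_type {R A : Type u} [CommRing R] [CommRing A] [HopfAlgebra R A] {T : Type u}
    [CommRing T] [Algebra R T] [Module.FaithfullyFlat R T] {M : Type u} [CommGroup M]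
    (e : T ⊗[R] A ≃ₐc[T] MonoidAlgebra T M) (n : ℕ)
    (hn : ∀ (S : Type u) [CommRing S] [Algebra R S], Nonempty
      (MonoidAlgebra S M ≃ₐc[S] MonoidAlgebra S (Multiplicative (Fin n → ℤ)))) :
    SGA3b.IsTorus R A := by
  refine ⟨{1}, Ideal.span_singleton_one, fun f _ => ?_⟩
  let L := Localization.Away f
  by_cases hf : f = 1
  · subst hf
    letI : Algebra T (L ⊗[R] T) := Algebra.TensorProduct.rightAlgebra
    haveI : IsScalarTower R T (L ⊗[R] T) := IsScalarTower.of_algebraMap_eq fun r => by
      change algebraMap R L r ⊗ₜ[R] (1 : T) = (1 : L) ⊗ₜ algebraMap R T r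
      exact Algebra.TensorProduct.tmul_one_eq_one_tmul r
    obtain ⟨d⟩ := hn (L ⊗[R] T)
    exact ⟨L ⊗[R] T, inferInstance, inferInstance, inferInstance, n,
      ⟨((cancelBialg R L (L ⊗[R] T) A).trans (splitEquiv e (L ⊗[R] T)).symm).trans d⟩⟩
  · simp_all

/-- An isotrivial group with toric reduction is a torus. -/
theorem isTorus_of_reduction {R : Type u} [CommRing R] {I : Ideal R}
    (hI : I ≤ (⊥ : Ideal R).jacobson) {A : Type u} [CommRing A] [HopfAlgebra R A]
    (hA : SGA3b.IsIsotrivial R A) (h : SGA3b.IsTorus (R ⧸ I) ((R ⧸ I) ⊗[R] A)) :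
    SGA3b.IsTorus R A := by
  obtain ⟨T, _, _, _, _, hff, M, _, ⟨e⟩⟩ := hA
  haveI := hff
  rcases subsingleton_or_nontrivial R with hR | hR
  · refine isTorus_of_type e 0 fun S _ _ => ⟨BialgEquiv.ofBijective
      (MonoidAlgebra.mapDomainBialgHom S (1 : M →* Multiplicative (Fin 0 → ℤ))) ?_⟩
    haveI : Subsingleton S := Module.subsingleton R S
    haveI : Subsingleton (MonoidAlgebra S M) := Module.subsingleton S _
    haveI : Subsingleton (MonoidAlgebra S (Multiplicative (Fin 0 → ℤ))) := Module.subsingleton S _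
    exact ⟨fun a b _ => Subsingleton.elim a b, fun b => ⟨0, Subsingleton.elim _ _⟩⟩
  · haveI : Nontrivial (R ⧸ I) := Ideal.Quotient.nontrivial_iff.2 fun hIt => by
      have h1 := Ideal.mem_jacobson_bot.1 (hI (hIt ▸ Submodule.mem_top : (1 : R) ∈ I)) (-1)
      simp at h1
    obtain ⟨s, hs, hf⟩ := h
    obtain ⟨m, hm⟩ := Ideal.exists_maximal (R ⧸ I)
    obtain ⟨f, hfs, hfm⟩ : ∃ f ∈ s, f ∉ m := by
      by_contra hcon
      push Not at hcon
      exact hm.ne_top (top_le_iff.1 (hs ▸ Ideal.span_le.2 hcon))
    let L := Localization.Away f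
    haveI : Nontrivial L := by
      rw [← not_subsingleton_iff_nontrivial,
        IsLocalization.subsingleton_iff (M := Submonoid.powers f) (S := L)]
      rintro ⟨k, hk⟩
      exact hfm (hm.isPrime.mem_of_pow_mem k
        (by rw [show f ^ k = 0 from hk]; exact m.zero_mem))
    obtain ⟨R'', _, _, hff'', n, ⟨d⟩⟩ := hf f hfs
    haveI := hff''
    haveI : Nontrivial R'' :=
      (FaithfulSMul.algebraMap_injective L R'').nontrivial
    letI : Algebra (R ⧸ I) R'' :=
      ((algebraMap L R'').comp (algebraMap (R ⧸ I) L)).toAlgebra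
    haveI : IsScalarTower (R ⧸ I) L R'' := IsScalarTower.of_algebraMap_eq fun _ => rfl
    letI : Algebra R R'' :=
      ((algebraMap (R ⧸ I) R'').comp (algebraMap R (R ⧸ I))).toAlgebra
    haveI : IsScalarTower R (R ⧸ I) R'' := IsScalarTower.of_algebraMap_eq fun _ => rfl
    let d' : R'' ⊗[R] A ≃ₐc[R''] MonoidAlgebra R'' (Multiplicative (ULift.{u} (Fin n → ℤ))) :=
      ((cancelBialg R (R ⧸ I) R'' A).symm.trans
        ((cancelBialg (R ⧸ I) L R'' ((R ⧸ I) ⊗[R] A)).symm.trans d)).trans
          (mapEquiv R'' (AddEquiv.toMultiplicative AddEquiv.ulift.symm))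
    let W := T ⊗[R] R''
    haveI : Nontrivial W :=
      (Module.FaithfullyFlat.tensorProduct_mk_injective (A := R) (B := T) R'').nontrivial
    obtain ⟨w, hw⟩ := Ideal.exists_maximal W
    let K := W ⧸ w
    letI : Algebra R'' K := ((Ideal.Quotient.mk w).comp
      (Algebra.TensorProduct.includeRight : R'' →ₐ[R] W).toRingHom).toAlgebra
    haveI : IsScalarTower R R'' K := IsScalarTower.of_algebraMap_eq fun r =>
      congrArg (Ideal.Quotient.mk w)
        ((Algebra.TensorProduct.includeRight : R'' →ₐ[R] W).commutes r).symm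
    letI : Field K := Ideal.Quotient.field w
    obtain ⟨g⟩ := type_unique ((splitEquiv e K).trans (splitEquiv d' K).symm)
    exact isTorus_of_type e n fun S _ _ =>
      ⟨mapEquiv S (g.trans (AddEquiv.toMultiplicative AddEquiv.ulift))⟩

end Groth.L25.Char
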