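import Groth.Agent.L25.Char.ModelLocal
import Groth.Agent.L25.Char.AdicClopen
import Groth.Agent.L25.Char.AdicConnected
import Groth.Agent.L25.Char.EtaleSplit
import Groth.Agent.L25.MultType.Isotrivial
import Groth.Agent.L01.AdicNoeth
import Mathlib.RingTheory.AdicCompletion.LocalRing
import Mathlib.RingTheory.AdicCompletion.AsTensorProduct
import Mathlib.RingTheory.Unramified.Finite
import Mathlib.RingTheory.Spectrum.Prime.Topology

/-!
# Groups over a local ring with closed fibre of multiplicative type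

After a local faithfully flat extension such a group has an open and closed isotrivial subgroup
containing the closed fibre.
-/

set_option autoImplicit false

universe u

open TensorProduct

namespace Groth.L25.Char

open Groth.L25.MultType

theorem isIsotrivial_of_field {k : Type u} [Field k] {A : Type u} [CommRing A] [HopfAlgebra k A]
    [Algebra.FiniteType k A] (h : SGA3b.IsMultType k A) : SGA3b.IsIsotrivial k A := by
  obtain ⟨B, _, _, _, q, hq, -, M, hM, -, ⟨e⟩⟩ := exists_etale_split h (⊥ : Ideal k)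
  haveI : Nontrivial B := ⟨0, 1, fun h => hq.ne_top ((Ideal.eq_top_iff_one _).2 (h ▸ q.zero_mem))⟩
  haveI : Module.Finite k B := Algebra.FormallyUnramified.finite_of_free k B
  exact ⟨B, inferInstance, inferInstance, inferInstance, inferInstance, inferInstance, M, hM, ⟨e⟩⟩

/-- Multiplicative type transfers along bialgebra equivalences. -/
theorem isMultType_of_bialgEquiv {R A B : Type u} [CommRing R] [CommRing A] [HopfAlgebra R A]
    [CommRing B] [HopfAlgebra R B] (e : A ≃ₐc[R] B) (h : SGA3b.IsMultType R A) :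
    SGA3b.IsMultType R B := by
  obtain ⟨s, hs, hf⟩ := h
  refine ⟨s, hs, fun f hfs => ?_⟩
  obtain ⟨R', i₁, i₂, hff, hd⟩ := hf f hfs
  exact ⟨R', i₁, i₂, hff,
    isDiag_of_bialgEquiv (baseChangeEquiv _ R' (baseChangeEquiv R (Localization.Away f) e)) hd⟩

/-- Multiplicative type descends along a faithfully flat extension with local top. -/
theorem isMultType_descend {k K : Type u} [CommRing k] [CommRing K] [IsLocalRing K] [Algebra k K]
    [Module.FaithfullyFlat k K] {A : Type u} [CommRing A] [HopfAlgebra k A]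
    (h : SGA3b.IsMultType K (K ⊗[k] A)) : SGA3b.IsMultType k A := by
  obtain ⟨T, _, _, -, -, hff, hd⟩ := exists_local_split h
  haveI := hff
  letI : Algebra k T := ((algebraMap K T).comp (algebraMap k K)).toAlgebra
  haveI : IsScalarTower k K T := IsScalarTower.of_algebraMap_eq fun _ => rfl
  haveI : Module.FaithfullyFlat k T := Module.FaithfullyFlat.trans k K T
  exact isMultType_of_split (R' := T) (isDiag_of_bialgEquiv (cancelBialg k K T A) hd)

/-- Flatness along the closed fibre is stable under base change. -/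
theorem flat_baseChange_nhd {R S C : Type u} [CommRing R] [CommRing S] [Algebra R S] [CommRing C]
    [Algebra R C] [Algebra.FinitePresentation R C] (I : Ideal R) (J : Ideal S)
    (hIJ : I.map (algebraMap R S) ≤ J)
    (hfl : ∀ (q : Ideal C) [q.IsPrime], I.map (algebraMap R C) ≤ q →
      Module.Flat R (Localization.AtPrime q))
    (q : Ideal (S ⊗[R] C)) [q.IsPrime] (hq : J.map (algebraMap S (S ⊗[R] C)) ≤ q) :
    Module.Flat S (Localization.AtPrime q) := by
  obtain ⟨g, hg, hgf⟩ := Model.exists_flat_nhd (I.map (algebraMap R C)) hfl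
  haveI := hgf
  obtain ⟨d⟩ := Model.nonempty_loc_tensor (T := S) (U := R) g
  haveI : Module.Flat S (Localization.Away ((1 : S) ⊗ₜ[R] g)) :=
    Module.Flat.of_linearEquiv d.toLinearEquiv
  have hnq : (1 : S) ⊗ₜ[R] g ∉ q := by
    intro hgq
    have hle : I.map (algebraMap R C) ≤
        q.comap (Algebra.TensorProduct.includeRight (R := R) (A := S) (B := C)) :=
      Ideal.map_le_iff_le_comap.2 fun r hr => by
        rw [Ideal.mem_comap, Ideal.mem_comap, AlgHom.commutes,
          IsScalarTower.algebraMap_apply R S (S ⊗[R] C)]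
        exact hq (Ideal.mem_map_of_mem _ (hIJ (Ideal.mem_map_of_mem _ hr)))
    obtain ⟨b, hb⟩ := Ideal.Quotient.mk_surjective (hg.unit⁻¹ : (C ⧸ I.map (algebraMap R C))ˣ).val
    have h1 : g * b - 1 ∈ I.map (algebraMap R C) := by
      rw [← Ideal.Quotient.eq, map_mul, map_one, hb, IsUnit.mul_val_inv]
    have h2 := hle h1
    rw [Ideal.mem_comap, map_sub, map_mul, map_one] at h2
    exact (‹q.IsPrime›).ne_top ((Ideal.eq_top_iff_one _).2
      ((q.sub_mem_iff_right (Ideal.mul_mem_right _ _ hgq)).1 h2))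
  exact (Model.flat_localization_iff (R := S) q.primeCompl (Localization.AtPrime q)).2
    (Groth.L20.flat_localizedModule_of_le (Submonoid.powers_le.2 hnq)
      ((Model.flat_localization_iff (Submonoid.powers ((1 : S) ⊗ₜ[R] g))
        (Localization.Away ((1 : S) ⊗ₜ[R] g))).1 inferInstance))

/-- Isotriviality is stable under base change. -/
theorem isIsotrivial_baseChange {R S A : Type u} [CommRing R] [CommRing S] [Algebra R S]
    [CommRing A] [HopfAlgebra R A] (h : SGA3b.IsIsotrivial R A) :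
    SGA3b.IsIsotrivial S (S ⊗[R] A) := by
  obtain ⟨T, _, _, _, _, _, hd⟩ := h
  refine ⟨S ⊗[R] T, inferInstance, inferInstance, inferInstance, inferInstance, inferInstance, ?_⟩
  letI : Algebra T (S ⊗[R] T) := Algebra.TensorProduct.rightAlgebra
  haveI : IsScalarTower R T (S ⊗[R] T) := IsScalarTower.of_algebraMap_eq fun r => by
    change algebraMap R S r ⊗ₜ[R] (1 : T) = (1 : S) ⊗ₜ algebraMap R T r
    exact Algebra.TensorProduct.tmul_one_eq_one_tmul r
  exact isDiag_of_bialgEquiv (cancelBialg R S (S ⊗[R] T) A).symm (isDiag_of_tower (R' := T) hd)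

/-- The open and closed subgroup after base change. -/
theorem exists_clopen_baseChange {Rh S : Type u} [CommRing Rh] [CommRing S] [Algebra Rh S]
    {Ch : Type u} [CommRing Ch] [HopfAlgebra Rh Ch] {Ah : Type u} [CommRing Ah] [HopfAlgebra Rh Ah]
    (φ : Ch →ₐc[Rh] Ah) (hφ : Function.Surjective φ) (e : Ch) (he : IsIdempotentElem e)
    (hker : RingHom.ker (φ : Ch →ₐ[Rh] Ah) = Ideal.span {e}) (I : Ideal Rh) (J : Ideal S)
    (hIJ : I.map (algebraMap Rh S) ≤ J) (hmem : e ∈ I.map (algebraMap Rh Ch))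
    (hA : SGA3b.IsIsotrivial Rh Ah) {C : Type u} [CommRing C] [HopfAlgebra S C]
    (ε : S ⊗[Rh] Ch ≃ₐc[S] C) :
    ∃ (A : Type u) (_ : CommRing A) (_ : HopfAlgebra S A) (ψ : C →ₐc[S] A) (f : C),
      SGA3b.IsIsotrivial S A ∧ Function.Surjective ψ ∧ IsIdempotentElem f ∧
      RingHom.ker (ψ : C →ₐ[S] A) = Ideal.span {f} ∧ f ∈ J.map (algebraMap S C) := by
  let φS : S ⊗[Rh] Ch →ₐc[S] S ⊗[Rh] Ah := Bialgebra.TensorProduct.map (BialgHom.id S S) φ
  have hsurj : Function.Surjective φS :=
    LinearMap.lTensor_surjective S (g := (φ : Ch →ₐ[Rh] Ah).toLinearMap) hφ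
  have hk : ∀ z, φS z = 0 → z ∈ Ideal.span {(1 : S) ⊗ₜ[Rh] e} := by
    intro z hz
    have h1 := Algebra.TensorProduct.lTensor_ker (R := Rh) (A := S) (φ : Ch →ₐ[Rh] Ah) hφ
    have h2 : z ∈ RingHom.ker (Algebra.TensorProduct.map (AlgHom.id Rh S) (φ : Ch →ₐ[Rh] Ah)) := hz
    rw [h1, hker, Ideal.map_span, Set.image_singleton] at h2
    exact h2
  refine ⟨S ⊗[Rh] Ah, inferInstance, inferInstance, φS.comp (ε.symm : C →ₐc[S] S ⊗[Rh] Ch),
    ε ((1 : S) ⊗ₜ e), isIsotrivial_baseChange hA, hsurj.comp ε.symm.surjective, ?_, ?_, ?_⟩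
  · exact (he.map (Algebra.TensorProduct.includeRight (R := Rh) (A := S) (B := Ch))).map ε
  · refine le_antisymm (fun c hc => ?_) ((Ideal.span_singleton_le_iff_mem _).2 ?_)
    · obtain ⟨b, hb⟩ := Ideal.mem_span_singleton'.1 (hk (ε.symm c) hc)
      exact Ideal.mem_span_singleton'.2 ⟨ε b, by rw [← map_mul, hb]; exact ε.apply_symm_apply c⟩
    · change φS (ε.symm (ε ((1 : S) ⊗ₜ e))) = 0
      rw [BialgEquiv.symm_apply_apply]
      have he0 : e ∈ RingHom.ker (φ : Ch →ₐ[Rh] Ah) := by rw [hker]; exact Ideal.subset_span rfl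
      change (1 : S) ⊗ₜ[Rh] (φ e) = 0
      rw [show φ e = 0 from he0, TensorProduct.tmul_zero]
  · have hle : I.map (algebraMap Rh Ch) ≤ (J.map (algebraMap S C)).comap
        ((ε.toAlgEquiv.toAlgHom : S ⊗[Rh] Ch →+* C).comp
          (Algebra.TensorProduct.includeRight (R := Rh) (A := S) (B := Ch)).toRingHom) := by
      refine Ideal.map_le_iff_le_comap.2 fun r hr => ?_
      rw [Ideal.mem_comap, Ideal.mem_comap, RingHom.comp_apply]
      change ε.toAlgEquiv.toAlgHom
        (Algebra.TensorProduct.includeRight (algebraMap Rh Ch r)) ∈ _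
      rw [AlgHom.commutes, IsScalarTower.algebraMap_apply Rh S (S ⊗[Rh] Ch), AlgHom.commutes]
      exact Ideal.mem_map_of_mem _ (hIJ (Ideal.mem_map_of_mem _ hr))
    exact hle hmem

/-- A complete Noetherian ring and a local faithfully flat extension over a local homomorphism. -/
theorem exists_complete_cover {R₀ R : Type u} [CommRing R₀] [IsNoetherianRing R₀] [IsLocalRing R₀]
    [CommRing R] [IsLocalRing R] [Algebra R₀ R] [IsLocalHom (algebraMap R₀ R)] :
    ∃ (Rh : Type u) (_ : CommRing Rh) (_ : IsNoetherianRing Rh) (_ : Algebra R₀ Rh) (mh : Ideal Rh)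
      (_ : mh.IsMaximal) (_ : IsAdicComplete mh Rh) (R' : Type u) (_ : CommRing R')
      (_ : IsLocalRing R') (_ : Algebra R R') (_ : Algebra Rh R') (_ : Algebra R₀ R'),
      IsScalarTower R₀ R R' ∧ IsScalarTower R₀ Rh R' ∧ Module.FaithfullyFlat R R' ∧
      IsLocalHom (algebraMap R R') ∧
      (IsLocalRing.maximalIdeal R₀).map (algebraMap R₀ Rh) ≤ mh ∧
      mh.map (algebraMap Rh R') ≤ IsLocalRing.maximalIdeal R' := by
  let m₀ := IsLocalRing.maximalIdeal R₀
  have hm₀ : m₀.FG := IsNoetherian.noetherian m₀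
  let Rh := AdicCompletion m₀ R₀
  haveI : IsNoetherianRing Rh := Groth.L01.AdicNoeth.isNoetherianRing_adicCompletion m₀ hm₀
  haveI : IsAdicComplete (m₀.map (algebraMap R₀ Rh)) Rh := AdicCompletion.isAdicComplete_self m₀ hm₀
  haveI hmax : (m₀.map (algebraMap R₀ Rh)).IsMaximal :=
    AdicCompletion.isMaximal_map_of_le _ _ le_rfl hm₀
  let k := IsLocalRing.ResidueField R
  let l₀ : R₀ ⧸ m₀ →ₐ[R₀] k := Ideal.Quotient.liftₐ m₀ (Algebra.ofId R₀ k) fun r hr => by
    rw [Algebra.ofId_apply, IsScalarTower.algebraMap_apply R₀ R k]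
    exact (IsLocalRing.residue_eq_zero_iff _).2
      (map_nonunit (algebraMap R₀ R) r hr)
  let ψ : R ⊗[R₀] Rh →ₐ[R] k :=
    Algebra.TensorProduct.lift (Algebra.ofId R k) (l₀.comp (AdicCompletion.evalOneₐ m₀))
      fun _ _ => Commute.all _ _
  let P : Ideal (R ⊗[R₀] Rh) := RingHom.ker ψ
  haveI : P.IsPrime := RingHom.ker_isPrime ψ
  let R' := Localization.AtPrime P
  letI aRh : Algebra Rh R' := ((algebraMap (R ⊗[R₀] Rh) R').comp
    (Algebra.TensorProduct.includeRight (R := R₀) (A := R) (B := Rh)).toRingHom).toAlgebra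
  have htow : IsScalarTower R₀ Rh R' := IsScalarTower.of_algebraMap_eq fun r => by
    rw [RingHom.algebraMap_toAlgebra, RingHom.comp_apply]
    change algebraMap R₀ R' r = algebraMap (R ⊗[R₀] Rh) R'
      (Algebra.TensorProduct.includeRight (algebraMap R₀ Rh r))
    rw [AlgHom.commutes, ← IsScalarTower.algebraMap_apply]
  haveI : Module.Flat R R' := Module.Flat.trans R (R ⊗[R₀] Rh) R'
  haveI hloc : IsLocalHom (algebraMap R R') := by
    constructor
    intro r hr
    rw [IsScalarTower.algebraMap_apply R (R ⊗[R₀] Rh) R',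
      IsLocalization.AtPrime.isUnit_to_map_iff R' P] at hr
    refine of_not_not fun hn => hr ?_
    change ψ (algebraMap R (R ⊗[R₀] Rh) r) = 0
    rw [AlgHom.commutes]
    exact (IsLocalRing.residue_eq_zero_iff r).2 hn
  refine ⟨Rh, inferInstance, inferInstance, inferInstance, m₀.map (algebraMap R₀ Rh), hmax,
    inferInstance, R', inferInstance, inferInstance, inferInstance, aRh, inferInstance,
    inferInstance, htow, @Module.FaithfullyFlat.of_flat_of_isLocalHom R R' _ _ _ _ _ _ _, hloc,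
    le_rfl, ?_⟩
  refine Ideal.map_le_iff_le_comap.2 fun y hy => ?_
  intro hu
  rw [RingHom.algebraMap_toAlgebra, RingHom.comp_apply,
    IsLocalization.AtPrime.isUnit_to_map_iff R' P] at hu
  refine hu ?_
  change ψ ((1 : R) ⊗ₜ[R₀] y) = 0
  rw [Algebra.TensorProduct.lift_tmul, map_one, one_mul]
  have h1 : AdicCompletion.evalOneₐ m₀ y = 0 := by
    rw [← RingHom.mem_ker]
    exact (AdicCompletion.ker_evalOneₐ_eq_map m₀ hm₀).symm ▸ hy
  change l₀ (AdicCompletion.evalOneₐ m₀ y) = 0
  rw [h1, map_zero]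

/-- Comparison of the base changes of a model. -/
noncomputable def modelEquiv {R₀ Rh R S : Type u} [CommRing R₀] [CommRing Rh] [CommRing R]
    [CommRing S] [Algebra R₀ Rh] [Algebra R₀ R] [Algebra Rh S] [Algebra R S] [Algebra R₀ S]
    [IsScalarTower R₀ Rh S] [IsScalarTower R₀ R S] {C₀ : Type u} [CommRing C₀]
    [HopfAlgebra R₀ C₀] {C : Type u} [CommRing C] [HopfAlgebra R C]
    (e₀ : R ⊗[R₀] C₀ ≃ₐc[R] C) : S ⊗[Rh] (Rh ⊗[R₀] C₀) ≃ₐc[S] S ⊗[R] C :=
  (cancelBialg R₀ Rh S C₀).trans ((cancelBialg R₀ R S C₀).symm.trans (baseChangeEquiv R S e₀))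

/-- The closed fibre of a model. -/
theorem isIsotrivial_fibre {Rh S : Type u} [CommRing Rh] [CommRing S] [IsLocalRing S]
    [Algebra Rh S] (mh : Ideal Rh) [mh.IsMaximal]
    (hm : mh.map (algebraMap Rh S) ≤ IsLocalRing.maximalIdeal S) {Ch : Type u} [CommRing Ch]
    [HopfAlgebra Rh Ch] [Algebra.FiniteType Rh Ch] {C : Type u} [CommRing C] [HopfAlgebra S C]
    (ε : S ⊗[Rh] Ch ≃ₐc[S] C)
    (h : SGA3b.IsMultType (IsLocalRing.ResidueField S) (IsLocalRing.ResidueField S ⊗[S] C)) :
    SGA3b.IsIsotrivial (Rh ⧸ mh) ((Rh ⧸ mh) ⊗[Rh] Ch) := by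
  letI : Field (Rh ⧸ mh) := Ideal.Quotient.field mh
  let K := IsLocalRing.ResidueField S
  letI : Algebra (Rh ⧸ mh) K := (Ideal.Quotient.lift mh (algebraMap Rh K) fun y hy => by
    rw [IsScalarTower.algebraMap_apply Rh S K]
    exact (IsLocalRing.residue_eq_zero_iff _).2 (hm (Ideal.mem_map_of_mem _ hy))).toAlgebra
  haveI : IsScalarTower Rh (Rh ⧸ mh) K := IsScalarTower.of_algebraMap_eq fun r => rfl
  refine isIsotrivial_of_field (k := Rh ⧸ mh) (isMultType_descend (K := K) ?_)
  exact isMultType_of_bialgEquiv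
    (((cancelBialg Rh (Rh ⧸ mh) K Ch).trans (cancelBialg Rh S K Ch).symm).trans
      (baseChangeEquiv S K ε)).symm h

/-- The closed fibre after a local extension. -/
theorem isMultType_fibre {R S : Type u} [CommRing R] [IsLocalRing R] [CommRing S] [IsLocalRing S]
    [Algebra R S] [IsLocalHom (algebraMap R S)] {C : Type u} [CommRing C] [HopfAlgebra R C]
    (hs : SGA3b.IsMultType (IsLocalRing.ResidueField R) (IsLocalRing.ResidueField R ⊗[R] C)) :
    SGA3b.IsMultType (IsLocalRing.ResidueField S)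
      (IsLocalRing.ResidueField S ⊗[S] (S ⊗[R] C)) := by
  let k := IsLocalRing.ResidueField R
  let K := IsLocalRing.ResidueField S
  letI : Algebra k K := (IsLocalRing.ResidueField.map (algebraMap R S)).toAlgebra
  haveI : IsScalarTower R k K := IsScalarTower.of_algebraMap_eq fun r => rfl
  exact isMultType_of_bialgEquiv ((cancelBialg R k K C).trans (cancelBialg R S K C).symm)
    (isMultType_baseChange (T := K) hs)

/-- The open and closed isotrivial subgroup after a local faithfully flat extension. -/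
theorem exists_clopen_local {R : Type u} [CommRing R] [IsLocalRing R] (C : Type u) [CommRing C]
    [HopfAlgebra R C] (hfp : Algebra.FinitePresentation R C)
    (hfl : ∀ (q : Ideal C) [q.IsPrime],
      Ideal.map (algebraMap R C) (IsLocalRing.maximalIdeal R) ≤ q →
      Module.Flat R (Localization.AtPrime q))
    (hs : SGA3b.IsMultType (IsLocalRing.ResidueField R) (IsLocalRing.ResidueField R ⊗[R] C)) :
    ∃ (R' : Type u) (_ : CommRing R') (_ : Algebra R R') (_ : IsLocalRing R')
      (A : Type u) (_ : CommRing A) (_ : HopfAlgebra R' A) (φ : R' ⊗[R] C →ₐc[R'] A)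
      (e : R' ⊗[R] C),
      Module.FaithfullyFlat R R' ∧ SGA3b.IsIsotrivial R' A ∧ Function.Surjective φ ∧
      IsIdempotentElem e ∧ RingHom.ker (φ : R' ⊗[R] C →ₐ[R'] A) = Ideal.span {e} ∧
      e ∈ (IsLocalRing.maximalIdeal R').map (algebraMap R' (R' ⊗[R] C)) := by
  obtain ⟨R₀, _, _, _, _, _, C₀, _, _, hfp₀, hfl₀, ⟨e₀⟩⟩ := Model.exists_local_model C hfp hfl
  haveI := hfp₀
  obtain ⟨Rh, _, _, _, mh, _, _, R', _, _, _, _, _, htow₁, htow₂, hff, hloc, hm₀, hm⟩ :=
    exists_complete_cover (R₀ := R₀) (R := R)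
  haveI := htow₁
  haveI := htow₂
  haveI := hloc
  let ε : R' ⊗[Rh] (Rh ⊗[R₀] C₀) ≃ₐc[R'] R' ⊗[R] C := modelEquiv e₀
  have h0 := isIsotrivial_fibre (Rh := Rh) (S := R') mh hm (Ch := Rh ⊗[R₀] C₀) ε
    (isMultType_fibre (R := R) (S := R') hs)
  obtain ⟨Ah, _, _, φ, f, hA, hφ, hf, hker, hmem, -⟩ :=
    exists_clopen (R := Rh) (C := Rh ⊗[R₀] C₀) inferInstance
      (fun q _ hq => flat_baseChange_nhd (IsLocalRing.maximalIdeal R₀) mh hm₀ hfl₀ q hq) h0
  obtain ⟨A, _, _, φ', e', h1, h2, h3, h4, h5⟩ :=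
    exists_clopen_baseChange φ hφ f hf hker mh _ hm hmem hA ε
  exact ⟨R', inferInstance, inferInstance, inferInstance, A, inferInstance, inferInstance, φ', e',
    hff, h1, h2, h3, h4, h5⟩

/-- When the idempotent vanishes the group is of multiplicative type. -/
theorem isMultType_of_clopen_zero {R : Type u} [CommRing R] {C : Type u} [CommRing C]
    [HopfAlgebra R C] {R' : Type u} [CommRing R'] [Algebra R R'] [Module.FaithfullyFlat R R']
    {A : Type u} [CommRing A] [HopfAlgebra R' A] (φ : R' ⊗[R] C →ₐc[R'] A) (e : R' ⊗[R] C)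
    (hA : SGA3b.IsIsotrivial R' A) (hφ : Function.Surjective φ)
    (hker : RingHom.ker (φ : R' ⊗[R] C →ₐ[R'] A) = Ideal.span {e}) (he : e = 0) :
    SGA3b.IsMultType R C := by
  have hbij : Function.Bijective φ := by
    refine ⟨(injective_iff_map_eq_zero φ).2 fun c hc => ?_, hφ⟩
    have hmem : c ∈ RingHom.ker (φ : R' ⊗[R] C →ₐ[R'] A) := hc
    rw [hker, he, Ideal.span_singleton_eq_bot.2 rfl] at hmem
    exact hmem
  obtain ⟨T, _, _, _, _, hff, hd⟩ :=
    isIsotrivial_of_bialgEquiv (BialgEquiv.ofBijective φ hbij).symm hA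
  haveI := hff
  letI : Algebra R T := ((algebraMap R' T).comp (algebraMap R R')).toAlgebra
  haveI : IsScalarTower R R' T := IsScalarTower.of_algebraMap_eq fun _ => rfl
  haveI : Module.FaithfullyFlat R T := Module.FaithfullyFlat.trans R R' T
  exact isMultType_of_split (R' := T) (isDiag_of_bialgEquiv (cancelBialg R R' T C) hd)

/-- An idempotent of a base change vanishing at a rational point of a connected scheme is zero,
algebraic extensions. -/
theorem idem_eq_zero_of_rational_algebraic {k S : Type u} [Field k] [CommRing S] [Algebra k S]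
    [ConnectedSpace (PrimeSpectrum S)] (ε : S →ₐ[k] k) {F : Type u} [Field F] [Algebra k F]
    [Algebra.IsAlgebraic k F] {e : S ⊗[k] F} (he : IsIdempotentElem e)
    (h0 : Algebra.TensorProduct.lift ((Algebra.ofId k F).comp ε) (AlgHom.id k F)
      (fun _ _ => Commute.all _ _) e = 0) : e = 0 := by
  let π := PrimeSpectrum.comap (algebraMap S (S ⊗[k] F))
  let U : Set (PrimeSpectrum (S ⊗[k] F)) := PrimeSpectrum.basicOpen e
  have hU : IsClopen U := PrimeSpectrum.isClopen_iff.mpr ⟨e, he, rfl⟩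
  haveI : Algebra.IsIntegral S (S ⊗[k] F) := inferInstance
  have hclosed : IsClosedMap π :=
    PrimeSpectrum.isClosedMap_comap_of_isIntegral _ (algebraMap_isIntegral_iff.2 inferInstance)
  have himg : IsClopen (π '' U) :=
    ⟨hclosed _ hU.1, PrimeSpectrum.isOpenMap_comap_algebraMap_tensorProduct_of_field _ hU.2⟩
  rcases isClopen_iff.1 himg with h | h
  · refine he.eq_zero_of_isNilpotent ?_
    rw [← PrimeSpectrum.basicOpen_eq_bot_iff]
    exact SetLike.ext' (Set.image_eq_empty.1 h)
  · exfalso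
    let x₀ : PrimeSpectrum S := ⟨RingHom.ker ε, RingHom.ker_isPrime ε⟩
    obtain ⟨P, hP, hPx⟩ : x₀ ∈ π '' U := h ▸ Set.mem_univ x₀
    refine hP ?_
    let L : S ⊗[k] F →ₐ[k] F := Algebra.TensorProduct.lift ((Algebra.ofId k F).comp ε)
      (AlgHom.id k F) fun _ _ => Commute.all _ _
    have key : ∀ z, z - (1 : S) ⊗ₜ[k] L z ∈ P.asIdeal := by
      intro z
      induction z using TensorProduct.induction_on with
      | zero => simp
      | add a b ha hb =>
        rw [map_add, TensorProduct.tmul_add, add_sub_add_comm]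
        exact add_mem ha hb
      | tmul s t =>
        have h1 : s - algebraMap k S (ε s) ∈ P.asIdeal.comap (algebraMap S (S ⊗[k] F)) := by
          have hx := congrArg PrimeSpectrum.asIdeal hPx
          rw [show P.asIdeal.comap (algebraMap S (S ⊗[k] F)) = RingHom.ker ε from hx,
            RingHom.mem_ker, map_sub, AlgHom.commutes]
          exact sub_self _
        have h2 := P.asIdeal.mul_mem_right ((1 : S) ⊗ₜ[k] t) (Ideal.mem_comap.1 h1)
        rw [Algebra.TensorProduct.algebraMap_apply, Algebra.algebraMap_self, RingHom.id_apply,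
          Algebra.TensorProduct.tmul_mul_tmul, mul_one, one_mul, TensorProduct.sub_tmul,
          Algebra.algebraMap_eq_smul_one (ε s), TensorProduct.smul_tmul] at h2
        convert h2 using 2
        rw [show L (s ⊗ₜ t) = algebraMap k F (ε s) * t from rfl, ← Algebra.smul_def]
    have h3 := key e
    rw [show L e = 0 from h0, TensorProduct.tmul_zero, sub_zero] at h3
    exact h3

end Groth.L25.Char
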