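import Groth.Agent.L25.Char.DescentApply
import Mathlib.RingTheory.Flat.Stability

/-!
# Lifting quasi-isotrivial groups along nil ideals
-/

set_option autoImplicit false

universe u

open TensorProduct Groth.L25.MultType

namespace Groth.L25.Char.Descent

/-- A splitting family of étale algebras. -/
theorem exists_lift_family {R : Type u} [CommRing R] (I : Ideal R) (hI : ∀ x ∈ I, IsNilpotent x)
    {B : Type u} [CommRing B] [HopfAlgebra (R ⧸ I) B] (h0 : SGA3b.IsQuasiIsotrivial (R ⧸ I) B) :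
    ∃ (ι : Type u) (_ : Fintype ι) (T : ι → Type u) (_ : ∀ i, CommRing (T i))
      (_ : ∀ i, Algebra R (T i)) (f : ι → R),
      Ideal.span (Set.range f) = ⊤ ∧ (∀ i, Algebra.Etale R (T i)) ∧
      (∀ i, ∀ p : PrimeSpectrum R, f i ∉ p.asIdeal →
        p ∈ Set.range (PrimeSpectrum.comap (algebraMap R (T i)))) ∧
      ∀ i, SGA3b.IsDiag ((R ⧸ I) ⊗[R] T i) (((R ⧸ I) ⊗[R] T i) ⊗[R ⧸ I] B) := by
  classical
  obtain ⟨s, hs, h⟩ := h0
  obtain ⟨t, hts, ht⟩ :=
    Submodule.mem_span_finite_of_mem_span (show (1 : R ⧸ I) ∈ Ideal.span s from hs ▸ trivial)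
  have key : ∀ i : (↑t : Set (R ⧸ I)), ∃ (T : Type u) (_ : CommRing T) (_ : Algebra R T),
      Algebra.Etale R T ∧ (∀ p : PrimeSpectrum R, (Ideal.Quotient.mk_surjective (i : R ⧸ I)).choose
        ∉ p.asIdeal → p ∈ Set.range (PrimeSpectrum.comap (algebraMap R T))) ∧
      SGA3b.IsDiag ((R ⧸ I) ⊗[R] T) (((R ⧸ I) ⊗[R] T) ⊗[R ⧸ I] B) := by
    rintro ⟨g, hg⟩
    obtain ⟨R₀, _, _, het, hff, hd⟩ := h g (hts hg)
    letI : Algebra (R ⧸ I) R₀ := ((algebraMap (Localization.Away g) R₀).comp
      (algebraMap (R ⧸ I) (Localization.Away g))).toAlgebra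
    haveI : IsScalarTower (R ⧸ I) (Localization.Away g) R₀ :=
      IsScalarTower.of_algebraMap_eq fun _ => rfl
    haveI : Algebra.Etale (R ⧸ I) (Localization.Away g) := Algebra.Etale.of_isLocalizationAway g
    haveI : Algebra.Etale (R ⧸ I) R₀ := Algebra.Etale.comp (R ⧸ I) (Localization.Away g) R₀
    obtain ⟨T, _, _, hT, ⟨θ⟩⟩ := Groth.L27.EtaleLift.exists_lift R I R₀
    refine ⟨T, inferInstance, inferInstance, hT, fun p hp => ?_,
      isDiag_reduction I (isDiag_of_bialgEquiv
        (cancelBialg (R ⧸ I) (Localization.Away g) R₀ B) hd) θ⟩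
    have hIp : I ≤ p.asIdeal := fun x hx =>
      nilradical_le_prime p.asIdeal (mem_nilradical.2 (hI x hx))
    obtain ⟨q, hq⟩ : p ∈ Set.range (PrimeSpectrum.comap (Ideal.Quotient.mk I)) := by
      rw [range_comap_of_surjective _ _ Ideal.Quotient.mk_surjective]
      simpa [Ideal.mk_ker] using hIp
    have hgq : g ∉ q.asIdeal := by
      intro hgq
      apply hp
      have hh : (Ideal.Quotient.mk_surjective g).choose ∈
          (PrimeSpectrum.comap (Ideal.Quotient.mk I) q).asIdeal := by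
        change Ideal.Quotient.mk I (Ideal.Quotient.mk_surjective g).choose ∈ q.asIdeal
        rwa [(Ideal.Quotient.mk_surjective g).choose_spec]
      rwa [hq] at hh
    obtain ⟨q', hq'⟩ : q ∈
        Set.range (PrimeSpectrum.comap (algebraMap (R ⧸ I) (Localization.Away g))) := by
      rw [PrimeSpectrum.localization_away_comap_range (Localization.Away g) g]
      exact hgq
    obtain ⟨w, hw⟩ :=
      PrimeSpectrum.comap_surjective_of_faithfullyFlat (A := Localization.Away g) (B := R₀) q'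
    letI : Algebra R R₀ := ((algebraMap (R ⧸ I) R₀).comp (Ideal.Quotient.mk I)).toAlgebra
    haveI : IsScalarTower R (R ⧸ I) R₀ := IsScalarTower.of_algebraMap_eq fun _ => rfl
    let ψ : T →ₐ[R] R₀ := ((θ : (R ⧸ I) ⊗[R] T →ₐ[R ⧸ I] R₀).restrictScalars R).comp (red I T)
    refine ⟨PrimeSpectrum.comap ψ.toRingHom w, ?_⟩
    rw [← hq, ← hq', ← hw, ← PrimeSpectrum.comap_comp_apply, ← PrimeSpectrum.comap_comp_apply,
      ← PrimeSpectrum.comap_comp_apply]
    exact congrArg (fun f => PrimeSpectrum.comap f w) ψ.comp_algebraMap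
  choose T _ _ hT hp hd using key
  refine ⟨(↑t : Set (R ⧸ I)), inferInstance, T, inferInstance, inferInstance,
    fun i => (Ideal.Quotient.mk_surjective (i : R ⧸ I)).choose, ?_, hT, hp, hd⟩
  refine (Ideal.eq_top_iff_one _).2 ?_
  by_contra hcon
  obtain ⟨m, hm, hle⟩ := Ideal.exists_le_maximal (Ideal.span (Set.range
    fun i : (↑t : Set (R ⧸ I)) => (Ideal.Quotient.mk_surjective (i : R ⧸ I)).choose)) (fun h => hcon (by rw [h]; exact Submodule.mem_top))
  have hIm : I ≤ m := fun x hx =>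
    haveI := hm.isPrime
    nilradical_le_prime m (mem_nilradical.2 (hI x hx))
  have hne : m.map (Ideal.Quotient.mk I) ≠ ⊤ := by
    intro he
    have h1 := congrArg (Ideal.comap (Ideal.Quotient.mk I)) he
    rw [Ideal.comap_map_of_surjective _ Ideal.Quotient.mk_surjective, ← RingHom.ker_eq_comap_bot,
      Ideal.mk_ker, sup_eq_left.2 hIm, Ideal.comap_top] at h1
    exact hm.ne_top h1
  refine hne ((Ideal.eq_top_iff_one _).2 ?_)
  refine Submodule.span_le.2 ?_ ht
  intro g hg
  rw [← (Ideal.Quotient.mk_surjective g).choose_spec]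
  exact Ideal.mem_map_of_mem _ (hle (Ideal.subset_span (Set.mem_range_self (⟨g, hg⟩ : (↑t : Set (R ⧸ I))))))

/-- Quasi-isotrivial groups lift along nil ideals. -/
theorem exists_quasiIsotrivial_lift {R : Type u} [CommRing R] (I : Ideal R)
    (hI : ∀ x ∈ I, IsNilpotent x) {B : Type u} [CommRing B] [HopfAlgebra (R ⧸ I) B]
    (h0 : SGA3b.IsQuasiIsotrivial (R ⧸ I) B) :
    ∃ (A : Type u) (_ : CommRing A) (_ : HopfAlgebra R A), SGA3b.IsQuasiIsotrivial R A ∧
      Nonempty ((R ⧸ I) ⊗[R] A ≃ₐc[R ⧸ I] B) := by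
  classical
  obtain ⟨ι, _, T, _, _, f, hf, hT, hp, hd⟩ := exists_lift_family I hI h0
  choose M hM he using hd
  haveI : ∀ i, Module.Flat R (T i) := fun i => inferInstance
  haveI : Module.Flat R (∀ i, T i) := Module.Flat.of_linearEquiv
    (DFinsupp.linearEquivFunOnFintype (R := R) (M := T)).symm
  haveI : Module.FaithfullyFlat R (∀ i, T i) := by
    refine Module.FaithfullyFlat.of_comap_surjective fun p => ?_
    obtain ⟨i, hi⟩ : ∃ i, f i ∉ p.asIdeal := by
      by_contra hcon
      push Not at hcon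
      exact p.isPrime.ne_top (top_le_iff.1 (hf ▸ Ideal.span_le.2 (by
        rintro _ ⟨i, rfl⟩
        exact hcon i)))
    obtain ⟨q, hq⟩ := hp i p hi
    refine ⟨PrimeSpectrum.comap (Pi.evalRingHom T i) q, ?_⟩
    rw [← hq, ← PrimeSpectrum.comap_comp_apply]
    rfl
  obtain ⟨A, _, _, hsplit, hred⟩ := exists_hopf_lift (T := T) (M := M) (I := I)
    (fun i => (he i).some) (fun i => goodHom_of_nil I hI (T i))
    (fun i j => goodHom_of_nil I hI (T i ⊗[R] T j))
    (fun i j k => goodHom_of_nil I hI (T i ⊗[R] (T j ⊗[R] T k)))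
  refine ⟨A, inferInstance, inferInstance, ⟨Set.range f, hf, ?_⟩, hred⟩
  rintro _ ⟨i, rfl⟩
  let L := Localization.Away (f i)
  haveI := hT i
  letI : Algebra (T i) (L ⊗[R] T i) := Algebra.TensorProduct.rightAlgebra
  haveI : IsScalarTower R (T i) (L ⊗[R] T i) := IsScalarTower.of_algebraMap_eq fun r => by
    change algebraMap R L r ⊗ₜ[R] (1 : T i) = (1 : L) ⊗ₜ algebraMap R (T i) r
    exact Algebra.TensorProduct.tmul_one_eq_one_tmul r
  refine ⟨L ⊗[R] T i, inferInstance, inferInstance, inferInstance, ?_, ?_⟩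
  · refine Module.FaithfullyFlat.of_comap_surjective fun P => ?_
    have hfP : f i ∉ (PrimeSpectrum.comap (algebraMap R L) P).asIdeal := by
      have : PrimeSpectrum.comap (algebraMap R L) P ∈
          Set.range (PrimeSpectrum.comap (algebraMap R L)) := ⟨P, rfl⟩
      rw [PrimeSpectrum.localization_away_comap_range L (f i)] at this
      exact this
    obtain ⟨q, hq⟩ := hp i _ hfP
    let K := q.asIdeal.ResidueField
    have hu : IsUnit (algebraMap R K (f i)) := by
      refine isUnit_iff_ne_zero.2 fun h0 => hfP ?_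
      rw [IsScalarTower.algebraMap_apply R (T i) K] at h0
      rw [← hq]
      change algebraMap R (T i) (f i) ∈ q.asIdeal
      exact Ideal.algebraMap_residueField_eq_zero.1 h0
    let g : L →ₐ[R] K := IsLocalization.liftAlgHom (M := Submonoid.powers (f i))
      (f := Algebra.ofId R K) fun y => by
        obtain ⟨n, hn⟩ := y.2
        rw [show (y : R) = f i ^ n from hn.symm, map_pow]
        exact hu.pow n
    let ψ : L ⊗[R] T i →ₐ[R] K :=
      Algebra.TensorProduct.lift g (IsScalarTower.toAlgHom R (T i) K) fun _ _ => Commute.all _ _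
    refine ⟨PrimeSpectrum.comap ψ.toRingHom ⟨⊥, Ideal.isPrime_bot⟩, ?_⟩
    refine PrimeSpectrum.localization_comap_injective L (Submonoid.powers (f i)) ?_
    rw [← PrimeSpectrum.comap_comp_apply, ← PrimeSpectrum.comap_comp_apply, ← hq]
    ext x
    change ψ (algebraMap R (L ⊗[R] T i) x) ∈ (⊥ : Ideal K) ↔ algebraMap R (T i) x ∈ q.asIdeal
    rw [AlgHom.commutes, IsScalarTower.algebraMap_apply R (T i) K, Ideal.mem_bot,
      Ideal.algebraMap_residueField_eq_zero]
  · obtain ⟨e⟩ := hsplit i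
    exact isDiag_of_bialgEquiv (cancelBialg R L (L ⊗[R] T i) A).symm
      (isDiag_of_tower (R' := T i) ⟨M i, hM i, ⟨e⟩⟩)

end Groth.L25.Char.Descent
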