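import Groth.Agent.L25.Char.EtaleLift
import Groth.Agent.L20.WeaklyEtale
import Mathlib.RingTheory.FiniteStability
import Mathlib.RingTheory.Finiteness.Descent
import Mathlib.RingTheory.Etale.Weakly
import Mathlib.GroupTheory.Finiteness

/-!
# A splitting extends to an étale neighbourhood
-/

set_option autoImplicit false

universe u

open TensorProduct

namespace Groth.L25.Char

open Groth.L25.MultType

variable {R A : Type u} [CommRing R] [CommRing A] [HopfAlgebra R A]

/-- A group algebra of a finitely generated commutative group is finitely presented. -/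
theorem finitePresentation_monoidAlgebra (T : Type u) [CommRing T] (M : Type u) [CommGroup M]
    [Monoid.FG M] : Algebra.FinitePresentation T (MonoidAlgebra T M) := by
  haveI : Algebra.FiniteType (ULift.{u} ℤ) (MonoidAlgebra (ULift.{u} ℤ) M) := inferInstance
  haveI : IsNoetherianRing (ULift.{u} ℤ) :=
    isNoetherianRing_of_ringEquiv ℤ ULift.ringEquiv.symm
  haveI : Algebra.FinitePresentation (ULift.{u} ℤ) (MonoidAlgebra (ULift.{u} ℤ) M) :=
    Algebra.FinitePresentation.of_finiteType.1 inferInstance
  letI : Algebra (ULift.{u} ℤ) T := ((Int.castRingHom T).comp ULift.ringEquiv.toRingHom).toAlgebra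
  exact Algebra.FinitePresentation.equiv (scalarBialg (ULift.{u} ℤ) T M).toAlgEquiv.symm

/-- A hom from an étale algebra to a flat algebra is flat. -/
theorem flat_of_etale (R B R' : Type u) [CommRing R] [CommRing B] [Algebra R B] [CommRing R']
    [Algebra R R']
    [Algebra B R'] [IsScalarTower R B R'] [Algebra.Etale R B] [Module.Flat R R'] :
    Module.Flat B R' :=
  Groth.L20.flat_of_flat_of_flat_lmul (R := R) (T := B)
    (Algebra.WeaklyEtale.flat_lmul' R B)

section local_target

variable {B R' : Type u} [CommRing B] [CommRing R'] [Algebra B R'] [IsLocalRing R']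
  [Module.Flat B R']

/-- An element vanishing in the local flat algebra is killed by an element invertible there. -/
theorem exists_unit_smul_eq_zero {N : Type u} [AddCommGroup N] [Module B N] (n : N)
    (h : (1 : R') ⊗ₜ[B] n = 0) : ∃ b : B, IsUnit (algebraMap B R' b) ∧ b • n = 0 := by
  by_contra hcon
  push Not at hcon
  let J : Ideal B := LinearMap.ker (LinearMap.toSpanSingleton B N n)
  have hJ : J.map (algebraMap B R') ≤ IsLocalRing.maximalIdeal R' :=
    Ideal.map_le_iff_le_comap.2 fun b hb hu => hcon b hu hb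
  let g : (B ⧸ J) →ₗ[B] N := Submodule.liftQ J (LinearMap.toSpanSingleton B N n) le_rfl
  have hg : Function.Injective g :=
    LinearMap.ker_eq_bot.1 (Submodule.ker_liftQ_eq_bot _ _ _ le_rfl)
  have h1 : g.lTensor R' ((1 : R') ⊗ₜ[B] Ideal.Quotient.mk J 1) = 0 := by
    have h3 : g (Ideal.Quotient.mk J 1) = n := by
      change LinearMap.toSpanSingleton B N n 1 = n
      rw [LinearMap.toSpanSingleton_apply, one_smul]
    rw [LinearMap.lTensor_tmul, h3, h]
  have h2 : ((1 : R') ⊗ₜ[B] Ideal.Quotient.mk J 1) = 0 :=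
    Module.Flat.lTensor_preserves_injective_linearMap (M := R') g hg (h1.trans (map_zero _).symm)
  have h4 := congrArg (TensorProduct.tensorQuotEquivQuotSMul R' J) h2
  rw [map_zero, TensorProduct.tensorQuotEquivQuotSMul_tmul_mk, one_smul,
    Submodule.Quotient.mk_eq_zero, Ideal.smul_top_eq_map] at h4
  exact (IsLocalRing.maximalIdeal.isMaximal R').ne_top
    ((Ideal.eq_top_iff_one _).2 (hJ h4))

/-- Finitely many such elements are killed simultaneously. -/
theorem exists_unit_smul_eq_zero_finset {N : Type u} [AddCommGroup N] [Module B N] (s : Finset N)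
    (h : ∀ n ∈ s, (1 : R') ⊗ₜ[B] n = 0) :
    ∃ b : B, IsUnit (algebraMap B R' b) ∧ ∀ n ∈ s, b • n = 0 := by
  classical
  induction s using Finset.induction_on with
  | empty => exact ⟨1, by simp, by simp⟩
  | @insert n s hn ih =>
    obtain ⟨b, hb, hbs⟩ := ih fun x hx => h x (Finset.mem_insert_of_mem hx)
    obtain ⟨c, hc, hcn⟩ := exists_unit_smul_eq_zero n (h n (Finset.mem_insert_self _ _))
    refine ⟨b * c, by rw [map_mul]; exact hb.mul hc, fun x hx => ?_⟩
    rcases Finset.mem_insert.1 hx with rfl | hx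
    · rw [mul_smul, hcn, smul_zero]
    · rw [mul_comm, mul_smul, hbs x hx, smul_zero]

end local_target

variable {R' : Type u} [CommRing R'] [Algebra R R'] [IsLocalRing R'] [Module.Flat R R']

/-- An étale algebra with a map to the given local algebra. -/
structure Nhd (R R' : Type u) [CommRing R] [CommRing R'] [Algebra R R'] where
  /-- The ring. -/
  B : Type u
  /-- Ring structure. -/
  [cr : CommRing B]
  /-- Algebra structure. -/
  [alg : Algebra R B]
  [etale : Algebra.Etale R B]
  /-- The point. -/
  ψ : B →ₐ[R] R'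

attribute [instance] Nhd.cr Nhd.alg Nhd.etale

/-- Shrinking a neighbourhood. -/
noncomputable abbrev Nhd.away (V : Nhd R R') (h : V.B) (hh : IsUnit (V.ψ h)) : Nhd R R' :=
  haveI : Algebra.Etale V.B (Localization.Away h) := Algebra.Etale.of_isLocalizationAway h
  haveI : Algebra.Etale R (Localization.Away h) := Algebra.Etale.comp R V.B (Localization.Away h)
  { B := Localization.Away h
    ψ := IsLocalization.liftAlgHom (M := Submonoid.powers h) (f := V.ψ) (by
      rintro ⟨_, n, rfl⟩
      simpa using hh.pow n) }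

/-- The map to a shrunk neighbourhood. -/
noncomputable def Nhd.toAway (V : Nhd R R') (h : V.B) (hh : IsUnit (V.ψ h)) :
    V.B →ₐ[R] (V.away h hh).B :=
  IsScalarTower.toAlgHom R V.B (Localization.Away h)

theorem Nhd.ψ_comp_toAway (V : Nhd R R') (h : V.B) (hh : IsUnit (V.ψ h)) :
    (V.away h hh).ψ.comp (V.toAway h hh) = V.ψ :=
  AlgHom.ext fun _ => IsLocalization.lift_eq _ _

theorem Nhd.isUnit_toAway (V : Nhd R R') (h : V.B) (hh : IsUnit (V.ψ h)) :
    IsUnit (V.toAway h hh h) :=
  IsLocalization.Away.algebraMap_isUnit (S := Localization.Away h) h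

variable {M : Type u} [CommGroup M]

/-- Finitely many characters extend simultaneously. -/
theorem exists_nhd_chars [Module.Projective R A] {S : Type u} [CommRing S] [Algebra R S]
    [Module.FaithfullyFlat R S] {N : Type u} [CommGroup N]
    (eS : S ⊗[R] A ≃ₐc[S] MonoidAlgebra S N) (e : R' ⊗[R] A ≃ₐc[R'] MonoidAlgebra R' M)
    (t : Finset M) :
    ∃ V : Nhd R R', ∀ m ∈ t, ∃ x, IsGL R A V.B x ∧ mapT R A V.ψ x = splitElem e m := by
  classical
  induction t using Finset.induction_on with
  | empty => exact ⟨{ B := R, ψ := Algebra.ofId R R' }, by simp⟩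
  | @insert m t hm ih =>
    obtain ⟨V, hV⟩ := ih
    obtain ⟨B, _, _, _, ψ, x, hx, hxm⟩ := exists_etale_char eS e m
    haveI : Algebra.Etale R (V.B ⊗[R] B) := Algebra.Etale.comp R V.B (V.B ⊗[R] B)
    refine ⟨{ B := V.B ⊗[R] B, ψ := Algebra.TensorProduct.productMap V.ψ ψ }, fun m' hm' => ?_⟩
    rcases Finset.mem_insert.1 hm' with rfl | hm'
    · refine ⟨mapT R A Algebra.TensorProduct.includeRight x, hx.map _, ?_⟩
      rw [mapT_mapT]
      exact (congrArg (fun f => mapT R A f x) (Algebra.TensorProduct.productMap_right _ _)).trans hxm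
    · obtain ⟨y, hy, hym⟩ := hV m' hm'
      refine ⟨mapT R A Algebra.TensorProduct.includeLeft y, hy.map _, ?_⟩
      rw [mapT_mapT]
      exact (congrArg (fun f => mapT R A f y) (Algebra.TensorProduct.productMap_left _ _)).trans hym

theorem mapT_eq_cancel (V : Nhd R R') (z : V.B ⊗[R] A) :
    letI := V.ψ.toRingHom.toAlgebra
    haveI : IsScalarTower R V.B R' := IsScalarTower.of_algebraMap_eq fun r => (V.ψ.commutes r).symm
    Algebra.TensorProduct.cancelBaseChange R V.B R' R' A ((1 : R') ⊗ₜ[V.B] z) = mapT R A V.ψ z := by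
  letI := V.ψ.toRingHom.toAlgebra
  haveI : IsScalarTower R V.B R' := IsScalarTower.of_algebraMap_eq fun r => (V.ψ.commutes r).symm
  induction z using TensorProduct.induction_on with
  | zero => simp
  | tmul b a =>
    rw [Algebra.TensorProduct.cancelBaseChange_tmul, Algebra.smul_def, _root_.mul_one]
    rfl
  | add p q hp hq => rw [TensorProduct.tmul_add, map_add, hp, hq, map_add]

theorem exists_kill (V : Nhd R R') (s : Finset (V.B ⊗[R] A))
    (hs : ∀ z ∈ s, mapT R A V.ψ z = 0) :
    ∃ h : V.B, IsUnit (V.ψ h) ∧ ∀ z ∈ s, h • z = 0 := by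
  letI := V.ψ.toRingHom.toAlgebra
  haveI : IsScalarTower R V.B R' := IsScalarTower.of_algebraMap_eq fun r => (V.ψ.commutes r).symm
  haveI : Module.Flat V.B R' := flat_of_etale R V.B R'
  refine exists_unit_smul_eq_zero_finset (R' := R') s fun z hz => ?_
  refine (Algebra.TensorProduct.cancelBaseChange R V.B R' R' A).injective ?_
  rw [mapT_eq_cancel, hs z hz, map_zero]

theorem mapT_toAway_eq_zero (V : Nhd R R') {h : V.B} (hh : IsUnit (V.ψ h)) {N : Type u}
    [CommRing N] [Bialgebra R N] {z : V.B ⊗[R] N} (hz : h • z = 0) :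
    mapT R N (V.toAway h hh) z = 0 := by
  have := mapT_smul (R := R) (A := N) (V.toAway h hh) h z
  rw [hz, map_zero] at this
  exact (V.isUnit_toAway h hh).smul_eq_zero.1 this.symm

/-- The characters of a splitting over the local algebra. -/
noncomputable def splitChar (e : R' ⊗[R] A ≃ₐc[R'] MonoidAlgebra R' M) :
    M →* R' ⊗[R] A where
  toFun := splitElem e
  map_one' := by simp [splitElem, ← MonoidAlgebra.one_def]
  map_mul' a b := by
    simp only [splitElem, ← map_mul, MonoidAlgebra.single_mul_single, _root_.mul_one]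

/-- Characters defined on generators spread out. -/
theorem exists_nhd_charHom_of_chars (e : R' ⊗[R] A ≃ₐc[R'] MonoidAlgebra R' M) {t : Finset M}
    (ht : Submonoid.closure (t : Set M) = ⊤) [Monoid.FG M] (V : Nhd R R')
    (hV : ∀ m ∈ t, ∃ x, IsGL R A V.B x ∧ mapT R A V.ψ x = splitElem e m) :
    ∃ (V : Nhd R R') (χ : M →* GroupLike V.B (V.B ⊗[R] A)),
      ∀ m, mapT R A V.ψ (χ m).1 = splitElem e m := by
  classical
  choose x hx hxm using fun m : t => hV m m.2
  -- the presentation of the group algebra
  let π : MvPolynomial t V.B →ₐ[V.B] MonoidAlgebra V.B M :=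
    MvPolynomial.aeval fun m : t => MonoidAlgebra.single (m : M) (1 : V.B)
  have hπ : Function.Surjective π := by
    intro y
    induction y using MonoidAlgebra.induction_linear with
    | zero => exact ⟨0, map_zero _⟩
    | add p q hp hq =>
      obtain ⟨a, ha⟩ := hp
      obtain ⟨b, hb⟩ := hq
      exact ⟨a + b, by rw [map_add, ha, hb]⟩
    | single m r =>
      suffices ∃ p, π p = MonoidAlgebra.single m 1 by
        obtain ⟨p, hp⟩ := this
        exact ⟨r • p, by rw [map_smul, hp, MonoidAlgebra.smul_single', _root_.mul_one]⟩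
      have hm : m ∈ Submonoid.closure (t : Set M) := ht ▸ Submonoid.mem_top m
      induction hm using Submonoid.closure_induction with
      | mem m hm => exact ⟨MvPolynomial.X ⟨m, hm⟩, by simp [π]⟩
      | one => exact ⟨1, by rw [map_one]; rfl⟩
      | mul a b _ _ ha hb =>
        obtain ⟨p, hp⟩ := ha
        obtain ⟨q, hq⟩ := hb
        exact ⟨p * q, by rw [map_mul, hp, hq, MonoidAlgebra.single_mul_single, _root_.mul_one]⟩
  haveI := finitePresentation_monoidAlgebra V.B M
  obtain ⟨rel, hrel⟩ := Algebra.FinitePresentation.ker_fG_of_surjective π hπ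
  let f : MvPolynomial t V.B →ₐ[V.B] V.B ⊗[R] A := MvPolynomial.aeval x
  have hcomp : ∀ p, mapT R A V.ψ (f p) =
      MonoidAlgebra.lift R' (R' ⊗[R] A) M (splitChar e)
        (MonoidAlgebra.mapRingHom M (V.ψ : V.B →+* R') (π p)) := by
    intro p
    induction p using MvPolynomial.induction_on with
    | C b =>
      simp [f, π, Algebra.TensorProduct.algebraMap_apply, MonoidAlgebra.coe_algebraMap,
        Algebra.TensorProduct.one_def, TensorProduct.smul_tmul']
    | add p q hp hq => simp only [map_add, hp, hq]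
    | mul_X p m hp =>
      rw [map_mul, map_mul, hp, map_mul π, map_mul, map_mul]
      congr 1
      simp [f, π, hxm, splitChar]
  obtain ⟨h, hh, hkill⟩ := exists_kill V (rel.image f) (by
    intro z hz
    obtain ⟨p, hp, rfl⟩ := Finset.mem_image.1 hz
    have hp0 : π p = 0 := (show p ∈ RingHom.ker π.toRingHom from hrel ▸ Ideal.subset_span hp)
    rw [hcomp, hp0, map_zero, map_zero])
  let F : MvPolynomial t V.B →+* (V.away h hh).B ⊗[R] A :=
    (mapT R A (V.toAway h hh)).toRingHom.comp f.toRingHom
  have hF : RingHom.ker π.toRingHom ≤ RingHom.ker F := by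
    rw [← hrel, Ideal.span_le]
    intro p hp
    exact mapT_toAway_eq_zero V hh (hkill _ (Finset.mem_image_of_mem f hp))
  let G : MonoidAlgebra V.B M →+* (V.away h hh).B ⊗[R] A :=
    RingHom.liftOfSurjective π.toRingHom hπ ⟨F, hF⟩
  have hG : ∀ p, G (π p) = F p := fun p => RingHom.liftOfRightInverse_comp_apply _ _ _ _ p
  have hgl : ∀ m, IsGL R A (V.away h hh).B (G (MonoidAlgebra.single m 1)) := by
    intro m
    have hm : m ∈ Submonoid.closure (t : Set M) := ht ▸ Submonoid.mem_top m
    induction hm using Submonoid.closure_induction with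
    | mem m hm =>
      have : MonoidAlgebra.single m (1 : V.B) = π (MvPolynomial.X ⟨m, hm⟩) := by simp [π]
      rw [this, hG]
      simpa [F, f] using (hx ⟨m, hm⟩).map (V.toAway h hh)
    | one =>
      rw [show MonoidAlgebra.single (1 : M) (1 : V.B) = 1 from rfl, map_one]
      exact (isGL_iff R A _ _).2 IsGroupLikeElem.one
    | mul a b _ _ ha hb =>
      rw [← _root_.mul_one (1 : V.B), ← MonoidAlgebra.single_mul_single, map_mul]
      exact (isGL_iff R A _ _).2 (((isGL_iff R A _ _).1 ha).mul ((isGL_iff R A _ _).1 hb))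
  let χ : M →* GroupLike (V.away h hh).B ((V.away h hh).B ⊗[R] A) :=
    { toFun := fun m => ⟨G (MonoidAlgebra.single m 1), (isGL_iff R A _ _).1 (hgl m)⟩
      map_one' := GroupLike.ext (map_one G)
      map_mul' := fun a b => GroupLike.ext (by
        change G _ = G _ * G _
        rw [← map_mul, MonoidAlgebra.single_mul_single, _root_.mul_one]) }
  refine ⟨V.away h hh, χ, fun m => ?_⟩
  obtain ⟨p, hp⟩ := hπ (MonoidAlgebra.single m 1)
  change mapT R A (V.away h hh).ψ (G (MonoidAlgebra.single m 1)) = _
  rw [← hp, hG]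
  change mapT R A (V.away h hh).ψ (mapT R A (V.toAway h hh) (f p)) = _
  rw [mapT_mapT, V.ψ_comp_toAway, hcomp, hp]
  simp [splitChar]

/-- The characters spread out. -/
theorem exists_nhd_charHom [Monoid.FG M] [Module.Projective R A] {S : Type u} [CommRing S]
    [Algebra R S] [Module.FaithfullyFlat R S] {N : Type u} [CommGroup N]
    (eS : S ⊗[R] A ≃ₐc[S] MonoidAlgebra S N) (e : R' ⊗[R] A ≃ₐc[R'] MonoidAlgebra R' M) :
    ∃ (V : Nhd R R') (χ : M →* GroupLike V.B (V.B ⊗[R] A)),
      ∀ m, mapT R A V.ψ (χ m).1 = splitElem e m := by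
  obtain ⟨t, ht⟩ := Monoid.FG.fg_top (M := M)
  obtain ⟨V, hV⟩ := exists_nhd_chars eS e t
  exact exists_nhd_charHom_of_chars e ht V hV

/-- The map `B[M] → B ⊗ A` of a family of characters. -/
noncomputable def charMap {B : Type u} [CommRing B] [Algebra R B]
    (χ : M →* GroupLike B (B ⊗[R] A)) : MonoidAlgebra B M →ₐc[B] B ⊗[R] A :=
  (MonoidAlgebra.liftGroupLikeBialgHom).comp (MonoidAlgebra.mapDomainBialgHom B χ)

theorem charMap_single {B : Type u} [CommRing B] [Algebra R B]
    (χ : M →* GroupLike B (B ⊗[R] A)) (m : M) (b : B) :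
    charMap χ (MonoidAlgebra.single m b) = b • (χ m).1 := by
  simp [charMap]

theorem mapT_charMap (V : Nhd R R') (χ : M →* GroupLike V.B (V.B ⊗[R] A))
    (e : R' ⊗[R] A ≃ₐc[R'] MonoidAlgebra R' M) (hχ : ∀ m, mapT R A V.ψ (χ m).1 = splitElem e m)
    (z : MonoidAlgebra V.B M) :
    mapT R A V.ψ (charMap χ z) = e.symm (MonoidAlgebra.mapRingHom M (V.ψ : V.B →+* R') z) := by
  induction z using MonoidAlgebra.induction_linear with
  | zero => simp
  | add p q hp hq => simp only [map_add, hp, hq]
  | single m b =>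
    rw [charMap_single, mapT_smul, hχ, splitElem, ← map_smul]
    simp [MonoidAlgebra.smul_single']

/-- The characters can be assumed to generate. -/
theorem exists_nhd_surjective [Algebra.FiniteType R A] (V : Nhd R R')
    (χ : M →* GroupLike V.B (V.B ⊗[R] A)) (e : R' ⊗[R] A ≃ₐc[R'] MonoidAlgebra R' M)
    (hχ : ∀ m, mapT R A V.ψ (χ m).1 = splitElem e m) :
    ∃ (W : Nhd R R') (θ : M →* GroupLike W.B (W.B ⊗[R] A)),
      (∀ m, mapT R A W.ψ (θ m).1 = splitElem e m) ∧ Function.Surjective (charMap θ) := by
  classical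
  letI := V.ψ.toRingHom.toAlgebra
  haveI : IsScalarTower R V.B R' := IsScalarTower.of_algebraMap_eq fun r => (V.ψ.commutes r).symm
  haveI : Module.Flat V.B R' := flat_of_etale R V.B R'
  obtain ⟨gens, hgens⟩ := ‹Algebra.FiniteType R A›.out
  let L : MonoidAlgebra V.B M →ₗ[V.B] V.B ⊗[R] A := (charMap χ).toLinearMap
  obtain ⟨h, hh, hkill⟩ := exists_unit_smul_eq_zero_finset (R' := R')
    (gens.image fun a => (LinearMap.range L).mkQ ((1 : V.B) ⊗ₜ[R] a)) (by
    intro n hn
    obtain ⟨a, -, rfl⟩ := Finset.mem_image.1 hn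
    let c := Algebra.TensorProduct.cancelBaseChange R V.B R' R' A
    have key : ∀ w : MonoidAlgebra R' M,
        ((LinearMap.range L).mkQ).lTensor R' (c.symm (e.symm w)) = 0 := by
      intro w
      induction w using MonoidAlgebra.induction_linear with
      | zero => simp
      | add p q hp hq => simp only [map_add, hp, hq, add_zero]
      | single m r =>
        have h1 : c.symm (e.symm (MonoidAlgebra.single m r)) = r ⊗ₜ[V.B] (χ m).1 := by
          refine c.injective ?_
          rw [AlgEquiv.apply_symm_apply,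
            show r ⊗ₜ[V.B] (χ m).1 = r • ((1 : R') ⊗ₜ[V.B] (χ m).1) by
              rw [TensorProduct.smul_tmul', smul_eq_mul, _root_.mul_one],
            map_smul, mapT_eq_cancel, hχ, splitElem, ← map_smul, MonoidAlgebra.smul_single',
            _root_.mul_one]
        rw [h1, LinearMap.lTensor_tmul]
        have h2 : (LinearMap.range L).mkQ (χ m).1 = 0 := by
          rw [Submodule.mkQ_apply, Submodule.Quotient.mk_eq_zero]
          exact ⟨MonoidAlgebra.single m 1, by
            change charMap χ _ = _
            rw [charMap_single, one_smul]⟩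
        rw [h2, TensorProduct.tmul_zero]
    have := key (e ((1 : R') ⊗ₜ[R] a))
    rwa [show e.symm (e ((1 : R') ⊗ₜ[R] a)) = (1 : R') ⊗ₜ[R] a by simp,
      show c.symm ((1 : R') ⊗ₜ[R] a) = (1 : R') ⊗ₜ[V.B] ((1 : V.B) ⊗ₜ[R] a) from
        Algebra.TensorProduct.cancelBaseChange_symm_tmul .., LinearMap.lTensor_tmul] at this)
  have hh' : IsUnit (V.ψ h) := hh
  let j := V.toAway h hh'
  refine ⟨V.away h hh', (glMap R A j).comp χ, fun m => ?_, ?_⟩
  · change mapT R A _ (mapT R A j (χ m).1) = _
    rw [mapT_mapT, V.ψ_comp_toAway, hχ]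
  let θ := (glMap R A j).comp χ
  have hcompat : ∀ z, mapT R A j (charMap χ z) =
      charMap θ (MonoidAlgebra.mapRingHom M (j : V.B →+* (V.away h hh').B) z) := by
    intro z
    induction z using MonoidAlgebra.induction_linear with
    | zero => simp
    | add p q hp hq => simp only [map_add, hp, hq]
    | single m b => simp [charMap_single, mapT_smul, θ, glMap_val]
  let P : Subalgebra (V.away h hh').B ((V.away h hh').B ⊗[R] A) :=
    (charMap θ : MonoidAlgebra (V.away h hh').B M →ₐ[(V.away h hh').B] (V.away h hh').B ⊗[R] A).range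
  have hmem : ∀ a ∈ gens, (1 : (V.away h hh').B) ⊗ₜ[R] a ∈ P := by
    intro a ha
    have h1 := hkill _ (Finset.mem_image_of_mem _ ha)
    rw [← map_smul, Submodule.mkQ_apply, Submodule.Quotient.mk_eq_zero] at h1
    obtain ⟨z, hz⟩ := h1
    obtain ⟨u, hu⟩ := V.isUnit_toAway h hh'
    have h2 : (u : (V.away h hh').B) • ((1 : (V.away h hh').B) ⊗ₜ[R] a) ∈ P := by
      refine ⟨MonoidAlgebra.mapRingHom M (j : V.B →+* (V.away h hh').B) z, ?_⟩
      refine (hcompat z).symm.trans ?_
      rw [show charMap χ z = h • ((1 : V.B) ⊗ₜ[R] a) from hz, mapT_smul, hu]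
      simp [j]
    have h3 := P.smul_mem h2 (↑u⁻¹ : (V.away h hh').B)
    rwa [smul_smul, Units.inv_mul, one_smul] at h3
  have htop : P = ⊤ := by
    rw [eq_top_iff]
    rintro z -
    induction z using TensorProduct.induction_on with
    | zero => exact P.zero_mem
    | add p q hp hq => exact P.add_mem hp hq
    | tmul b a =>
      have : (1 : (V.away h hh').B) ⊗ₜ[R] a ∈ P := by
        have ha : a ∈ Algebra.adjoin R (gens : Set A) := hgens ▸ Algebra.mem_top
        refine Algebra.adjoin_induction (fun a ha => hmem a ha) (fun r => ?_)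
          (fun a b _ _ ha hb => ?_) (fun a b _ _ ha hb => ?_) ha
        · rw [← Algebra.TensorProduct.tmul_one_eq_one_tmul, ← Algebra.TensorProduct.includeLeft_apply
            (S := R)]
          exact P.algebraMap_mem _
        · rw [TensorProduct.tmul_add]; exact P.add_mem ha hb
        · rw [← _root_.mul_one (1 : (V.away h hh').B), ← Algebra.TensorProduct.tmul_mul_tmul]
          exact P.mul_mem ha hb
      have h4 := P.smul_mem this b
      rwa [TensorProduct.smul_tmul', smul_eq_mul, _root_.mul_one] at h4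
  intro y
  exact (show y ∈ P by rw [htop]; exact Algebra.mem_top)

/-- A splitting whose characters extend to an étale neighbourhood extends. -/
theorem exists_nhd_split_of_charHom [Monoid.FG M] [Algebra.FinitePresentation R A]
    (e : R' ⊗[R] A ≃ₐc[R'] MonoidAlgebra R' M) (V₀ : Nhd R R')
    (χ₀ : M →* GroupLike V₀.B (V₀.B ⊗[R] A)) (hχ₀ : ∀ m, mapT R A V₀.ψ (χ₀ m).1 = splitElem e m) :
    ∃ V : Nhd R R', Nonempty (V.B ⊗[R] A ≃ₐc[V.B] MonoidAlgebra V.B M) := by
  classical
  obtain ⟨V, χ, hχ, hsurj⟩ := exists_nhd_surjective V₀ χ₀ e hχ₀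
  letI := V.ψ.toRingHom.toAlgebra
  haveI : IsScalarTower R V.B R' := IsScalarTower.of_algebraMap_eq fun r => (V.ψ.commutes r).symm
  haveI : Module.Flat V.B R' := flat_of_etale R V.B R'
  haveI := finitePresentation_monoidAlgebra V.B M
  obtain ⟨K, hK⟩ := Algebra.FinitePresentation.ker_fG_of_surjective
    (charMap χ : MonoidAlgebra V.B M →ₐ[V.B] V.B ⊗[R] A) hsurj
  obtain ⟨h, hh, hkill⟩ := exists_unit_smul_eq_zero_finset (R' := R')
    (K.biUnion fun z => z.coeff.support.image fun m => z.coeff m) (by
    intro c hc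
    obtain ⟨z, hz, hc⟩ := Finset.mem_biUnion.1 hc
    obtain ⟨m, -, rfl⟩ := Finset.mem_image.1 hc
    have hz0 : charMap χ z = 0 :=
      (show z ∈ RingHom.ker (charMap χ : MonoidAlgebra V.B M →ₐ[V.B] V.B ⊗[R] A).toRingHom from
        hK ▸ Ideal.subset_span hz)
    have h1 := mapT_charMap V χ e hχ z
    rw [hz0, map_zero] at h1
    have h1 := e.symm.injective (h1.symm.trans (map_zero e.symm).symm)
    have h2 : V.ψ (z.coeff m) = 0 := by
      simpa using congrArg (fun w : MonoidAlgebra R' M => w.coeff m) h1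
    refine (TensorProduct.rid V.B R').injective ?_
    rw [TensorProduct.rid_tmul, map_zero, Algebra.smul_def, _root_.mul_one]
    exact h2)
  have hh' : IsUnit (V.ψ h) := hh
  refine ⟨V.away h hh', ?_⟩
  let L : (Localization.Away h) ⊗[V.B] MonoidAlgebra V.B M →ₐc[(Localization.Away h)] (Localization.Away h) ⊗[V.B] (V.B ⊗[R] A) :=
    Bialgebra.TensorProduct.map (BialgHom.id (Localization.Away h) (Localization.Away h)) (charMap χ)
  have hLe : ∀ z, L z = ((charMap χ).toLinearMap).lTensor (Localization.Away h) z := fun z => by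
    induction z using TensorProduct.induction_on with
    | zero => simp
    | tmul b a => rfl
    | add p q hp hq => simp only [map_add, hp, hq]
  have hL : Function.Bijective L := by
    refine ⟨(injective_iff_map_eq_zero L).2 fun z hz => ?_, fun y => ?_⟩
    · rw [hLe] at hz
      obtain ⟨w, rfl⟩ := (lTensor_exact (Localization.Away h) (LinearMap.exact_subtype_ker_map (charMap χ).toLinearMap)
        hsurj z).1 hz
      clear hz
      induction w using TensorProduct.induction_on with
      | zero => exact map_zero _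
      | add p q hp hq => rw [map_add, hp, hq, add_zero]
      | tmul b k =>
        have hk : (k : MonoidAlgebra V.B M) ∈
            RingHom.ker (charMap χ : MonoidAlgebra V.B M →ₐ[V.B] V.B ⊗[R] A).toRingHom :=
          LinearMap.mem_ker.1 k.2
        rw [← hK] at hk
        have hk2 : h • (k : MonoidAlgebra V.B M) = 0 := by
          refine Submodule.span_induction (fun z hz => ?_) (smul_zero h)
            (fun x y _ _ hx hy => by rw [smul_add, hx, hy, add_zero])
            (fun a x _ hx => by rw [smul_eq_mul, mul_comm, ← smul_mul_assoc, hx, zero_mul]) hk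
          refine MonoidAlgebra.ext (Finsupp.ext fun m => ?_)
          rw [MonoidAlgebra.coeff_smul, Finsupp.smul_apply]
          by_cases hm : m ∈ z.coeff.support
          · exact hkill _ (Finset.mem_biUnion.2 ⟨z, hz, Finset.mem_image_of_mem _ hm⟩)
          · rw [Finsupp.notMem_support_iff.1 hm, smul_zero]; rfl
        rw [LinearMap.lTensor_tmul, Submodule.subtype_apply]
        obtain ⟨u, hu⟩ := IsLocalization.Away.algebraMap_isUnit (S := (Localization.Away h)) h
        have hb : b = h • ((↑u⁻¹ : (Localization.Away h)) * b) := by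
          rw [Algebra.smul_def, ← mul_assoc, ← hu, Units.mul_inv, _root_.one_mul]
        rw [hb, TensorProduct.smul_tmul, hk2, TensorProduct.tmul_zero]
    · obtain ⟨z, hz⟩ := LinearMap.lTensor_surjective (Localization.Away h) (g := (charMap χ).toLinearMap) hsurj y
      exact ⟨z, (hLe z).trans hz⟩
  exact ⟨((scalarBialg V.B (Localization.Away h) M).trans ((BialgEquiv.ofBijective L hL).trans
    (cancelBialg R V.B (Localization.Away h) A))).symm⟩

/-- The splitting extends to an étale neighbourhood. -/
theorem exists_nhd_split [Monoid.FG M] [Module.Projective R A] [Algebra.FinitePresentation R A]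
    {S : Type u} [CommRing S] [Algebra R S] [Module.FaithfullyFlat R S] {N : Type u} [CommGroup N]
    (eS : S ⊗[R] A ≃ₐc[S] MonoidAlgebra S N) (e : R' ⊗[R] A ≃ₐc[R'] MonoidAlgebra R' M) :
    ∃ V : Nhd R R', Nonempty (V.B ⊗[R] A ≃ₐc[V.B] MonoidAlgebra V.B M) := by
  obtain ⟨V₀, χ₀, hχ₀⟩ := exists_nhd_charHom eS e
  exact exists_nhd_split_of_charHom e V₀ χ₀ hχ₀

end Groth.L25.Char
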