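import Groth.Agent.L25.Char.EtaleSplit
import Groth.Agent.L25.Char.Spread
import Groth.Agent.L27.EtaleLift
import Mathlib.RingTheory.Etale.Locus
import Mathlib.RingTheory.Spectrum.Prime.Chevalley

/-!
# Multiplicative type is local for the Zariski topology

A finitely presented Hopf algebra whose localisation at every prime is of multiplicative type is of
multiplicative type.
-/

set_option autoImplicit false

universe u

open TensorProduct

namespace Groth.L25.Char

open Groth.L25.MultType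

variable {R A : Type u} [CommRing R] [CommRing A] [HopfAlgebra R A]

/-- Etale splittings through all points give quasi-isotriviality. -/
theorem isQuasiIsotrivial_of_pointwise
    (h : ∀ (p : Ideal R) [p.IsPrime], ∃ (B : Type u) (_ : CommRing B) (_ : Algebra R B)
      (_ : Algebra.Etale R B) (q : Ideal B), q.IsPrime ∧ q.comap (algebraMap R B) = p ∧
        ∃ (M : Type u) (_ : CommGroup M), Monoid.FG M ∧
          Nonempty (B ⊗[R] A ≃ₐc[B] MonoidAlgebra B M)) :
    SGA3b.IsQuasiIsotrivial R A := by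
  refine ⟨{g | SGA3b.IsQuasiIsotrivialConst (Localization.Away g) (Localization.Away g ⊗[R] A)},
    ?_, fun g hg => hg⟩
  by_contra hcon
  obtain ⟨p, hp, hle⟩ := Ideal.exists_le_maximal _ hcon
  obtain ⟨B, _, _, _, q, hq, hqp, M, _, -, ⟨e⟩⟩ := h p
  have hopen : IsOpen (Set.range (PrimeSpectrum.comap (algebraMap R B))) := by
    rw [← Set.image_univ]
    exact PrimeSpectrum.isOpenMap_comap_of_hasGoingDown_of_finitePresentation _ isOpen_univ
  obtain ⟨_, ⟨g, rfl⟩, hg, hsub⟩ := PrimeSpectrum.isTopologicalBasis_basic_opens.exists_subset_of_mem_open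
    (a := (⟨p, hp.isPrime⟩ : PrimeSpectrum R)) (u := Set.range (PrimeSpectrum.comap (algebraMap R B)))
    ⟨⟨q, hq⟩, PrimeSpectrum.ext hqp⟩ hopen
  refine hg (hle (Ideal.subset_span ?_))
  let Rg := Localization.Away g
  let B' := Localization.Away (algebraMap R B g)
  let ρ : Rg →+* B' := IsLocalization.Away.lift g
    (g := (algebraMap B B').comp (algebraMap R B))
    (IsLocalization.Away.algebraMap_isUnit (S := B') (algebraMap R B g))
  letI : Algebra Rg B' := ρ.toAlgebra
  haveI : IsScalarTower R Rg B' := IsScalarTower.of_algebraMap_eq fun r => by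
    rw [IsScalarTower.algebraMap_apply R B B']
    exact (IsLocalization.Away.lift_eq g (g := (algebraMap B B').comp (algebraMap R B))
      (IsLocalization.Away.algebraMap_isUnit (S := B') (algebraMap R B g)) r).symm
  haveI : Algebra.Etale R Rg := Algebra.Etale.of_isLocalizationAway g
  haveI : Algebra.Etale B B' := Algebra.Etale.of_isLocalizationAway (algebraMap R B g)
  haveI : Algebra.Etale R B' := Algebra.Etale.comp R B B'
  haveI : Algebra.Etale Rg B' := Algebra.Etale.of_restrictScalars R Rg B'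
  haveI : Module.FaithfullyFlat Rg B' := by
    refine Module.FaithfullyFlat.of_comap_surjective fun x => ?_
    have hx : PrimeSpectrum.comap (algebraMap R Rg) x ∈ PrimeSpectrum.basicOpen g := by
      have := Set.mem_range_self (f := PrimeSpectrum.comap (algebraMap R Rg)) x
      rwa [PrimeSpectrum.localization_away_comap_range Rg g] at this
    obtain ⟨w, hw⟩ := hsub hx
    have hw' : w ∈ PrimeSpectrum.basicOpen (algebraMap R B g) := by
      rw [← hw] at hx
      exact hx
    rw [← SetLike.mem_coe, ← PrimeSpectrum.localization_away_comap_range B' (algebraMap R B g)]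
      at hw'
    obtain ⟨z, hz⟩ := hw'
    refine ⟨z, PrimeSpectrum.localization_comap_injective Rg (Submonoid.powers g) ?_⟩
    rw [← hw, ← hz, ← PrimeSpectrum.comap_comp_apply, ← PrimeSpectrum.comap_comp_apply,
      ← IsScalarTower.algebraMap_eq, ← IsScalarTower.algebraMap_eq]
  exact ⟨B', inferInstance, inferInstance, inferInstance, inferInstance, M, inferInstance,
    ⟨(cancelBialg R Rg B' A).trans (splitEquiv e B').symm⟩⟩

theorem isMultType_of_isQuasiIsotrivial (h : SGA3b.IsQuasiIsotrivial R A) :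
    SGA3b.IsMultType R A := by
  obtain ⟨s, hs, hq⟩ := h
  refine ⟨s, hs, fun f hf => ?_⟩
  obtain ⟨R', i₁, i₂, -, hff, hd⟩ := hq f hf
  exact ⟨R', i₁, i₂, hff, hd⟩

section chars

variable {R' : Type u} [CommRing R'] [Algebra R R'] [IsLocalRing R'] [Module.Flat R R']
  {M : Type u} [CommGroup M]

/-- Characters over a localisation of an étale algebra are defined on a neighbourhood. -/
theorem exists_nhd_chars_of_loc (V₀ : Nhd R R')
    (hloc : ∀ z : R', ∃ b s : V₀.B, IsUnit (V₀.ψ s) ∧ V₀.ψ s * z = V₀.ψ b)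
    (e : R' ⊗[R] A ≃ₐc[R'] MonoidAlgebra R' M) (t : Finset M) :
    ∃ V : Nhd R R', ∀ m ∈ t, ∃ x, IsGL R A V.B x ∧ mapT R A V.ψ x = splitElem e m := by
  classical
  have hfrac : ∀ z : R' ⊗[R] A, ∃ (s : V₀.B) (w : V₀.B ⊗[R] A),
      IsUnit (V₀.ψ s) ∧ V₀.ψ s • z = mapT R A V₀.ψ w := by
    intro z
    induction z using TensorProduct.induction_on with
    | zero => exact ⟨1, 0, by rw [map_one]; exact isUnit_one, by simp⟩
    | tmul r a =>
      obtain ⟨b, s, hs, hb⟩ := hloc r
      exact ⟨s, b ⊗ₜ a, hs, by rw [TensorProduct.smul_tmul', smul_eq_mul, hb]; rfl⟩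
    | add z z' hz hz' =>
      obtain ⟨s, w, hs, hw⟩ := hz
      obtain ⟨s', w', hs', hw'⟩ := hz'
      refine ⟨s * s', s' • w + s • w', by rw [map_mul]; exact hs.mul hs', ?_⟩
      rw [map_add, mapT_smul, mapT_smul, ← hw, ← hw', smul_add, map_mul, smul_smul, smul_smul,
        mul_comm (V₀.ψ s')]
  choose s w hs hw using fun m : t => hfrac (splitElem e (m : M))
  have hS : IsUnit (V₀.ψ (∏ m, s m)) := by
    rw [map_prod]
    exact IsUnit.prod_iff.2 fun m _ => hs m
  let V₁ := V₀.away (∏ m, s m) hS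
  let j := V₀.toAway (∏ m, s m) hS
  have hj : ∀ m, IsUnit (j (s m)) := fun m => by
    have h1 : IsUnit (j (∏ m, s m)) := V₀.isUnit_toAway (∏ m, s m) hS
    rw [map_prod] at h1
    exact IsUnit.prod_iff.1 h1 m (Finset.mem_univ _)
  let x : t → V₁.B ⊗[R] A := fun m => ((hj m).unit⁻¹ : V₁.Bˣ).val • mapT R A j (w m)
  have hx : ∀ m, mapT R A V₁.ψ (x m) = splitElem e (m : M) := by
    intro m
    rw [mapT_smul, mapT_mapT, V₀.ψ_comp_toAway, ← hw, smul_smul,
      ← DFunLike.congr_fun (V₀.ψ_comp_toAway _ hS) (s m), AlgHom.comp_apply, ← map_mul,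
      IsUnit.val_inv_mul, map_one, one_smul]
  have hgl : ∀ m, IsGL R A R' (splitElem e (m : M)) := fun m =>
    (isGL_iff R A R' _).2 ((MonoidAlgebra.isGroupLikeElem_single_one (m : M)).map e.symm)
  obtain ⟨h₁, hh₁, hk₁⟩ := exists_kill (A := A ⊗[R] A) V₁
    (Finset.univ.image fun m => comulT R A V₁.B (x m) - sqT R A V₁.B (x m)) (by
    intro z hz
    obtain ⟨m, -, rfl⟩ := Finset.mem_image.1 hz
    rw [map_sub, ← comulT_mapT, ← sqT_mapT, hx, (hgl m).1, sub_self])
  let V₂ := V₁.away h₁ hh₁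
  let j₁ := V₁.toAway h₁ hh₁
  letI := V₂.ψ.toRingHom.toAlgebra
  haveI : IsScalarTower R V₂.B R' :=
    IsScalarTower.of_algebraMap_eq fun r => (V₂.ψ.commutes r).symm
  haveI : Module.Flat V₂.B R' := flat_of_etale R V₂.B R'
  obtain ⟨h₂, hh₂, hk₂⟩ := exists_unit_smul_eq_zero_finset (R' := R')
    (Finset.univ.image fun m => Coalgebra.counit (R := V₂.B) (mapT R A j₁ (x m)) - 1) (by
    intro c hc
    obtain ⟨m, -, rfl⟩ := Finset.mem_image.1 hc
    refine (TensorProduct.rid V₂.B R').injective ?_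
    rw [TensorProduct.rid_tmul, map_zero, Algebra.smul_def, mul_one]
    change V₂.ψ _ = 0
    rw [map_sub, map_one, ← counit_mapT, mapT_mapT, V₁.ψ_comp_toAway, hx, (hgl m).2, sub_self])
  have hh₂' : IsUnit (V₂.ψ h₂) := hh₂
  let j₂ := V₂.toAway h₂ hh₂'
  refine ⟨V₂.away h₂ hh₂', fun m hm => ⟨mapT R A j₂ (mapT R A j₁ (x ⟨m, hm⟩)), ⟨?_, ?_⟩, ?_⟩⟩
  · have h := mapT_toAway_eq_zero V₁ hh₁ (hk₁ _ (Finset.mem_image_of_mem _ (Finset.mem_univ ⟨m, hm⟩)))
    rw [map_sub, ← comulT_mapT, ← sqT_mapT, sub_eq_zero] at h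
    rw [comulT_mapT, h, ← sqT_mapT]
  · rw [counit_mapT]
    have h := hk₂ _ (Finset.mem_image_of_mem _ (Finset.mem_univ ⟨m, hm⟩))
    rw [smul_eq_mul] at h
    have h' := congrArg j₂ h
    rw [map_mul, map_zero] at h'
    have h'' := (V₂.isUnit_toAway h₂ hh₂').mul_right_eq_zero.1 h'
    rwa [map_sub, map_one, sub_eq_zero] at h''
  · rw [mapT_mapT, V₂.ψ_comp_toAway, mapT_mapT, V₁.ψ_comp_toAway, hx]

/-- A splitting over a localisation of an étale algebra spreads out. -/
theorem exists_nhd_split_of_loc [Algebra.FinitePresentation R A] [Monoid.FG M] (V₀ : Nhd R R')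
    (hloc : ∀ z : R', ∃ b s : V₀.B, IsUnit (V₀.ψ s) ∧ V₀.ψ s * z = V₀.ψ b)
    (e : R' ⊗[R] A ≃ₐc[R'] MonoidAlgebra R' M) :
    ∃ V : Nhd R R', Nonempty (V.B ⊗[R] A ≃ₐc[V.B] MonoidAlgebra V.B M) := by
  obtain ⟨t, ht⟩ := Monoid.FG.fg_top (M := M)
  obtain ⟨V, hV⟩ := exists_nhd_chars_of_loc V₀ hloc e t
  obtain ⟨V', χ, hχ⟩ := exists_nhd_charHom_of_chars e ht V hV
  exact exists_nhd_split_of_charHom e V' χ hχ

end chars

/-- An étale splitting through a prime from one over the local ring. -/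
theorem exists_etale_split_of_localization [Algebra.FinitePresentation R A] (p : Ideal R)
    [p.IsPrime]
    (h : SGA3b.IsMultType (Localization.AtPrime p) (Localization.AtPrime p ⊗[R] A)) :
    ∃ (B : Type u) (_ : CommRing B) (_ : Algebra R B) (_ : Algebra.Etale R B) (q : Ideal B),
      q.IsPrime ∧ q.comap (algebraMap R B) = p ∧
        ∃ (M : Type u) (_ : CommGroup M), Monoid.FG M ∧
          Nonempty (B ⊗[R] A ≃ₐc[B] MonoidAlgebra B M) := by
  classical
  let Rp := Localization.AtPrime p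
  obtain ⟨B, _, _, _, q, hq, hqp, M, _, hM, ⟨e⟩⟩ :=
    exists_etale_split h (IsLocalRing.maximalIdeal Rp)
  obtain ⟨f, hf, _, _, B₀, _, _, _, ⟨ε⟩⟩ :=
    Groth.L27.EtaleLift.exists_model_localization R Rp p.primeCompl B
  let Rf := Localization.Away f
  letI : Algebra R B₀ := ((algebraMap Rf B₀).comp (algebraMap R Rf)).toAlgebra
  haveI : IsScalarTower R Rf B₀ := IsScalarTower.of_algebraMap_eq fun _ => rfl
  haveI : Algebra.Etale R Rf := Algebra.Etale.of_isLocalizationAway f
  haveI : Algebra.Etale R B₀ := Algebra.Etale.comp R Rf B₀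
  let i₀ : B₀ →+* B := ε.toRingEquiv.toRingHom.comp
    (Algebra.TensorProduct.includeRight (R := Rf) (A := Rp) (B := B₀)).toRingHom
  let q₀ : Ideal B₀ := q.comap i₀
  haveI : q₀.IsPrime := Ideal.IsPrime.comap i₀
  have hR : ∀ r : R, i₀ (algebraMap R B₀ r) = algebraMap Rp B (algebraMap R Rp r) := by
    intro r
    rw [IsScalarTower.algebraMap_apply R Rf B₀]
    change ε ((1 : Rp) ⊗ₜ[Rf] algebraMap Rf B₀ (algebraMap R Rf r)) = _
    rw [← Algebra.TensorProduct.tmul_one_eq_one_tmul, ← IsScalarTower.algebraMap_apply R Rf Rp]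
    exact ε.commutes (algebraMap R Rp r)
  have hq₀ : q₀.comap (algebraMap R B₀) = p := by
    ext r
    rw [Ideal.mem_comap, Ideal.mem_comap, hR, ← Ideal.mem_comap, hqp]
    exact IsLocalization.AtPrime.to_map_mem_maximal_iff Rp p r
  let R' := Localization.AtPrime q₀
  have hu : ∀ y : p.primeCompl, IsUnit (algebraMap R R' y) := fun y => by
    rw [IsScalarTower.algebraMap_apply R B₀ R', IsLocalization.AtPrime.isUnit_to_map_iff R' q₀]
    intro hy
    have h1 : (y : R) ∈ q₀.comap (algebraMap R B₀) := hy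
    rw [hq₀] at h1
    exact y.2 h1
  let fp : Rp →+* R' := IsLocalization.lift hu
  letI : Algebra Rp R' := fp.toAlgebra
  haveI : IsScalarTower R Rp R' := IsScalarTower.of_algebraMap_eq fun r =>
    (IsLocalization.lift_eq hu r).symm
  haveI : IsScalarTower Rf Rp R' := IsScalarTower.of_algebraMap_eq' (IsLocalization.ringHom_ext
    (Submonoid.powers f) (RingHom.ext fun r => by
      simp only [RingHom.comp_apply, ← IsScalarTower.algebraMap_apply R Rf Rp,
        ← IsScalarTower.algebraMap_apply R Rp R', ← IsScalarTower.algebraMap_apply R Rf R']))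
  let g : B →ₐ[Rp] R' := (Algebra.TensorProduct.lift (Algebra.ofId Rp R')
    (IsScalarTower.toAlgHom Rf B₀ R') fun _ _ => Commute.all _ _).comp ε.symm.toAlgHom
  letI : Algebra B R' := g.toRingHom.toAlgebra
  haveI : IsScalarTower Rp B R' := IsScalarTower.of_algebraMap_eq fun r => (g.commutes r).symm
  haveI : Module.Flat R B₀ := inferInstance
  haveI : Module.Flat R R' := Module.Flat.trans R B₀ R'
  let e' : R' ⊗[R] A ≃ₐc[R'] MonoidAlgebra R' M :=
    ((splitEquiv e R').trans (cancelBialg R Rp R' A)).symm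
  let V₀ : Nhd R R' := { B := B₀, ψ := IsScalarTower.toAlgHom R B₀ R' }
  haveI : Monoid.FG M := hM
  obtain ⟨V, hV⟩ := exists_nhd_split_of_loc V₀ (fun z => by
    obtain ⟨b, s, rfl⟩ := IsLocalization.exists_mk'_eq q₀.primeCompl z
    refine ⟨b, s, IsLocalization.map_units R' s, ?_⟩
    exact IsLocalization.mk'_spec' R' b s) e'
  refine ⟨V.B, inferInstance, inferInstance, inferInstance,
    (IsLocalRing.maximalIdeal R').comap V.ψ.toRingHom, Ideal.IsPrime.comap _, ?_,
    M, inferInstance, hM, hV⟩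
  rw [Ideal.comap_comap, show V.ψ.toRingHom.comp (algebraMap R V.B) =
    (algebraMap B₀ R').comp (algebraMap R B₀) from RingHom.ext fun r => by
      rw [RingHom.comp_apply, RingHom.comp_apply, ← IsScalarTower.algebraMap_apply R B₀ R']
      exact V.ψ.commutes r, ← Ideal.comap_comap]
  rw [show (IsLocalRing.maximalIdeal R').comap (algebraMap B₀ R') = q₀ from
    IsLocalization.AtPrime.under_maximalIdeal R' q₀, hq₀]

/-- Multiplicative type can be checked on local rings. -/
theorem isMultType_of_localizations (hfp : Algebra.FinitePresentation R A)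
    (h : ∀ (p : Ideal R) [p.IsPrime],
      SGA3b.IsMultType (Localization.AtPrime p) (Localization.AtPrime p ⊗[R] A)) :
    SGA3b.IsMultType R A := by
  haveI := hfp
  exact isMultType_of_isQuasiIsotrivial
    (isQuasiIsotrivial_of_pointwise fun p _ => exists_etale_split_of_localization p (h p))

end Groth.L25.Char
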