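import Groth.Agent.L25.Char.Model
import Groth.Agent.L25.MultType.Cover
import Groth.Agent.L25.MultType.Diag
import Groth.Agent.L20.FlatLocusOpen
import Groth.Agent.L07.FlatStage
import Mathlib.RingTheory.Localization.Away.AdjoinRoot
import Mathlib.RingTheory.Localization.BaseChange
import Mathlib.RingTheory.LocalRing.ResidueField.Basic

/-!
# Local Noetherian models of Hopf algebras flat along the closed fibre
-/

set_option autoImplicit false

universe u

open TensorProduct

namespace Groth.L25.Char.Model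

/-- The linear map between the two localisations. -/
theorem flat_localization_iff {R C : Type u} [CommRing R] [CommRing C] [Algebra R C]
    (T : Submonoid C) (L : Type u) [CommRing L] [Algebra C L] [Algebra R L] [IsScalarTower R C L]
    [IsLocalization T L] :
    Module.Flat R L ↔ Module.Flat R (LocalizedModule T C) := by
  haveI : IsLocalizedModule T (Algebra.linearMap C L) :=
    (isLocalizedModule_iff_isLocalization' T L).mpr inferInstance
  let e := (IsLocalizedModule.iso T (Algebra.linearMap C L)).restrictScalars R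
  exact ⟨fun _ => Module.Flat.of_linearEquiv e, fun _ => Module.Flat.of_linearEquiv e.symm⟩

/-- Flatness along a closed subset spreads to a neighbourhood. -/
theorem exists_flat_nhd {R C : Type u} [CommRing R] [CommRing C] [Algebra R C]
    [Algebra.FinitePresentation R C] (I : Ideal C)
    (hfl : ∀ (q : Ideal C) [q.IsPrime], I ≤ q → Module.Flat R (Localization.AtPrime q)) :
    ∃ g : C, IsUnit (Ideal.Quotient.mk I g) ∧ Module.Flat R (Localization.Away g) := by
  let T : Submonoid C := (IsUnit.submonoid (C ⧸ I)).comap (Ideal.Quotient.mk I)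
  haveI : Module.Flat R (LocalizedModule T C) := by
    rw [Groth.L20.flat_localizedModule_iff_forall]
    intro J z hz
    let a : Ideal C := LinearMap.ker (LinearMap.toSpanSingleton C (C ⊗[R] J) z)
    have ha : a ⊔ I = ⊤ := by
      by_contra hne
      obtain ⟨q, hq, hle⟩ := Ideal.exists_le_maximal _ hne
      haveI := hq.isPrime
      haveI := (flat_localization_iff q.primeCompl (Localization.AtPrime q)).1
        (hfl q (le_sup_right.trans hle))
      obtain ⟨t, ht, htz⟩ := (Groth.L20.flat_localizedModule_iff_forall q.primeCompl).1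
        inferInstance J z hz
      exact ht (hle (le_sup_left (b := I) htz))
    obtain ⟨t, ht, i, hi, hti⟩ := Submodule.mem_sup.1 ((Ideal.eq_top_iff_one _).1 ha)
    refine ⟨t, ?_, ht⟩
    change IsUnit (Ideal.Quotient.mk I t)
    rw [show t = 1 - i by rw [← hti]; ring, map_sub, map_one, Ideal.Quotient.eq_zero_iff_mem.2 hi,
      sub_zero]
    exact isUnit_one
  obtain ⟨g, hg, hgf⟩ := Groth.L20.exists_flat_away T (R := R) (M := C)
  exact ⟨g, hg, (flat_localization_iff (Submonoid.powers g) (Localization.Away g)).2 hgf⟩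

/-- Localisation commutes with base change. -/
theorem nonempty_loc_tensor {U C T : Type u} [CommRing U] [CommRing C] [Algebra U C] [CommRing T]
    [Algebra U T] (g : C) :
    Nonempty (Localization.Away ((1 : T) ⊗ₜ[U] g) ≃ₐ[T] T ⊗[U] Localization.Away g) := by
  letI : Algebra (T ⊗[U] C) (T ⊗[U] Localization.Away g) :=
    (Algebra.TensorProduct.map (AlgHom.id T T)
      (IsScalarTower.toAlgHom U C (Localization.Away g))).toRingHom.toAlgebra
  haveI : IsScalarTower T (T ⊗[U] C) (T ⊗[U] Localization.Away g) :=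
    IsScalarTower.of_algebraMap_eq fun t =>
      ((Algebra.TensorProduct.map (AlgHom.id T T)
        (IsScalarTower.toAlgHom U C (Localization.Away g))).commutes t).symm
  haveI := IsLocalization.tensorProduct_tensorProduct_right U T (Submonoid.powers g)
    (Localization.Away g) (by
      ext c
      simp [RingHom.algebraMap_toAlgebra])
  haveI : IsLocalization (Submonoid.powers ((1 : T) ⊗ₜ[U] g)) (T ⊗[U] Localization.Away g) := by
    have h := Submonoid.map_powers
      (Algebra.TensorProduct.includeRight (R := U) (A := T) (B := C)) g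
    rw [Algebra.TensorProduct.includeRight_apply] at h
    rw [← h]
    infer_instance
  exact ⟨(IsLocalization.algEquiv (Submonoid.powers ((1 : T) ⊗ₜ[U] g)) _ _).restrictScalars T⟩

open Groth.L07.FlatDescent in
/-- A finitely presented algebra flat after base change is flat at a stage. -/
theorem exists_flat_subalgebra {U R : Type u} [CommRing U] [IsNoetherianRing U] [CommRing R]
    [Algebra U R] (L : Type u) [CommRing L] [Algebra U L] [Algebra.FinitePresentation U L]
    [Module.Flat R (R ⊗[U] L)] :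
    ∃ U' : Subalgebra U R, U'.FG ∧ Module.Flat U' (U' ⊗[U] L) := by
  classical
  obtain ⟨d, n, Rn, _, K, ⟨e⟩⟩ := exists_model U (B₀ := L) L
  obtain ⟨eK⟩ := exists_modelEquiv K e R
  haveI : Module.Flat R (MC R K) := Module.Flat.of_linearEquiv eK.symm
  obtain ⟨B', hB', hflat⟩ := exists_fg_stage K R
  obtain ⟨G, hG⟩ := hB'
  let U' : Subalgebra U R := Algebra.adjoin U (G : Set R)
  have hB'U : ∀ x : B', (x : R) ∈ U' := by
    rintro ⟨x, hx⟩
    rw [← hG] at hx
    refine Algebra.adjoin_induction (p := fun x _ => x ∈ U') (fun y hy => Algebra.subset_adjoin hy)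
      (fun r => ?_) (fun _ _ _ _ => add_mem) (fun _ _ _ _ => mul_mem) hx
    rw [IsScalarTower.algebraMap_apply Rn U R]
    exact U'.algebraMap_mem _
  let ι : B' →+* U' :=
    { toFun := fun x => ⟨x, hB'U x⟩
      map_one' := rfl
      map_mul' := fun _ _ => rfl
      map_zero' := rfl
      map_add' := fun _ _ => rfl }
  letI : Algebra B' U' := ι.toAlgebra
  haveI : IsScalarTower Rn B' U' :=
    IsScalarTower.of_algebraMap_eq fun r => Subtype.ext (IsScalarTower.algebraMap_apply Rn U R r).symm
  obtain ⟨e₁⟩ := exists_modelEquiv K e U'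
  haveI := flat_MC_of_flat K (A := B') (C := U')
  exact ⟨U', ⟨G, rfl⟩, Module.Flat.of_linearEquiv e₁⟩

/-- Composite algebra map to a localisation at the centre. -/
theorem exists_local_stage {U R : Type u} [CommRing U] [IsNoetherianRing U] [CommRing R]
    [IsLocalRing R] [Algebra U R] (L : Type u) [CommRing L] [Algebra U L]
    [Algebra.FinitePresentation U L] [Module.Flat R (R ⊗[U] L)] :
    ∃ (R₀ : Type u) (_ : CommRing R₀) (_ : IsNoetherianRing R₀) (_ : IsLocalRing R₀)
      (_ : Algebra U R₀) (_ : Algebra R₀ R), IsScalarTower U R₀ R ∧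
      IsLocalHom (algebraMap R₀ R) ∧ Module.Flat R₀ (R₀ ⊗[U] L) := by
  obtain ⟨U', hU', hflat⟩ := exists_flat_subalgebra (U := U) (R := R) L
  haveI : Algebra.FiniteType U U' := U'.fg_iff_finiteType.mp hU'
  haveI : IsNoetherianRing U' := Algebra.FiniteType.isNoetherianRing U U'
  let p : Ideal U' := (IsLocalRing.maximalIdeal R).comap (algebraMap U' R)
  let R₀ := Localization.AtPrime p
  have hu : ∀ y : p.primeCompl, IsUnit (algebraMap U' R y) := fun y =>
    of_not_not fun h => y.2 h
  let f : R₀ →+* R := IsLocalization.lift hu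
  letI : Algebra R₀ R := f.toAlgebra
  haveI : IsNoetherianRing R₀ := IsLocalization.isNoetherianRing p.primeCompl R₀ inferInstance
  refine ⟨R₀, inferInstance, inferInstance, inferInstance, inferInstance, inferInstance, ?_, ?_, ?_⟩
  · refine IsScalarTower.of_algebraMap_eq fun x => ?_
    rw [IsScalarTower.algebraMap_apply U U' R₀, RingHom.algebraMap_toAlgebra,
      IsLocalization.lift_eq, IsScalarTower.algebraMap_apply U U' R]
  · constructor
    intro a ha
    obtain ⟨x, s, rfl⟩ := IsLocalization.exists_mk'_eq p.primeCompl a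
    rw [RingHom.algebraMap_toAlgebra, IsLocalization.lift_mk'] at ha
    have hx : IsUnit (algebraMap U' R x) := isUnit_of_mul_isUnit_left ha
    exact (IsLocalization.AtPrime.isUnit_mk'_iff R₀ p x s).2 fun h => h hx
  · exact Module.Flat.of_linearEquiv
      (Algebra.TensorProduct.cancelBaseChange U U' R₀ R₀ L).symm.toLinearEquiv

/-- Two field extensions have a common extension. -/
theorem exists_common_ext {k₀ k F : Type u} [Field k₀] [Field k] [Field F] (a : k₀ →+* k)
    (b : k₀ →+* F) : ∃ (E : Type u) (_ : Field E) (i : k →+* E) (j : F →+* E),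
      i.comp a = j.comp b := by
  letI : Algebra k₀ k := a.toAlgebra
  letI : Algebra k₀ F := b.toAlgebra
  haveI : Nontrivial (k ⊗[k₀] F) :=
    (Module.FaithfullyFlat.tensorProduct_mk_injective (A := k₀) (B := k) F).nontrivial
  obtain ⟨w, hw⟩ := Ideal.exists_maximal (k ⊗[k₀] F)
  refine ⟨(k ⊗[k₀] F) ⧸ w, Ideal.Quotient.field w,
    (Ideal.Quotient.mk w).comp Algebra.TensorProduct.includeLeftRingHom,
    (Ideal.Quotient.mk w).comp
      (Algebra.TensorProduct.includeRight (R := k₀) (A := k) (B := F)).toRingHom,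
    RingHom.ext fun r => congrArg (Ideal.Quotient.mk w) ?_⟩
  exact Algebra.TensorProduct.tmul_one_eq_one_tmul (R := k₀) (A := k) (B := F) r

/-- The point of the closed fibre of `R ⊗ C₀` over a point of the closed fibre of `C₀`. -/
theorem not_mem_of_isUnit {R₀ R C₀ C : Type u} [CommRing R₀] [IsLocalRing R₀] [CommRing R]
    [IsLocalRing R] [Algebra R₀ R] [IsLocalHom (algebraMap R₀ R)] [CommRing C₀] [Algebra R₀ C₀]
    [CommRing C] [Algebra R C] (e : R ⊗[R₀] C₀ ≃ₐ[R] C) (g₀ : C₀) {g : C}
    (hg : e ((1 : R) ⊗ₜ g₀) = g)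
    (hu : IsUnit (Ideal.Quotient.mk (Ideal.map (algebraMap R C) (IsLocalRing.maximalIdeal R)) g))
    (q : Ideal C₀) [q.IsPrime]
    (hq : Ideal.map (algebraMap R₀ C₀) (IsLocalRing.maximalIdeal R₀) ≤ q) : g₀ ∉ q := by
  intro hgq
  let φ₀ : IsLocalRing.ResidueField R₀ →+* q.ResidueField :=
    Ideal.Quotient.lift (IsLocalRing.maximalIdeal R₀) (algebraMap R₀ q.ResidueField) fun x hx => by
      rw [IsScalarTower.algebraMap_apply R₀ C₀ q.ResidueField,
        Ideal.algebraMap_residueField_eq_zero]
      exact hq (Ideal.mem_map_of_mem _ hx)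
  obtain ⟨E, _, i, j, hij⟩ :=
    exists_common_ext (IsLocalRing.ResidueField.map (algebraMap R₀ R)) φ₀
  let πR : R →+* E := i.comp (IsLocalRing.residue R)
  letI : Algebra R E := πR.toAlgebra
  letI : Algebra R₀ E := (πR.comp (algebraMap R₀ R)).toAlgebra
  haveI : IsScalarTower R₀ R E := IsScalarTower.of_algebraMap_eq fun _ => rfl
  let x₀ : C₀ →ₐ[R₀] E :=
    { toRingHom := j.comp (algebraMap C₀ q.ResidueField)
      commutes' := fun r => by
        change j (algebraMap C₀ q.ResidueField (algebraMap R₀ C₀ r)) = πR (algebraMap R₀ R r)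
        rw [← IsScalarTower.algebraMap_apply R₀ C₀ q.ResidueField]
        exact (DFunLike.congr_fun hij (IsLocalRing.residue R₀ r)).symm }
  let x : C →ₐ[R] E :=
    (Algebra.TensorProduct.lift (Algebra.ofId R E) x₀ fun _ _ => Commute.all _ _).comp
      e.symm.toAlgHom
  have hx : x g = 0 := by
    rw [← hg]
    change (Algebra.TensorProduct.lift (Algebra.ofId R E) x₀ fun _ _ => Commute.all _ _)
      (e.symm (e ((1 : R) ⊗ₜ g₀))) = 0
    rw [e.symm_apply_apply, Algebra.TensorProduct.lift_tmul, map_one, one_mul]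
    change j (algebraMap C₀ q.ResidueField g₀) = 0
    rw [Ideal.algebraMap_residueField_eq_zero.2 hgq, map_zero]
  have hker : Ideal.map (algebraMap R C) (IsLocalRing.maximalIdeal R) ≤ RingHom.ker x :=
    Ideal.map_le_iff_le_comap.2 fun r hr => by
      rw [Ideal.mem_comap, RingHom.mem_ker, AlgHom.commutes]
      change πR r = 0
      simp only [πR, RingHom.comp_apply, (IsLocalRing.residue_eq_zero_iff r).2 hr, map_zero]
  have h2 := hu.map (Ideal.Quotient.lift _ (x : C →+* E) fun a ha => hker ha)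
  rw [Ideal.Quotient.lift_mk] at h2
  exact not_isUnit_zero (hx ▸ h2 : IsUnit (0 : E))

/-- The local model from a stage. -/
theorem exists_local_model_of_stage {U R : Type u} [CommRing U] [IsNoetherianRing U] [CommRing R]
    [IsLocalRing R] [Algebra U R] {C : Type u} [CommRing C] [HopfAlgebra R C]
    {C₃ : Type u} [CommRing C₃] [HopfAlgebra U C₃] [Algebra.FinitePresentation U C₃]
    (e₃ : R ⊗[U] C₃ ≃ₐc[R] C) (g₃ : C₃) (g : C) (hg₃ : e₃ ((1 : R) ⊗ₜ g₃) = g)
    (hgu : IsUnit (Ideal.Quotient.mk (Ideal.map (algebraMap R C) (IsLocalRing.maximalIdeal R)) g))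
    (hgflat : Module.Flat R (Localization.Away g)) :
    ∃ (R₀ : Type u) (_ : CommRing R₀) (_ : IsNoetherianRing R₀) (_ : IsLocalRing R₀)
      (_ : Algebra R₀ R) (_ : IsLocalHom (algebraMap R₀ R)) (C₀ : Type u) (_ : CommRing C₀)
      (_ : HopfAlgebra R₀ C₀), Algebra.FinitePresentation R₀ C₀ ∧
      (∀ (q : Ideal C₀) [q.IsPrime],
        Ideal.map (algebraMap R₀ C₀) (IsLocalRing.maximalIdeal R₀) ≤ q →
        Module.Flat R₀ (Localization.AtPrime q)) ∧
      Nonempty (R ⊗[R₀] C₀ ≃ₐc[R] C) := by
  -- flatness at a local stage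
  let L := Localization.Away g₃
  haveI : Algebra.FinitePresentation C₃ L := IsLocalization.Away.finitePresentation g₃
  haveI : Algebra.FinitePresentation U L := Algebra.FinitePresentation.trans U C₃ L
  haveI : Module.Flat R (R ⊗[U] L) := by
    haveI := hgflat
    obtain ⟨d⟩ := nonempty_loc_tensor (T := R) (U := U) g₃
    let d' : Localization.Away ((1 : R) ⊗ₜ[U] g₃) ≃ₐ[R] Localization.Away g :=
      IsLocalization.algEquivOfAlgEquiv (A := R) (M := Submonoid.powers ((1 : R) ⊗ₜ[U] g₃))
        (T := Submonoid.powers g) _ _ e₃.toAlgEquiv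
        ((Submonoid.map_powers _ _).trans (congrArg Submonoid.powers hg₃))
    exact Module.Flat.of_linearEquiv (d.symm.trans d').toLinearEquiv
  obtain ⟨R₀, _, _, _, _, _, htow, hloc, hflat⟩ := exists_local_stage (U := U) (R := R) L
  haveI := htow
  haveI := hloc
  haveI := hflat
  let e₀ : R ⊗[R₀] (R₀ ⊗[U] C₃) ≃ₐc[R] C :=
    (Groth.L25.MultType.cancelBialg U R₀ R C₃).trans e₃
  refine ⟨R₀, inferInstance, inferInstance, inferInstance, inferInstance, hloc, R₀ ⊗[U] C₃,
    inferInstance, inferInstance, inferInstance, ?_, ⟨e₀⟩⟩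
  intro q _ hq
  have hg₀ : e₀ ((1 : R) ⊗ₜ[R₀] ((1 : R₀) ⊗ₜ[U] g₃)) = g := by
    change e₃ (Algebra.TensorProduct.cancelBaseChange U R₀ R R C₃ _) = g
    rw [Algebra.TensorProduct.cancelBaseChange_tmul, one_smul, hg₃]
  have hnq := not_mem_of_isUnit (R₀ := R₀) e₀.toAlgEquiv ((1 : R₀) ⊗ₜ[U] g₃) hg₀ hgu q hq
  obtain ⟨d⟩ := nonempty_loc_tensor (T := R₀) (U := U) g₃
  haveI : Module.Flat R₀ (Localization.Away ((1 : R₀) ⊗ₜ[U] g₃)) :=
    Module.Flat.of_linearEquiv d.toLinearEquiv
  exact (flat_localization_iff (R := R₀) q.primeCompl (Localization.AtPrime q)).2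
    (Groth.L20.flat_localizedModule_of_le (Submonoid.powers_le.2 hnq)
      ((flat_localization_iff (Submonoid.powers ((1 : R₀) ⊗ₜ[U] g₃))
        (Localization.Away ((1 : R₀) ⊗ₜ[U] g₃))).1 inferInstance))

/-- A finitely presented Hopf algebra over a local ring, flat along the closed fibre, comes from a
Noetherian local ring. -/
theorem exists_local_model {R : Type u} [CommRing R] [IsLocalRing R] (C : Type u) [CommRing C]
    [HopfAlgebra R C] (hfp : Algebra.FinitePresentation R C)
    (hfl : ∀ (q : Ideal C) [q.IsPrime],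
      Ideal.map (algebraMap R C) (IsLocalRing.maximalIdeal R) ≤ q →
      Module.Flat R (Localization.AtPrime q)) :
    ∃ (R₀ : Type u) (_ : CommRing R₀) (_ : IsNoetherianRing R₀) (_ : IsLocalRing R₀)
      (_ : Algebra R₀ R) (_ : IsLocalHom (algebraMap R₀ R)) (C₀ : Type u) (_ : CommRing C₀)
      (_ : HopfAlgebra R₀ C₀), Algebra.FinitePresentation R₀ C₀ ∧
      (∀ (q : Ideal C₀) [q.IsPrime],
        Ideal.map (algebraMap R₀ C₀) (IsLocalRing.maximalIdeal R₀) ≤ q →
        Module.Flat R₀ (Localization.AtPrime q)) ∧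
      Nonempty (R ⊗[R₀] C₀ ≃ₐc[R] C) := by
  classical
  haveI := hfp
  obtain ⟨g, hgu, hgflat⟩ := exists_flat_nhd _ hfl
  obtain ⟨R₂, _, _, _, C₂, _, _, hfp₂, ⟨e⟩⟩ := exists_hopf_model C hfp
  haveI := hfp₂
  -- bring `g` down to a stage
  obtain ⟨S, hS⟩ := TensorProduct.exists_finset (e.symm g)
  let U : Subalgebra R₂ R := Algebra.adjoin R₂ ((S.image Prod.fst : Finset R) : Set R)
  haveI : Algebra.FiniteType R₂ U := U.fg_iff_finiteType.mp ⟨S.image Prod.fst, rfl⟩
  haveI : IsNoetherianRing U := Algebra.FiniteType.isNoetherianRing R₂ U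
  let C₃ := U ⊗[R₂] C₂
  let g₃ : C₃ := ∑ i : S,
    (⟨i.1.1, Algebra.subset_adjoin (Finset.mem_image_of_mem _ i.2)⟩ : U) ⊗ₜ[R₂] i.1.2
  let e₃ : R ⊗[U] C₃ ≃ₐc[R] C := (Groth.L25.MultType.cancelBialg R₂ U R C₂).trans e
  have hg₃ : e₃ ((1 : R) ⊗ₜ g₃) = g := by
    have h1 : Groth.L25.MultType.cancelBialg R₂ U R C₂ ((1 : R) ⊗ₜ g₃) = e.symm g := by
      rw [hS, ← Finset.sum_coe_sort S, TensorProduct.tmul_sum, map_sum]
      refine Finset.sum_congr rfl fun i _ => ?_
      change Algebra.TensorProduct.cancelBaseChange R₂ U R R C₂ _ = _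
      simp [Algebra.smul_def]
    change e (Groth.L25.MultType.cancelBialg R₂ U R C₂ ((1 : R) ⊗ₜ g₃)) = g
    rw [h1]
    exact e.apply_symm_apply g
  haveI : Algebra.FinitePresentation U C₃ := Algebra.FinitePresentation.baseChange U
  exact exists_local_model_of_stage e₃ g₃ g hg₃ hgu hgflat

end Groth.L25.Char.Model
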