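import Groth.Agent.L25.Char.BaseChange
import Mathlib.RingTheory.HopfAlgebra.Convolution
import Mathlib.RingTheory.Ideal.MinimalPrime.Noetherian
import Mathlib.GroupTheory.FiniteAbelian.Basic
import Mathlib.GroupTheory.QuotientGroup.Basic
import Mathlib.Algebra.Category.Grp.Injective
import Mathlib.FieldTheory.IsAlgClosed.Basic

/-!
# An open subgroup containing the torsion points contains all points
-/

set_option autoImplicit false

universe u

open TensorProduct WithConv

namespace Groth.L25.Char

/-- An idempotent is determined by the minimal primes containing it. -/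
theorem idem_eq_of_minimalPrimes {S : Type u} [CommRing S] {e f : S} (he : IsIdempotentElem e)
    (hf : IsIdempotentElem f) (h : ∀ p ∈ minimalPrimes S, e ∈ p ↔ f ∈ p) : e = f := by
  have key : ∀ {a b : S}, IsIdempotentElem a → IsIdempotentElem b →
      (∀ p ∈ minimalPrimes S, b ∈ p → a ∈ p) → a * (1 - b) = 0 := by
    intro a b ha hb hab
    refine (ha.mul hb.one_sub).eq_zero_of_isNilpotent (mem_nilradical.1 ?_)
    rw [nilradical_eq_sInf]
    refine Ideal.mem_sInf.2 fun {q} (hq : q.IsPrime) => ?_
    obtain ⟨p, hp, hpq⟩ := Ideal.exists_minimalPrimes_le (I := (⊥ : Ideal S)) (J := q) bot_le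
    haveI := hp.1.1
    refine hpq ?_
    by_cases hbp : b ∈ p
    · exact p.mul_mem_right _ (hab p hp hbp)
    · refine p.mul_mem_left _ ((Ideal.IsPrime.mem_or_mem inferInstance ?_).resolve_left hbp)
      rw [mul_sub, mul_one, hb.eq, sub_self]
      exact p.zero_mem
  have h1 := key he hf fun p hp => (h p hp).2
  have h2 := key hf he fun p hp => (h p hp).1
  linear_combination h1 - h2

/-- A Noetherian ring has finitely many idempotents. -/
theorem finite_idempotents (S : Type u) [CommRing S] [IsNoetherianRing S] :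
    Finite {e : S // IsIdempotentElem e} := by
  haveI : Finite (minimalPrimes S) := (minimalPrimes.finite_of_isNoetherianRing S).to_subtype
  refine Finite.of_injective
    (fun e => ({p | e.1 ∈ (p : Ideal S)} : Set (minimalPrimes S))) fun e f h => ?_
  exact Subtype.ext (idem_eq_of_minimalPrimes e.2 f.2 fun p hp =>
    (Set.ext_iff.1 h ⟨p, hp⟩))

/-- The torsion of a finitely generated commutative group has finite exponent. -/
theorem exists_torsion_exponent (M : Type u) [CommGroup M] [Group.FG M] :
    ∃ m : ℕ, 0 < m ∧ ∀ a : M, ∀ n : ℕ, 0 < n → a ^ n = 1 → a ^ m = 1 := by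
  classical
  obtain ⟨r, ι, _, p, hp, e, ⟨f⟩⟩ := AddCommGroup.equiv_free_prod_directSum_zmod (Additive M)
  refine ⟨∏ i, p i ^ e i, Finset.prod_pos fun i _ => pow_pos (hp i).pos _, fun a n hn ha => ?_⟩
  apply Additive.ofMul.injective
  apply f.injective
  have h1 : n • f (Additive.ofMul a) = 0 := by
    rw [← map_nsmul, ← ofMul_pow, ha, ofMul_one, map_zero]
  rw [ofMul_pow, map_nsmul, ofMul_one, map_zero]
  refine Prod.ext ?_ ?_
  · have h2 : n • (f (Additive.ofMul a)).1 = 0 := congrArg Prod.fst h1
    rw [smul_eq_zero] at h2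
    rw [Prod.smul_fst, h2.resolve_left hn.ne']
    exact smul_zero _
  · refine DFinsupp.ext fun i => ?_
    rw [Prod.smul_snd]
    change (∏ j, p j ^ e j) • ((f (Additive.ofMul a)).2 i) = 0
    rw [nsmul_eq_mul, (ZMod.natCast_eq_zero_iff _ _).2 (Finset.dvd_prod_of_mem _
      (Finset.mem_univ i)), zero_mul]

/-- Characters with values in the units of an algebraically closed field have roots. -/
theorem exists_pow_eq {M : Type u} [CommGroup M] {k : Type u} [Field k] [IsAlgClosed k]
    (ψ : M →* kˣ) {n : ℕ} (hn : 0 < n) (h : ∀ a : M, a ^ n = 1 → ψ a = 1) :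
    ∃ y : M →* kˣ, ∀ a, y a ^ n = ψ a := by
  have hroot : ∀ {m : ℤ}, m ≠ 0 → Function.Surjective fun v : Additive kˣ => m • v := by
    intro m hm v
    have hm' : 0 < m.natAbs := Int.natAbs_pos.2 hm
    obtain ⟨z, hz⟩ := IsAlgClosed.exists_pow_nat_eq ((Additive.toMul v : kˣ) : k) hm'
    have hz0 : z ≠ 0 := fun h0 => (Additive.toMul v).ne_zero (by
      rw [← hz, h0, zero_pow hm'.ne'])
    let u : Additive kˣ := Additive.ofMul (Units.mk0 z hz0)
    have hu : m.natAbs • u = v := by
      apply Additive.toMul.injective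
      exact Units.ext (by simp [u, hz])
    rcases Int.natAbs_eq m with he | he
    · refine ⟨u, ?_⟩
      change m • u = v
      rw [he, natCast_zsmul, hu]
    · refine ⟨-u, ?_⟩
      change m • -u = v
      rw [he, neg_zsmul, zsmul_neg, neg_neg, natCast_zsmul, hu]
  letI : DivisibleBy (Additive kˣ) ℤ := divisibleByOfSMulRightSurj (Additive kˣ) ℤ hroot
  let H := (powMonoidHom n : M →* M).range
  let p : M →* H := (powMonoidHom n : M →* M).rangeRestrict
  let g : H →* kˣ := p.liftOfSurjective ((powMonoidHom n : M →* M).rangeRestrict_surjective)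
    ⟨ψ, fun a ha => h a (congrArg Subtype.val (MonoidHom.mem_ker.1 ha))⟩
  obtain ⟨y, hy⟩ := (Module.Baer.of_divisible (Additive kˣ)).extension_property_addMonoidHom
    (MonoidHom.toAdditive H.subtype) (fun a b hab => Subtype.ext hab) (MonoidHom.toAdditive g)
  refine ⟨MonoidHom.toAdditive.symm y, fun a => ?_⟩
  rw [← map_pow]
  have h1 := DFunLike.congr_fun hy (Additive.ofMul (p a))
  refine (congrArg Additive.toMul h1).trans ?_
  change g (p a) = ψ a
  exact p.liftOfRightInverse_comp_apply _ _ _ a

section points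

variable {R : Type u} [CommRing R] {C : Type u} [CommRing C] [HopfAlgebra R C]
  [Coalgebra.IsCocomm R C] {k : Type u} [CommRing k] [Algebra R k]

/-- The points of a commutative group scheme form a commutative group. -/
noncomputable instance pointsCommGroup : CommGroup (WithConv (C →ₐ[R] k)) where
  __ := (inferInstance : CommMonoid (WithConv (C →ₐ[R] k)))
  inv f := toConv (f.ofConv.comp (HopfAlgebra.antipodeAlgHom R C))
  inv_mul_cancel f := by
    change toConv (f.ofConv.comp (HopfAlgebra.antipodeAlgHom R C)) * f = 1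
    have h := AlgHom.comp_convMul_distrib f.ofConv
      (toConv (HopfAlgebra.antipodeAlgHom R C)) (toConv (AlgHom.id R C))
    rw [AlgHom.antipode_id_cancel] at h
    refine (congrArg toConv h).symm.trans
      (WithConv.ofConv_injective (AlgHom.ext fun c => ?_))
    simp

end points

variable {R : Type u} [CommRing R] {C : Type u} [CommRing C] [HopfAlgebra R C]
  [Coalgebra.IsCocomm R C] {A : Type u} [CommRing A] [HopfAlgebra R A]
  {k : Type u} [Field k] [IsAlgClosed k] [Algebra R k]

omit [IsAlgClosed k] in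
/-- Points of a subgroup. -/
noncomputable def ptsMap (φ : C →ₐc[R] A) :
    WithConv (A →ₐ[R] k) →* WithConv (C →ₐ[R] k) where
  toFun g := toConv (g.ofConv.comp (φ : C →ₐ[R] A))
  map_one' := WithConv.ofConv_injective (AlgHom.ext fun c => by
    simp [AlgHom.convOne_apply])
  map_mul' f g := WithConv.ofConv_injective (AlgHom.convMul_comp_bialgHom_distrib f g φ)

/-- If an idempotent defining an open subgroup vanishes at all torsion points then it vanishes at
every point. -/
theorem apply_eq_zero_of_torsion [Algebra.FiniteType R C] (φ : C →ₐc[R] A)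
    (hφ : Function.Surjective φ) (e : C) (he : IsIdempotentElem e)
    (hker : RingHom.ker (φ : C →ₐ[R] A) = Ideal.span {e})
    {T : Type u} [CommRing T] [Algebra R T] [Algebra T k] [IsScalarTower R T k]
    {M : Type u} [CommGroup M] [Group.FG M]
    (d : T ⊗[R] A ≃ₐc[T] MonoidAlgebra T M)
    (htors : ∀ (x : WithConv (C →ₐ[R] k)) (n : ℕ), 0 < n → x ^ n = 1 → x.ofConv e = 0)
    (x : WithConv (C →ₐ[R] k)) : x.ofConv e = 0 := by
  classical
  haveI : Coalgebra.IsCocomm R A := by
    refine ⟨LinearMap.ext fun a => ?_⟩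
    obtain ⟨c, rfl⟩ := hφ a
    rw [LinearMap.comp_apply, ← CoalgHomClass.map_comp_comul_apply φ c]
    conv_rhs => rw [← LinearMap.congr_fun (Coalgebra.IsCocomm.comm_comp_comul (R := R) (A := C)) c]
    change _ = TensorProduct.map _ _ (TensorProduct.comm R C C (Coalgebra.comul (R := R) c))
    exact (TensorProduct.map_comm _ _ _).symm
  let G : Subgroup (WithConv (C →ₐ[R] k)) :=
    MonoidHom.range (G := WithConv (A →ₐ[R] k)) (N := WithConv (C →ₐ[R] k)) (ptsMap (k := k) φ)
  have hmem : ∀ z : WithConv (C →ₐ[R] k), z ∈ G ↔ z.ofConv e = 0 := by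
    intro z
    refine ⟨?_, fun hz => ?_⟩
    · rintro ⟨g, rfl⟩
      have he0 : e ∈ RingHom.ker (φ : C →ₐ[R] A) := by rw [hker]; exact Ideal.subset_span rfl
      change g.ofConv (φ e) = 0
      rw [show φ e = 0 from he0, map_zero]
    · let q := Ideal.quotientKerAlgEquivOfSurjective (f := (φ : C →ₐ[R] A)) hφ
      let zb : (C ⧸ RingHom.ker (φ : C →ₐ[R] A)) →ₐ[R] k :=
        Ideal.Quotient.liftₐ _ z.ofConv fun c hc => by
          rw [hker] at hc
          obtain ⟨b, rfl⟩ := Ideal.mem_span_singleton'.1 hc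
          rw [map_mul, hz, mul_zero]
      refine ⟨toConv (zb.comp q.symm.toAlgHom), WithConv.ofConv_injective (AlgHom.ext fun c => ?_)⟩
      change zb (q.symm (φ c)) = z.ofConv c
      rw [show q.symm (φ c) = Ideal.Quotient.mk _ c from (AlgEquiv.symm_apply_eq q).2 rfl]
      rfl
  -- finitely many cosets
  haveI : IsNoetherianRing (k ⊗[R] C) := Algebra.FiniteType.isNoetherianRing k (k ⊗[R] C)
  haveI := finite_idempotents (k ⊗[R] C)
  let tr : WithConv (C →ₐ[R] k) → (C →ₐ[R] k ⊗[R] C) := fun z =>
    (Algebra.TensorProduct.map (z⁻¹).ofConv (AlgHom.id R C)).comp (Bialgebra.comulAlgHom R C)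
  have htr : ∀ z w : WithConv (C →ₐ[R] k), ∀ c,
      Algebra.TensorProduct.lift (AlgHom.id R k) w.ofConv (fun _ _ => Commute.all _ _) (tr z c) =
        (z⁻¹ * w).ofConv c := by
    intro z w c
    rw [show (z⁻¹ * w).ofConv c = (z⁻¹ * w) c from rfl, AlgHom.convMul_apply]
    change Algebra.TensorProduct.lift (AlgHom.id R k) w.ofConv (fun _ _ => Commute.all _ _)
      (Algebra.TensorProduct.map (z⁻¹).ofConv (AlgHom.id R C) (Coalgebra.comul (R := R) c)) = _
    induction Coalgebra.comul (R := R) c using TensorProduct.induction_on with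
    | zero => simp
    | add a b ha hb => simp only [map_add, ha, hb]
    | tmul a b => simp
  haveI : Finite (WithConv (C →ₐ[R] k) ⧸ G) := by
    refine Finite.of_injective (fun c : WithConv (C →ₐ[R] k) ⧸ G =>
      (⟨tr c.out (1 - e), he.one_sub.map (tr c.out)⟩ :
        {z : k ⊗[R] C // IsIdempotentElem z})) fun c c' h => ?_
    have h1 := congrArg (Algebra.TensorProduct.lift (AlgHom.id R k) c'.out.ofConv
      (fun _ _ => Commute.all _ _)) (Subtype.ext_iff.1 h)
    rw [htr, htr, inv_mul_cancel, map_sub, map_one, map_sub, map_one] at h1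
    have he1 : (1 : WithConv (C →ₐ[R] k)).ofConv e = 0 := (hmem 1).1 (one_mem G)
    rw [he1, sub_zero, sub_eq_self] at h1
    rw [← c.out_eq', ← c'.out_eq']
    exact QuotientGroup.eq.2 ((hmem _).2 h1)
  let N := Nat.card (WithConv (C →ₐ[R] k) ⧸ G)
  have hN : 0 < N := Nat.card_pos
  have hxN : x ^ N ∈ G := by
    rw [← QuotientGroup.eq_one_iff, QuotientGroup.mk_pow]
    exact pow_card_eq_one'
  obtain ⟨g, hg⟩ := hxN
  -- points of `A` are characters
  let pt : (M →* kˣ) → WithConv (A →ₐ[R] k) := fun ψ =>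
    toConv (((MonoidAlgebra.lift T k M ((Units.coeHom k).comp ψ)).restrictScalars R).comp
      (((d : T ⊗[R] A →ₐ[T] MonoidAlgebra T M).restrictScalars R).comp
        Algebra.TensorProduct.includeRight))
  have hpt : ∀ ψ ψ', pt (ψ * ψ') = pt ψ * pt ψ' := by
    intro ψ ψ'
    refine WithConv.ofConv_injective (AlgHom.ext fun a => ?_)
    let F := MonoidAlgebra.lift T k M ((Units.coeHom k).comp ψ)
    let F' := MonoidAlgebra.lift T k M ((Units.coeHom k).comp ψ')
    have hmul : ∀ z, Algebra.TensorProduct.lift F F' (fun _ _ => Commute.all _ _)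
        (Coalgebra.comul (R := T) z) =
        MonoidAlgebra.lift T k M ((Units.coeHom k).comp (ψ * ψ')) z := by
      intro z
      induction z using MonoidAlgebra.induction_linear with
      | zero => simp
      | add p q hp hq => simp only [map_add, hp, hq]
      | single m r =>
        rw [show MonoidAlgebra.single m r = r • MonoidAlgebra.single m (1 : T) by simp, map_smul,
          map_smul, map_smul, (MonoidAlgebra.isGroupLikeElem_single_one m).comul_eq_tmul_self]
        simp [F, F']
    change MonoidAlgebra.lift T k M ((Units.coeHom k).comp (ψ * ψ')) (d ((1 : T) ⊗ₜ a)) =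
      (pt ψ * pt ψ') a
    rw [← hmul, AlgHom.convMul_apply, ← CoalgHomClass.map_comp_comul_apply d ((1 : T) ⊗ₜ[R] a),
      TensorProduct.comul_tmul, CommSemiring.comul_apply]
    induction Coalgebra.comul (R := R) a using TensorProduct.induction_on with
    | zero => simp
    | add p q hp hq => simp only [TensorProduct.tmul_add, map_add, hp, hq]
    | tmul p q =>
      rw [AlgebraTensorModule.tensorTensorTensorComm_tmul]
      simp only [Algebra.TensorProduct.lift_tmul]
      rfl
  let Pt : (M →* kˣ) →* WithConv (A →ₐ[R] k) := MonoidHom.mk' pt hpt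
  have hsurj : ∀ g : WithConv (A →ₐ[R] k), ∃ ψ, Pt ψ = g := by
    intro g
    let L : T ⊗[R] A →ₐ[T] k :=
      Algebra.TensorProduct.lift (Algebra.ofId T k) g.ofConv fun _ _ => Commute.all _ _
    let L' : MonoidAlgebra T M →ₐ[T] k :=
      L.comp ((d.symm : MonoidAlgebra T M →ₐ[T] T ⊗[R] A))
    let ψ : M →* kˣ := ((L' : MonoidAlgebra T M →* k).comp (MonoidAlgebra.of T M)).toHomUnits
    refine ⟨ψ, WithConv.ofConv_injective (AlgHom.ext fun a => ?_)⟩
    have hψ : MonoidAlgebra.lift T k M ((Units.coeHom k).comp ψ) = L' := by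
      ext m
      simp [ψ]
    change MonoidAlgebra.lift T k M ((Units.coeHom k).comp ψ) (d ((1 : T) ⊗ₜ a)) = g.ofConv a
    rw [hψ]
    change L (d.symm (d ((1 : T) ⊗ₜ a))) = _
    rw [BialgEquiv.symm_apply_apply]
    simp [L]
  obtain ⟨ψ, rfl⟩ := hsurj g
  obtain ⟨m, hm, hmtors⟩ := exists_torsion_exponent M
  have hn : 0 < N * m := Nat.mul_pos hN hm
  obtain ⟨y, hy⟩ := exists_pow_eq (ψ ^ m) hn fun a ha => by
    rw [MonoidHom.pow_apply, ← map_pow, hmtors a _ hn ha, map_one]
  have hy' : y ^ (N * m) = ψ ^ m := MonoidHom.ext fun a => hy a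
  let t : WithConv (C →ₐ[R] k) := ptsMap φ (Pt y)
  have hpow : t ^ (N * m) = x ^ (N * m) := by
    change ptsMap φ (Pt y) ^ (N * m) = _
    refine ((map_pow (ptsMap φ) (Pt y) (N * m)).symm.trans
      (congrArg (ptsMap φ) ((map_pow Pt y (N * m)).symm.trans (congrArg Pt hy')))).trans ?_
    refine ((congrArg (ptsMap φ) (map_pow Pt ψ m)).trans (map_pow (ptsMap φ) (Pt ψ) m)).trans ?_
    rw [hg]
    exact (pow_mul x N m).symm
  have h1 : (x * t⁻¹).ofConv e = 0 :=
    htors _ (N * m) hn (by rw [mul_pow, inv_pow, hpow, mul_inv_cancel])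
  have h2 : x * t⁻¹ ∈ G := (hmem _).2 h1
  have ht : t ∈ G := ⟨_, rfl⟩
  exact (hmem x).1 (by simpa using mul_mem h2 ht)

end Groth.L25.Char
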