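import Groth.Agent.L25.Char.LocalSplit
import Groth.Agent.L25.Char.TorsionPoints
import Groth.Agent.L25.MultType.Torsion
import Groth.Agent.L03.GeomIrred
import Groth.Agent.L25.GeomIrred
import Mathlib.FieldTheory.IsAlgClosed.AlgebraicClosure

/-!
# Vanishing of the idempotent of an open and closed subgroup

Either connected fibres or finite torsion subgroups force the idempotent to be zero.
-/

set_option autoImplicit false

universe u

open TensorProduct

namespace Groth.L25.Char

/-- An idempotent of a base change of a connected scheme vanishing at a rational point is zero. -/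
theorem idem_eq_zero_of_rational {k S : Type u} [Field k] [CommRing S] [Algebra k S]
    [ConnectedSpace (PrimeSpectrum S)] (ε : S →ₐ[k] k) {K : Type u} [Field K] [Algebra k K]
    {e : K ⊗[k] S} (he : IsIdempotentElem e)
    (h0 : Algebra.TensorProduct.lift (Algebra.ofId K K) ((Algebra.ofId k K).comp ε)
      (fun _ _ => Commute.all _ _) e = 0) : e = 0 := by
  let Ω := AlgebraicClosure K
  let kb := AlgebraicClosure k
  let j : kb →ₐ[k] Ω := IsAlgClosed.lift
  letI : Algebra kb Ω := j.toRingHom.toAlgebra
  haveI : IsScalarTower k kb Ω := IsScalarTower.of_algebraMap_eq fun r => (j.commutes r).symm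
  let i : K →ₐ[k] Ω := IsScalarTower.toAlgHom k K Ω
  let eΩ : Ω ⊗[k] S := Algebra.TensorProduct.map i (AlgHom.id k S) e
  let Φ : (kb ⊗[k] S) ⊗[kb] Ω ≃ₐ[kb] Ω ⊗[k] S :=
    (Algebra.TensorProduct.comm kb (kb ⊗[k] S) Ω).trans
      ((Algebra.TensorProduct.cancelBaseChange k kb Ω Ω S).restrictScalars kb)
  obtain ⟨e₀, he₀, hx⟩ := Groth.L03.GeomIrred.exists_idem (k := kb) (kb ⊗[k] S) Ω
    (fun k' _ _ => by
      haveI : IsDomain (k' ⊗[kb] Ω) := Groth.L25.GeomIrred.isDomain_tensorProduct
      infer_instance)
    (Φ.symm eΩ) ((he.map (Algebra.TensorProduct.map i (AlgHom.id k S))).map Φ.symm)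
  have key : Algebra.TensorProduct.map j (AlgHom.id k S) e₀ = eΩ := by
    have h1 := congrArg Φ hx
    rw [AlgEquiv.apply_symm_apply] at h1
    rw [← h1]
    clear h1 hx he₀
    induction e₀ using TensorProduct.induction_on with
    | zero => simp
    | add a b ha hb => simp only [map_add, ha, hb]
    | tmul a s => simp [Φ, Algebra.smul_def]; rfl
  have h2 : Algebra.TensorProduct.lift ((Algebra.ofId k kb).comp ε) (AlgHom.id k kb)
      (fun _ _ => Commute.all _ _) (Algebra.TensorProduct.comm k kb S e₀) = 0 := by
    apply j.toRingHom.injective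
    rw [map_zero]
    have hL : ∀ z : kb ⊗[k] S,
        Algebra.TensorProduct.lift (Algebra.ofId Ω Ω) ((Algebra.ofId k Ω).comp ε)
          (fun _ _ => Commute.all _ _) (Algebra.TensorProduct.map j (AlgHom.id k S) z) =
        j (Algebra.TensorProduct.lift ((Algebra.ofId k kb).comp ε) (AlgHom.id k kb)
          (fun _ _ => Commute.all _ _) (Algebra.TensorProduct.comm k kb S z)) := by
      intro z
      induction z using TensorProduct.induction_on with
      | zero => simp
      | add a b ha hb => simp only [map_add, ha, hb]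
      | tmul a s => simp [Algebra.ofId_apply, mul_comm]
    have hK : ∀ z : K ⊗[k] S,
        Algebra.TensorProduct.lift (Algebra.ofId Ω Ω) ((Algebra.ofId k Ω).comp ε)
          (fun _ _ => Commute.all _ _) (Algebra.TensorProduct.map i (AlgHom.id k S) z) =
        i (Algebra.TensorProduct.lift (Algebra.ofId K K) ((Algebra.ofId k K).comp ε)
          (fun _ _ => Commute.all _ _) z) := by
      intro z
      induction z using TensorProduct.induction_on with
      | zero => simp
      | add a b ha hb => simp only [map_add, ha, hb]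
      | tmul a s => simp [Algebra.ofId_apply, i, ← IsScalarTower.algebraMap_apply]
    change j _ = 0
    rw [← hL, key, hK, h0, map_zero]
  have h3 := idem_eq_zero_of_rational_algebraic ε (F := kb)
    (he₀.map (Algebra.TensorProduct.comm k kb S)) h2
  have h4 : eΩ = 0 := by
    rw [← key, (Algebra.TensorProduct.comm k kb S).injective (h3.trans (map_zero _).symm), map_zero]
  exact Groth.L03.GeomIrred.map_injective i i.toRingHom.injective S (h4.trans (map_zero _).symm)

/-- With connected fibres the idempotent is zero. -/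
theorem clopen_eq_zero_of_connected {R S : Type u} [CommRing R] [CommRing S] [Algebra R S]
    {C : Type u} [CommRing C] [HopfAlgebra R C]
    (hconn : ∀ (p : Ideal R) [p.IsPrime], ConnectedSpace (PrimeSpectrum (p.ResidueField ⊗[R] C)))
    {A : Type u} [CommRing A] [HopfAlgebra S A] (φ : S ⊗[R] C →ₐc[S] A) {e : S ⊗[R] C}
    (he : IsIdempotentElem e) (hφe : φ e = 0) : e = 0 := by
  refine he.eq_zero_of_isNilpotent (mem_nilradical.1 ?_)
  rw [nilradical_eq_sInf]
  refine Ideal.mem_sInf.2 fun {Q} (hQ : Q.IsPrime) => ?_
  let K := Q.ResidueField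
  let p : Ideal R := RingHom.ker (algebraMap R K)
  haveI : p.IsPrime := RingHom.ker_isPrime _
  haveI := hconn p
  let f₀ : p.ResidueField →+* K := Ideal.ResidueField.lift p (algebraMap R K) le_rfl
    fun r hr => Ne.isUnit fun h => hr h
  letI : Algebra p.ResidueField K := f₀.toAlgebra
  haveI : IsScalarTower R p.ResidueField K := IsScalarTower.of_algebraMap_eq fun r =>
    (Ideal.ResidueField.lift_algebraMap p (algebraMap R K) le_rfl _ r).symm
  let πS : S →ₐ[R] K :=
    (IsScalarTower.toAlgHom R (S ⊗[R] C) K).comp
      (Algebra.TensorProduct.includeLeft (R := R) (S := R) (A := S) (B := C))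
  let πC : C →ₐ[R] K :=
    (IsScalarTower.toAlgHom R (S ⊗[R] C) K).comp
      (Algebra.TensorProduct.includeRight (R := R) (A := S) (B := C))
  let eK : K ⊗[R] C := Algebra.TensorProduct.map πS (AlgHom.id R C) e
  let δ : K ⊗[p.ResidueField] (p.ResidueField ⊗[R] C) ≃ₐ[K] K ⊗[R] C :=
    Algebra.TensorProduct.cancelBaseChange R p.ResidueField K K C
  let εC := Bialgebra.counitAlgHom R C
  let εp : p.ResidueField ⊗[R] C →ₐ[p.ResidueField] p.ResidueField :=
    Algebra.TensorProduct.lift (Algebra.ofId _ _) ((Algebra.ofId R p.ResidueField).comp εC)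
      fun _ _ => Commute.all _ _
  have hεK : Algebra.TensorProduct.lift (Algebra.ofId K K) ((Algebra.ofId R K).comp εC)
      (fun _ _ => Commute.all _ _) eK = 0 := by
    have h1 : ∀ z : S ⊗[R] C, Algebra.TensorProduct.lift (Algebra.ofId K K)
        ((Algebra.ofId R K).comp εC) (fun _ _ => Commute.all _ _)
        (Algebra.TensorProduct.map πS (AlgHom.id R C) z) =
        πS (Coalgebra.counit (R := S) z) := by
      intro z
      induction z using TensorProduct.induction_on with
      | zero => simp
      | add a b ha hb => simp only [map_add, ha, hb]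
      | tmul s c =>
        rw [TensorProduct.counit_tmul, CommSemiring.counit_apply, map_smul]
        simp [εC, Algebra.ofId_apply, Algebra.smul_def, mul_comm]
    rw [h1, ← CoalgHomClass.counit_comp_apply φ e, hφe, map_zero, map_zero]
  have heK : eK = 0 := by
    have h2 := idem_eq_zero_of_rational (K := K) εp
      ((he.map (Algebra.TensorProduct.map πS (AlgHom.id R C))).map δ.symm) ?_
    · rw [← δ.apply_symm_apply eK, h2, map_zero]
    · have h1 : ∀ w, Algebra.TensorProduct.lift (Algebra.ofId K K)
          ((Algebra.ofId p.ResidueField K).comp εp) (fun _ _ => Commute.all _ _) w =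
          Algebra.TensorProduct.lift (Algebra.ofId K K) ((Algebra.ofId R K).comp εC)
          (fun _ _ => Commute.all _ _) (δ w) := by
        intro w
        induction w using TensorProduct.induction_on with
        | zero => simp
        | add a b ha hb => simp only [map_add, ha, hb]
        | tmul a z =>
          induction z using TensorProduct.induction_on with
          | zero => simp
          | add a b ha hb => simp only [map_add, TensorProduct.tmul_add, ha, hb]
          | tmul q c =>
            simp [δ, εp, εC, Algebra.ofId_apply, Algebra.smul_def,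
              ← IsScalarTower.algebraMap_apply, mul_left_comm, mul_comm]
      rw [h1, AlgEquiv.apply_symm_apply]
      exact hεK
  have hmul : ∀ z : S ⊗[R] C, Algebra.TensorProduct.lift (Algebra.ofId K K) πC
      (fun _ _ => Commute.all _ _) (Algebra.TensorProduct.map πS (AlgHom.id R C) z) =
      algebraMap (S ⊗[R] C) K z := by
    intro z
    induction z using TensorProduct.induction_on with
    | zero => simp
    | add a b ha hb => simp only [map_add, ha, hb]
    | tmul s c =>
      rw [Algebra.TensorProduct.map_tmul, Algebra.TensorProduct.lift_tmul, AlgHom.id_apply,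
        Algebra.ofId_apply, Algebra.algebraMap_self, RingHom.id_apply]
      change algebraMap (S ⊗[R] C) K (s ⊗ₜ (1 : C)) * algebraMap (S ⊗[R] C) K ((1 : S) ⊗ₜ c) = _
      rw [← map_mul, Algebra.TensorProduct.tmul_mul_tmul, mul_one, one_mul]
  have h5 := hmul e
  rw [show Algebra.TensorProduct.map πS (AlgHom.id R C) e = eK from rfl, heK, map_zero] at h5
  exact Ideal.algebraMap_residueField_eq_zero.1 h5.symm

open WithConv in
theorem comp_powConv {R : Type u} [CommRing R] {C : Type u} [CommRing C] [HopfAlgebra R C]
    {k : Type u} [CommRing k] [Algebra R k] (x : WithConv (C →ₐ[R] k)) (n : ℕ) (c : C) :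
    x.ofConv (SGA3b.powConv R C n c) = (x ^ n).ofConv c := by
  induction n generalizing c with
  | zero =>
    rw [pow_zero, Groth.L25.MultType.powConv_zero, AlgHom.comp_apply]
    change x.ofConv (algebraMap R C (Coalgebra.counit c)) = algebraMap R k (Coalgebra.counit c)
    rw [AlgHom.commutes]
  | succ n ih =>
    rw [pow_succ, Groth.L25.MultType.powConv_succ_apply,
      show (x ^ n * x).ofConv c = (x ^ n * x) c from rfl, AlgHom.convMul_apply]
    induction Coalgebra.comul (R := R) c using TensorProduct.induction_on with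
    | zero => simp
    | add a b ha hb => simp only [map_add, ha, hb]
    | tmul a b =>
      rw [TensorProduct.map_tmul, LinearMap.mul'_apply, map_mul, Algebra.TensorProduct.lift_tmul,
        AlgHom.toLinearMap_apply, ih]
      rfl

/-- A torsion point kills the idempotent. -/
theorem torsion_point_eq_zero {R S : Type u} [CommRing R] [CommRing S] [IsLocalRing S] [Algebra R S]
    {C : Type u} [CommRing C] [HopfAlgebra R C] {k : Type u} [CommRing k] [Algebra S k]
    {e : S ⊗[R] C} (he : IsIdempotentElem e)
    (hmem : e ∈ (IsLocalRing.maximalIdeal S).map (algebraMap S (S ⊗[R] C))) {n : ℕ}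
    (hfin : Module.Finite R (C ⧸ SGA3b.torsionIdeal R C n))
    (y : WithConv ((S ⊗[R] C) →ₐ[S] k)) (hy : y ^ n = 1) : y.ofConv e = 0 := by
  haveI := hfin
  let J := SGA3b.torsionIdeal R C n
  let π : S ⊗[R] C →ₐ[S] S ⊗[R] (C ⧸ J) :=
    Algebra.TensorProduct.map (AlgHom.id S S) (Ideal.Quotient.mkₐ R J)
  have hπ : π e = 0 := by
    refine Descent.eq_zero_of_idem_of_mem_jacobson (he.map π) ?_
    refine Groth.L05.map_le_jacobson_bot (A := S) (C := S ⊗[R] (C ⧸ J))
      (IsLocalRing.jacobson_eq_maximalIdeal (⊥ : Ideal S) bot_ne_top).ge ?_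
    have h2 : Ideal.map (algebraMap S (S ⊗[R] C)) (IsLocalRing.maximalIdeal S) ≤
        (Ideal.map (algebraMap S (S ⊗[R] (C ⧸ J))) (IsLocalRing.maximalIdeal S)).comap π :=
      Ideal.map_le_iff_le_comap.2 fun r hr => by
        rw [Ideal.mem_comap, Ideal.mem_comap, AlgHom.commutes]
        exact Ideal.mem_map_of_mem _ hr
    exact h2 hmem
  have hle : RingHom.ker π ≤ RingHom.ker y.ofConv := by
    rw [show RingHom.ker π = _ from Algebra.TensorProduct.lTensor_ker (R := R) (A := S)
      (Ideal.Quotient.mkₐ R J) (Ideal.Quotient.mkₐ_surjective R J),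
      show RingHom.ker (Ideal.Quotient.mkₐ R J) = J from Ideal.Quotient.mkₐ_ker R J,
      Ideal.map_le_iff_le_comap]
    refine Groth.L25.MultType.torsionIdeal_le_iff.2 fun a => ?_
    rw [Ideal.mem_comap, RingHom.mem_ker, map_sub, map_sub]
    change y.ofConv ((1 : S) ⊗ₜ[R] SGA3b.powConv R C n a) -
      y.ofConv ((1 : S) ⊗ₜ[R] algebraMap R C (Coalgebra.counit a)) = 0
    rw [← Groth.L25.MultType.powConv_baseChange, comp_powConv, hy, sub_eq_zero,
      ← Algebra.TensorProduct.tmul_one_eq_one_tmul]
    change algebraMap S k (Coalgebra.counit (R := S) ((1 : S) ⊗ₜ[R] a)) =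
      y.ofConv (algebraMap S (S ⊗[R] C) (algebraMap R S (Coalgebra.counit a)))
    rw [AlgHom.commutes, TensorProduct.counit_tmul, CommSemiring.counit_apply,
      Algebra.algebraMap_eq_smul_one (Coalgebra.counit a)]
  exact hle hπ

/-- With finite torsion subgroups the idempotent is zero. -/
theorem clopen_eq_zero_of_torsion {R S : Type u} [CommRing R] [CommRing S] [IsLocalRing S]
    [Algebra R S] {C : Type u} [CommRing C] [HopfAlgebra R C] [Coalgebra.IsCocomm R C]
    [Algebra.FiniteType R C]
    (hfin : ∀ n : ℕ, 0 < n → Module.Finite R (C ⧸ SGA3b.torsionIdeal R C n))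
    {A : Type u} [CommRing A] [HopfAlgebra S A] (hA : SGA3b.IsIsotrivial S A)
    (φ : S ⊗[R] C →ₐc[S] A) (hφ : Function.Surjective φ) {e : S ⊗[R] C} (he : IsIdempotentElem e)
    (hker : RingHom.ker (φ : S ⊗[R] C →ₐ[S] A) = Ideal.span {e})
    (hmem : e ∈ (IsLocalRing.maximalIdeal S).map (algebraMap S (S ⊗[R] C))) : e = 0 := by
  classical
  refine he.eq_zero_of_isNilpotent (mem_nilradical.1 ?_)
  rw [nilradical_eq_sInf]
  refine Ideal.mem_sInf.2 fun {q} (hq : q.IsPrime) => ?_
  obtain ⟨T, _, _, _, _, hff, M, _, ⟨d⟩⟩ := hA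
  haveI := hff
  let W := T ⊗[S] q.ResidueField
  haveI : Nontrivial W :=
    (Module.FaithfullyFlat.tensorProduct_mk_injective (A := S) (B := T) q.ResidueField).nontrivial
  obtain ⟨w, hw⟩ := Ideal.exists_maximal W
  letI : Field (W ⧸ w) := Ideal.Quotient.field w
  let k := AlgebraicClosure (W ⧸ w)
  let g : q.ResidueField →ₐ[S] W ⧸ w :=
    (Ideal.Quotient.mkₐ S w).comp Algebra.TensorProduct.includeRight
  let x : S ⊗[R] C →ₐ[S] k :=
    ((IsScalarTower.toAlgHom S (W ⧸ w) k).comp g).comp
      (IsScalarTower.toAlgHom S (S ⊗[R] C) q.ResidueField)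
  haveI : Nontrivial T := (algebraMap T k).domain_nontrivial
  haveI : Algebra.FiniteType S A :=
    Algebra.FiniteType.of_surjective (φ : S ⊗[R] C →ₐ[S] A) hφ
  haveI : Algebra.FiniteType T (MonoidAlgebra T M) :=
    Algebra.FiniteType.equiv (A := T ⊗[S] A) inferInstance d.toAlgEquiv
  haveI : Group.FG M :=
    MonoidAlgebra.finiteType_iff_group_fg.1 (inferInstance : Algebra.FiniteType T _)
  have h1 : x e = 0 := apply_eq_zero_of_torsion φ hφ e he hker d
    (fun y n hn hyn => torsion_point_eq_zero he hmem (hfin n hn) y hyn) (WithConv.toConv x)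
  have h3 : algebraMap (S ⊗[R] C) q.ResidueField e = 0 := by
    apply (g : q.ResidueField →+* W ⧸ w).injective
    apply (algebraMap (W ⧸ w) k).injective
    rw [map_zero, map_zero]
    exact h1
  exact Ideal.algebraMap_residueField_eq_zero.1 h3

end Groth.L25.Char
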