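import Groth.Agent.L25.Char.SpreadLocal
import Groth.Agent.L25.Char.LocalKill
import Groth.Agent.L25.Char.AdicConnected
import Mathlib.Algebra.Group.UniqueProds.Basic
import Mathlib.Algebra.MonoidAlgebra.NoZeroDivisors

/-!
# Global criteria for multiplicative type by fibres
-/

set_option autoImplicit false

universe u

open TensorProduct

namespace Groth.L25.Char

open Groth.L25.MultType

variable {R A : Type u} [CommRing R] [CommRing A] [HopfAlgebra R A] [Module.Flat R A]

/-- The clopen subgroup of the localisation at a prime. -/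
theorem isMultType_localization (hfp : Algebra.FinitePresentation R A) (p : Ideal R) [p.IsPrime]
    (hs : SGA3b.IsMultType p.ResidueField (p.ResidueField ⊗[R] A))
    (kill : ∀ (S : Type u) [CommRing S] [IsLocalRing S] [Algebra R S] (B : Type u) [CommRing B]
      [HopfAlgebra S B] (φ : S ⊗[R] A →ₐc[S] B) (e : S ⊗[R] A), SGA3b.IsIsotrivial S B →
      Function.Surjective φ → IsIdempotentElem e →
      RingHom.ker (φ : S ⊗[R] A →ₐ[S] B) = Ideal.span {e} →
      e ∈ (IsLocalRing.maximalIdeal S).map (algebraMap S (S ⊗[R] A)) → e = 0) :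
    SGA3b.IsMultType (Localization.AtPrime p) (Localization.AtPrime p ⊗[R] A) := by
  let Rp := Localization.AtPrime p
  haveI := hfp
  have hs' : SGA3b.IsMultType (IsLocalRing.ResidueField Rp)
      (IsLocalRing.ResidueField Rp ⊗[Rp] (Rp ⊗[R] A)) :=
    isMultType_of_bialgEquiv (cancelBialg R Rp (IsLocalRing.ResidueField Rp) A).symm hs
  obtain ⟨S, _, _, _, B, _, _, φ, e, hff, hB, hφ, he, hker, hmem⟩ :=
    exists_clopen_local (R := Rp) (Rp ⊗[R] A) inferInstance
      (fun q _ _ => Module.Flat.trans Rp (Rp ⊗[R] A) (Localization.AtPrime q)) hs'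
  haveI := hff
  refine isMultType_of_clopen_zero φ e hB hφ hker ?_
  letI : Algebra R S := ((algebraMap Rp S).comp (algebraMap R Rp)).toAlgebra
  haveI : IsScalarTower R Rp S := IsScalarTower.of_algebraMap_eq fun _ => rfl
  let c : S ⊗[Rp] (Rp ⊗[R] A) ≃ₐc[S] S ⊗[R] A := cancelBialg R Rp S A
  have hker' : RingHom.ker ((φ.comp (c.symm : S ⊗[R] A →ₐc[S] S ⊗[Rp] (Rp ⊗[R] A))) :
      S ⊗[R] A →ₐ[S] B) = Ideal.span {c e} := by
    refine le_antisymm (fun x hx => ?_) ((Ideal.span_singleton_le_iff_mem _).2 ?_)
    · have h1 : c.symm x ∈ RingHom.ker (φ : S ⊗[Rp] (Rp ⊗[R] A) →ₐ[S] B) := hx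
      rw [hker] at h1
      obtain ⟨b, hb⟩ := Ideal.mem_span_singleton'.1 h1
      exact Ideal.mem_span_singleton'.2 ⟨c b, by rw [← map_mul, hb]; exact c.apply_symm_apply x⟩
    · change φ (c.symm (c e)) = 0
      rw [BialgEquiv.symm_apply_apply]
      have h0 : e ∈ RingHom.ker (φ : S ⊗[Rp] (Rp ⊗[R] A) →ₐ[S] B) := by
        rw [hker]; exact Ideal.subset_span rfl
      exact h0
  have hmem' : c e ∈ (IsLocalRing.maximalIdeal S).map (algebraMap S (S ⊗[R] A)) := by
    have hle : (IsLocalRing.maximalIdeal S).map (algebraMap S (S ⊗[Rp] (Rp ⊗[R] A))) ≤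
        ((IsLocalRing.maximalIdeal S).map (algebraMap S (S ⊗[R] A))).comap c.toAlgEquiv.toAlgHom :=
      Ideal.map_le_iff_le_comap.2 fun r hr => by
        rw [Ideal.mem_comap, Ideal.mem_comap, AlgHom.commutes]
        exact Ideal.mem_map_of_mem _ hr
    exact hle hmem
  have h := kill S B (φ.comp (c.symm : S ⊗[R] A →ₐc[S] S ⊗[Rp] (Rp ⊗[R] A))) (c e) hB
    (hφ.comp c.symm.surjective) (he.map c) hker' hmem'
  exact c.injective (h.trans (map_zero c).symm)

/-- Flat with connected fibres of multiplicative type implies multiplicative type. -/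
theorem isMultType_of_connected_fibres (hfp : Algebra.FinitePresentation R A)
    (hfib : ∀ (p : Ideal R) [p.IsPrime], SGA3b.IsMultType p.ResidueField (p.ResidueField ⊗[R] A) ∧
      ConnectedSpace (PrimeSpectrum (p.ResidueField ⊗[R] A))) :
    SGA3b.IsMultType R A :=
  isMultType_of_localizations hfp fun p _ =>
    isMultType_localization hfp p (hfib p).1 fun S _ _ _ B _ _ φ e _ _ he hker _ =>
      clopen_eq_zero_of_connected (fun q _ => (hfib q).2) φ he
        (show e ∈ RingHom.ker (φ : S ⊗[R] A →ₐ[S] B) by rw [hker]; exact Ideal.subset_span rfl)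

/-- Flat with fibres of multiplicative type and finite torsion implies multiplicative type. -/
theorem isMultType_of_torsion_fibres [Coalgebra.IsCocomm R A]
    (hfp : Algebra.FinitePresentation R A)
    (hfib : ∀ (p : Ideal R) [p.IsPrime], SGA3b.IsMultType p.ResidueField (p.ResidueField ⊗[R] A))
    (hfin : ∀ n : ℕ, 0 < n → Module.Finite R (A ⧸ SGA3b.torsionIdeal R A n)) :
    SGA3b.IsMultType R A :=
  isMultType_of_localizations hfp fun p _ =>
    isMultType_localization hfp p (hfib p) fun S _ _ _ B _ _ φ e hB hφ he hker hmem => by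
      haveI := hfp
      exact clopen_eq_zero_of_torsion hfin hB φ hφ he hker hmem

omit [Module.Flat R A] in
/-- A torus over a field splits over some extension field. -/
theorem exists_field_split_torus {k H : Type u} [Field k] [CommRing H] [HopfAlgebra k H]
    (h : SGA3b.IsTorus k H) : ∃ (K : Type u) (_ : Field K) (_ : Algebra k K) (n : ℕ),
      Nonempty (K ⊗[k] H ≃ₐc[K] MonoidAlgebra K (Multiplicative (ULift.{u} (Fin n → ℤ)))) := by
  obtain ⟨s, hs, hf⟩ := h
  obtain ⟨f, hfs, hf0⟩ : ∃ f ∈ s, f ≠ 0 := by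
    by_contra hcon
    push Not at hcon
    have h1 : Ideal.span s ≤ ⊥ := Ideal.span_le.2 fun x hx => hcon x hx
    rw [hs] at h1
    exact one_ne_zero (α := k) ((Submodule.mem_bot k).1 (h1 Submodule.mem_top))
  let L := Localization.Away f
  haveI : Nontrivial L := by
    rw [← not_subsingleton_iff_nontrivial,
      IsLocalization.subsingleton_iff (M := Submonoid.powers f) (S := L)]
    rintro ⟨j, hj⟩
    exact pow_ne_zero j hf0 hj
  obtain ⟨T, _, _, hff, n, ⟨d⟩⟩ := hf f hfs
  haveI := hff
  haveI : Nontrivial T := (FaithfulSMul.algebraMap_injective L T).nontrivial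
  obtain ⟨w, hw⟩ := Ideal.exists_maximal T
  let K := T ⧸ w
  letI : Field K := Ideal.Quotient.field w
  letI : Algebra k T := ((algebraMap L T).comp (algebraMap k L)).toAlgebra
  haveI : IsScalarTower k L T := IsScalarTower.of_algebraMap_eq fun _ => rfl
  let d' : T ⊗[k] H ≃ₐc[T] MonoidAlgebra T (Multiplicative (ULift.{u} (Fin n → ℤ))) :=
    ((cancelBialg k L T H).symm.trans d).trans
      (mapEquiv T (AddEquiv.toMultiplicative AddEquiv.ulift.symm))
  exact ⟨K, inferInstance, inferInstance, n, ⟨(splitEquiv d' K).symm⟩⟩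

omit [Module.Flat R A] in
/-- A torus over a field is connected. -/
theorem connectedSpace_torus {k H : Type u} [Field k] [CommRing H] [HopfAlgebra k H]
    (h : SGA3b.IsTorus k H) : ConnectedSpace (PrimeSpectrum H) := by
  obtain ⟨K, _, _, n, ⟨d⟩⟩ := exists_field_split_torus h
  haveI : IsDomain (MonoidAlgebra K (Multiplicative (Fin n → ℤ))) :=
    NoZeroDivisors.to_isDomain _
  haveI : IsDomain (K ⊗[k] H) :=
    (d.trans (mapEquiv (N := Multiplicative (Fin n → ℤ)) K
      (AddEquiv.toMultiplicative AddEquiv.ulift))).toAlgEquiv.toMulEquiv.isDomain _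
  have hinj : Function.Injective (Algebra.TensorProduct.includeRight : H → K ⊗[k] H) :=
    Algebra.TensorProduct.includeRight_injective (algebraMap k K).injective
  haveI : IsDomain H :=
    Function.Injective.isDomain (Algebra.TensorProduct.includeRight : H →ₐ[k] K ⊗[k] H).toRingHom hinj
  infer_instance

omit [Module.Flat R A] in
/-- A torus is of multiplicative type. -/
theorem isMultType_of_isTorus {k H : Type u} [CommRing k] [CommRing H] [HopfAlgebra k H]
    (h : SGA3b.IsTorus k H) : SGA3b.IsMultType k H := by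
  obtain ⟨s, hs, hf⟩ := h
  refine ⟨s, hs, fun f hfs => ?_⟩
  obtain ⟨T, i₁, i₂, hff, n, ⟨d⟩⟩ := hf f hfs
  exact ⟨T, i₁, i₂, hff, Multiplicative (ULift.{u} (Fin n → ℤ)), inferInstance,
    ⟨d.trans (mapEquiv T (AddEquiv.toMultiplicative AddEquiv.ulift.symm))⟩⟩

/-- Flat with fibres tori implies torus. -/
theorem isTorus_of_fibres (hfp : Algebra.FinitePresentation R A)
    (hfib : ∀ (p : Ideal R) [p.IsPrime], SGA3b.IsTorus p.ResidueField (p.ResidueField ⊗[R] A)) :
    SGA3b.IsTorus R A := by
  obtain ⟨s, hs, hd⟩ := isMultType_of_connected_fibres hfp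
    fun p _ => ⟨isMultType_of_isTorus (hfib p), connectedSpace_torus (hfib p)⟩
  refine ⟨s, hs, fun f hf => ?_⟩
  obtain ⟨T, _, _, hff, M, _, ⟨d⟩⟩ := hd f hf
  haveI := hff
  let L := Localization.Away f
  rcases subsingleton_or_nontrivial T with hT | hT
  · refine ⟨T, inferInstance, inferInstance, hff, 0, ?_⟩
    haveI : Subsingleton (MonoidAlgebra T M) := Module.subsingleton T _
    haveI : Subsingleton (MonoidAlgebra T (Multiplicative (Fin 0 → ℤ))) := Module.subsingleton T _
    exact ⟨d.trans (BialgEquiv.ofBijective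
      (MonoidAlgebra.mapDomainBialgHom T (1 : M →* Multiplicative (Fin 0 → ℤ)))
      ⟨fun a b _ => Subsingleton.elim a b, fun b => ⟨0, Subsingleton.elim _ _⟩⟩)⟩
  · obtain ⟨w, hw⟩ := Ideal.exists_maximal T
    let F := T ⧸ w
    letI : Field F := Ideal.Quotient.field w
    letI : Algebra R T := ((algebraMap L T).comp (algebraMap R L)).toAlgebra
    haveI : IsScalarTower R L T := IsScalarTower.of_algebraMap_eq fun _ => rfl
    let d₀ : T ⊗[R] A ≃ₐc[T] MonoidAlgebra T M := (cancelBialg R L T A).symm.trans d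
    let p : Ideal R := RingHom.ker (algebraMap R F)
    haveI : p.IsPrime := RingHom.ker_isPrime _
    obtain ⟨K, _, _, n, ⟨dK⟩⟩ := exists_field_split_torus (hfib p)
    letI : Algebra p.ResidueField F := (Ideal.ResidueField.lift p (algebraMap R F) le_rfl
      fun r hr => Ne.isUnit fun h => hr h).toAlgebra
    haveI : IsScalarTower R p.ResidueField F := IsScalarTower.of_algebraMap_eq fun r =>
      (Ideal.ResidueField.lift_algebraMap p (algebraMap R F) le_rfl _ r).symm
    obtain ⟨E, _, i, j, hij⟩ :=
      Model.exists_common_ext (algebraMap p.ResidueField K) (algebraMap p.ResidueField F)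
    letI : Algebra R E := (i.comp ((algebraMap p.ResidueField K).comp
      (algebraMap R p.ResidueField))).toAlgebra
    letI : Algebra T E := (j.comp (algebraMap T F)).toAlgebra
    letI : Algebra K E := i.toAlgebra
    letI : Algebra R K := ((algebraMap p.ResidueField K).comp
      (algebraMap R p.ResidueField)).toAlgebra
    haveI : IsScalarTower R p.ResidueField K := IsScalarTower.of_algebraMap_eq fun _ => rfl
    haveI : IsScalarTower R K E := IsScalarTower.of_algebraMap_eq fun _ => rfl
    haveI : IsScalarTower R T E := IsScalarTower.of_algebraMap_eq fun r => by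
      change i (algebraMap p.ResidueField K (algebraMap R p.ResidueField r)) =
        j (algebraMap T F (algebraMap R T r))
      rw [← IsScalarTower.algebraMap_apply R T F,
        IsScalarTower.algebraMap_apply R p.ResidueField F]
      exact DFunLike.congr_fun hij (algebraMap R p.ResidueField r)
    let dK' : K ⊗[R] A ≃ₐc[K] MonoidAlgebra K (Multiplicative (ULift.{u} (Fin n → ℤ))) :=
      (cancelBialg R p.ResidueField K A).symm.trans dK
    obtain ⟨g⟩ := type_unique ((splitEquiv d₀ E).trans (splitEquiv dK' E).symm)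
    exact ⟨T, inferInstance, inferInstance, hff, n,
      ⟨d.trans (mapEquiv T (g.trans (AddEquiv.toMultiplicative AddEquiv.ulift)))⟩⟩

end Groth.L25.Char
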