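import Groth.Agent.L25.Char.BaseChange
import Mathlib.RingTheory.LocalRing.Basic
import Mathlib.LinearAlgebra.TensorProduct.RightExactness

/-!
# Group-like elements and splittings
-/

set_option autoImplicit false

universe u

open TensorProduct

namespace Groth.L25.Char

open Groth.L25.MultType

variable {R A : Type u} [CommRing R] [CommRing A] [HopfAlgebra R A]
  {R' : Type u} [CommRing R'] [Algebra R R'] {M : Type u} [CommGroup M]

/-- The group-like element of a splitting given by a character. -/
noncomputable def splitElem (e : R' ⊗[R] A ≃ₐc[R'] MonoidAlgebra R' M) (m : M) : R' ⊗[R] A :=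
  e.symm (MonoidAlgebra.single m 1)

theorem isGL_splitElem (e : R' ⊗[R] A ≃ₐc[R'] MonoidAlgebra R' M) (m : M) :
    IsGL R A R' (splitElem e m) :=
  (isGL_iff R A R' _).2 ((MonoidAlgebra.isGroupLikeElem_single_one m).map e.symm)

/-- A splitting, further base changed. -/
noncomputable def splitEquiv (e : R' ⊗[R] A ≃ₐc[R'] MonoidAlgebra R' M) (T : Type u) [CommRing T]
    [Algebra R T] [Algebra R' T] [IsScalarTower R R' T] :
    MonoidAlgebra T M ≃ₐc[T] T ⊗[R] A :=
  ((scalarBialg R' T M).trans (baseChangeEquiv R' T e.symm)).trans (cancelBialg R R' T A)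

theorem splitEquiv_single (e : R' ⊗[R] A ≃ₐc[R'] MonoidAlgebra R' M) (T : Type u) [CommRing T]
    [Algebra R T] [Algebra R' T] [IsScalarTower R R' T] (m : M) :
    splitEquiv e T (MonoidAlgebra.single m 1) =
      mapT R A (IsScalarTower.toAlgHom R R' T) (splitElem e m) := by
  have h1 : splitEquiv e T (MonoidAlgebra.single m 1) =
      cancelBialg R R' T A ((1 : T) ⊗ₜ[R'] splitElem e m) := by
    change cancelBialg R R' T A (baseChangeEquiv R' T e.symm
      (scalarHom R' T M (MonoidAlgebra.single m 1))) = _
    rw [scalarHom_single]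
    rfl
  rw [h1]
  induction splitElem e m using TensorProduct.induction_on with
  | zero => simp
  | tmul r a =>
    rw [cancelBialg_tmul, Algebra.smul_def, _root_.mul_one]
    rfl
  | add x y hx hy => simp only [TensorProduct.tmul_add, map_add, hx, hy]

/-- Over a local ring above a splitting every group-like element is a character. -/
theorem exists_eq_splitElem (e : R' ⊗[R] A ≃ₐc[R'] MonoidAlgebra R' M) {T : Type u} [CommRing T]
    [Algebra R T] [Algebra R' T] [IsScalarTower R R' T] [IsLocalRing T] {x : T ⊗[R] A}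
    (hx : IsGL R A T x) :
    ∃ m, x = mapT R A (IsScalarTower.toAlgHom R R' T) (splitElem e m) := by
  have hR : ∀ r : T, IsIdempotentElem r → r = 0 ∨ r = 1 := fun r hr => by
    by_cases hu : IsUnit r
    · exact Or.inr ((IsIdempotentElem.iff_eq_one_of_isUnit hu).1 hr)
    · have h1 : IsUnit (1 - r) :=
        (IsLocalRing.isUnit_or_isUnit_of_add_one (add_sub_cancel r 1)).resolve_left hu
      refine Or.inl ?_
      have h2 := (IsIdempotentElem.iff_eq_one_of_isUnit h1).1 hr.one_sub
      simpa using h2
  obtain ⟨m, hm⟩ := eq_single hR (((isGL_iff R A T x).1 hx).map (splitEquiv e T).symm)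
  refine ⟨m, ?_⟩
  rw [← splitEquiv_single, ← hm]
  simp

theorem splitElem_injective [Nontrivial R'] (e : R' ⊗[R] A ≃ₐc[R'] MonoidAlgebra R' M) :
    Function.Injective (splitElem e) := by
  intro m m' h
  exact MonoidAlgebra.single_left_injective one_ne_zero (e.symm.injective h)

/-- Group-like elements congruent modulo a nilpotent ideal are equal. -/
theorem eq_of_congr_nilpotent [Module.FaithfullyFlat R R'] [Module.Flat R A]
    (e : R' ⊗[R] A ≃ₐc[R'] MonoidAlgebra R' M) {T : Type u} [CommRing T] [Algebra R T]
    {I : Ideal T} (hI : IsNilpotent I) {x y : T ⊗[R] A} (hx : IsGL R A T x) (hy : IsGL R A T y)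
    (h : mapT R A (Ideal.Quotient.mkₐ R I) x = mapT R A (Ideal.Quotient.mkₐ R I) y) : x = y := by
  let T' := T ⊗[R] R'
  letI : Algebra R' T' := Algebra.TensorProduct.rightAlgebra
  haveI : IsScalarTower R R' T' := IsScalarTower.of_algebraMap_eq fun r => by
    change algebraMap R T r ⊗ₜ[R] (1 : R') = (1 : T) ⊗ₜ algebraMap R R' r
    exact Algebra.TensorProduct.tmul_one_eq_one_tmul r
  let f : T →ₐ[R] T' := Algebra.TensorProduct.includeLeft
  have hf : Function.Injective f := fun a b hab =>
    Module.FaithfullyFlat.tensorProduct_mk_injective (A := R) (B := R') T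
      (congrArg (TensorProduct.comm R T R') hab)
  refine mapT_injective hf ?_
  have hx' := ((isGL_iff R A T' _).1 (hx.map f)).map (splitEquiv e T').symm
  have hy' := ((isGL_iff R A T' _).1 (hy.map f)).map (splitEquiv e T').symm
  refine (splitEquiv e T').symm.injective (eq_of_isNilpotent_sub hx' hy' fun m => ?_)
  suffices hmem : ((splitEquiv e T').symm (mapT R A f x) -
      (splitEquiv e T').symm (mapT R A f y)).coeff m ∈ I.map f by
    obtain ⟨n, hn⟩ := hI
    refine ⟨n, ?_⟩
    have h2 := Ideal.pow_mem_pow hmem n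
    rw [← Ideal.map_pow, hn, Ideal.zero_eq_bot, Ideal.map_bot, Ideal.mem_bot] at h2
    rwa [MonoidAlgebra.coeff_sub, Finsupp.sub_apply] at h2
  rw [← map_sub, ← map_sub]
  have hexact := rTensor_exact A (LinearMap.exact_subtype_ker_map (Ideal.Quotient.mkₐ R I).toLinearMap)
    (Ideal.Quotient.mk_surjective (I := I))
  have h0 : (Ideal.Quotient.mkₐ R I).toLinearMap.rTensor A (x - y) = 0 := by
    have : ∀ z, (Ideal.Quotient.mkₐ R I).toLinearMap.rTensor A z =
        mapT R A (Ideal.Quotient.mkₐ R I) z := fun z => by
      induction z using TensorProduct.induction_on with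
      | zero => simp
      | tmul t a => simp
      | add p q hp hq => simp only [map_add, hp, hq]
    rw [this, map_sub, h, sub_self]
  obtain ⟨z, hz⟩ := (hexact _).1 h0
  rw [← hz]
  clear hz h0
  induction z using TensorProduct.induction_on with
  | zero => simp
  | tmul i a =>
    have hi : (i : T) ∈ I := by
      have := i.2
      rw [LinearMap.mem_ker] at this
      exact Ideal.Quotient.eq_zero_iff_mem.1 this
    rw [LinearMap.rTensor_tmul, Submodule.subtype_apply]
    have h3 : mapT R A f ((i : T) ⊗ₜ[R] a) = f i • ((1 : T') ⊗ₜ[R] a) := by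
      rw [TensorProduct.smul_tmul', smul_eq_mul, _root_.mul_one]
      rfl
    rw [h3, map_smul, MonoidAlgebra.coeff_smul, Finsupp.smul_apply]
    exact Ideal.mul_mem_right _ _ (Ideal.mem_map_of_mem f hi)
  | add p q hp hq =>
    rw [map_add, map_add, map_add, MonoidAlgebra.coeff_add, Finsupp.add_apply]
    exact add_mem hp hq

end Groth.L25.Char
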