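import Groth.Agent.L25.MultType.Idem
import Mathlib.RingTheory.Bialgebra.MonoidAlgebra
import Mathlib.RingTheory.Nilpotent.Basic
import Mathlib.Algebra.BigOperators.Finsupp.Basic

/-!
# Group-like elements of a group algebra over an arbitrary ring

The coefficients of a group-like element form a finite complete family of orthogonal idempotents.
-/

set_option autoImplicit false

universe u v

open TensorProduct

namespace Groth.L25.Char

open Groth.L25.MultType

variable {R : Type u} [CommRing R] {M : Type v} [Monoid M]

theorem coeff_mul_coeff [DecidableEq M] {x : MonoidAlgebra R M} (hx : IsGroupLikeElem R x)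
    (a b : M) : x.coeff a * x.coeff b = if a = b then x.coeff a else 0 := by
  have key : ∀ y : MonoidAlgebra R M,
      LinearMap.mul' R R (TensorProduct.map (coefL a) (coefL b) (Coalgebra.comul (R := R) y)) =
        if a = b then y.coeff a else 0 := by
    intro y
    have h := LinearMap.congr_fun (congrArg WithConv.ofConv (coefL_mul (R := R) a b)) y
    simp only [LinearMap.convMul_def, LinearMap.comp_apply, WithConv.ofConv_toConv] at h
    rw [h]
    split_ifs <;> rfl
  have h := key x
  rwa [hx.comul_eq_tmul_self, TensorProduct.map_tmul, LinearMap.mul'_apply, coefL_apply,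
    coefL_apply] at h

theorem isIdempotentElem_coeff {x : MonoidAlgebra R M} (hx : IsGroupLikeElem R x) (a : M) :
    IsIdempotentElem (x.coeff a) := by
  classical
  simpa [IsIdempotentElem] using coeff_mul_coeff hx a a

theorem sum_coeff {x : MonoidAlgebra R M} (hx : IsGroupLikeElem R x) :
    x.coeff.sum (fun _ r => r) = 1 := by
  have key : ∀ y : MonoidAlgebra R M,
      Coalgebra.counit (R := R) y = y.coeff.sum (fun _ r => r) := by
    intro y
    induction y using MonoidAlgebra.induction_linear with
    | zero => simp
    | add p q hp hq =>
      rw [map_add, hp, hq, MonoidAlgebra.coeff_add,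
        Finsupp.sum_add_index' (fun _ => rfl) (fun _ _ _ => rfl)]
    | single m r => simp [MonoidAlgebra.coeff_single]
  rw [← key, hx.counit_eq_one]

/-- Over a ring without non-trivial idempotents a group-like element is a group element. -/
theorem eq_single [Nontrivial R] (hR : ∀ e : R, IsIdempotentElem e → e = 0 ∨ e = 1)
    {x : MonoidAlgebra R M} (hx : IsGroupLikeElem R x) :
    ∃ m, x = MonoidAlgebra.single m 1 := by
  classical
  obtain ⟨m, hm⟩ : ∃ m, x.coeff m ≠ 0 := by
    by_contra h
    push Not at h
    have h1 := sum_coeff hx
    rw [show x.coeff = 0 from Finsupp.ext fun m => h m, Finsupp.sum_zero_index] at h1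
    exact zero_ne_one h1
  have hm1 : x.coeff m = 1 := (hR _ (isIdempotentElem_coeff hx m)).resolve_left hm
  refine ⟨m, MonoidAlgebra.ext (Finsupp.ext fun a => ?_)⟩
  rw [MonoidAlgebra.coeff_single, Finsupp.single_apply]
  split_ifs with h
  · subst h; exact hm1
  · have := coeff_mul_coeff hx m a
    rwa [if_neg h, hm1, one_mul] at this

/-- Group-like elements with congruent coefficients modulo nilpotents are equal. -/
theorem eq_of_isNilpotent_sub {x y : MonoidAlgebra R M} (hx : IsGroupLikeElem R x)
    (hy : IsGroupLikeElem R y) (h : ∀ m, IsNilpotent (x.coeff m - y.coeff m)) : x = y :=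
  MonoidAlgebra.ext (Finsupp.ext fun m =>
    eq_of_isNilpotent_sub_of_isIdempotentElem (isIdempotentElem_coeff hx m)
      (isIdempotentElem_coeff hy m) (h m))

end Groth.L25.Char
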