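import Groth.Agent.L25.Char.NilSplit
import Mathlib.LinearAlgebra.TensorProduct.Pi
import Mathlib.RingTheory.TensorProduct.IncludeLeftSubRight
import Mathlib.RingTheory.Spectrum.Prime.Topology
import Mathlib.RingTheory.Flat.FaithfullyFlat.Algebra

/-!
# Characters of groups of multiplicative type lift uniquely along nil thickenings
-/

set_option autoImplicit false

universe u

open TensorProduct

namespace Groth.L25.Char

open Groth.L25.MultType

variable {R A : Type u} [CommRing R] [CommRing A] [HopfAlgebra R A]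
  {R' : Type u} [CommRing R'] [Algebra R R'] {M : Type u} [CommGroup M]

/-- The coordinates of a splitting commute with base change. -/
theorem splitEquiv_natural (e : R' ⊗[R] A ≃ₐc[R'] MonoidAlgebra R' M) {T T' : Type u} [CommRing T]
    [CommRing T'] [Algebra R T] [Algebra R T'] [Algebra R' T] [Algebra R' T'] [IsScalarTower R R' T]
    [IsScalarTower R R' T'] (q : T →ₐ[R] T')
    (hq : ∀ r : R', q (algebraMap R' T r) = algebraMap R' T' r) (z : MonoidAlgebra T M) :
    mapT R A q (splitEquiv e T z) =
      splitEquiv e T' (MonoidAlgebra.mapRingHom M (q : T →+* T') z) := by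
  induction z using MonoidAlgebra.induction_linear with
  | zero => simp
  | add p p' hp hp' => simp only [map_add, hp, hp']
  | single m r =>
    have h1 : MonoidAlgebra.single m r = r • MonoidAlgebra.single m (1 : T) := by simp
    have h2 : MonoidAlgebra.single m (q r) = q r • MonoidAlgebra.single m (1 : T') := by simp
    rw [MonoidAlgebra.mapRingHom_single, RingHom.coe_coe, h1, h2, map_smul (splitEquiv e T),
      map_smul (splitEquiv e T'), splitEquiv_single, splitEquiv_single, mapT_smul, mapT_mapT]
    congr 3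
    exact AlgHom.ext hq

theorem mem_smul_top_of_mapT_eq_zero {T : Type u} [CommRing T] [Algebra R T] (J : Ideal T)
    {z : T ⊗[R] A} (h : mapT R A (Ideal.Quotient.mkₐ R J) z = 0) :
    z ∈ J • (⊤ : Submodule T (T ⊗[R] A)) := by
  have h0 : (Ideal.Quotient.mkₐ R J).toLinearMap.rTensor A z = 0 :=
    (rTensor_eq_mapT _ _).trans h
  obtain ⟨w, rfl⟩ := ((rTensor_exact A
    (LinearMap.exact_subtype_ker_map (Ideal.Quotient.mkₐ R J).toLinearMap)
    (Ideal.Quotient.mk_surjective (I := J))) _).1 h0
  clear h0 h
  induction w using TensorProduct.induction_on with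
  | zero => simp
  | add p q hp hq => rw [map_add]; exact add_mem hp hq
  | tmul i a =>
    have hi : (i : T) ∈ J := Ideal.Quotient.eq_zero_iff_mem.1 i.2
    rw [LinearMap.rTensor_tmul, Submodule.subtype_apply,
      show (i : T) ⊗ₜ[R] a = (i : T) • ((1 : T) ⊗ₜ[R] a) by
        rw [TensorProduct.smul_tmul', smul_eq_mul, _root_.mul_one]]
    exact Submodule.smul_mem_smul hi trivial

/-- Group-like elements congruent modulo a nil ideal are equal. -/
theorem eq_of_congr_nil (hA : SGA3b.IsMultType R A) {T : Type u} [CommRing T] [Algebra R T]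
    {J : Ideal T} (hJ : ∀ x ∈ J, IsNilpotent x) {x y : T ⊗[R] A} (hx : IsGL R A T x)
    (hy : IsGL R A T y)
    (h : mapT R A (Ideal.Quotient.mkₐ R J) x = mapT R A (Ideal.Quotient.mkₐ R J) y) : x = y := by
  refine sub_eq_zero.1 (eq_zero_of_split (isMultType_baseChange (T := T) hA) _ fun T' _ _ hd => ?_)
  letI : Algebra R T' := ((algebraMap T T').comp (algebraMap R T)).toAlgebra
  haveI : IsScalarTower R T T' := IsScalarTower.of_algebraMap_eq fun _ => rfl
  obtain ⟨M, _, ⟨e⟩⟩ := isDiag_of_bialgEquiv (cancelBialg R T T' A) hd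
  let f : T →ₐ[R] T' := IsScalarTower.toAlgHom R T T'
  have key : ∀ z, cancelBialg R T T' A ((1 : T') ⊗ₜ[T] z) = mapT R A f z := by
    intro z
    induction z using TensorProduct.induction_on with
    | zero => simp
    | tmul r a => rw [cancelBialg_tmul, Algebra.smul_def, _root_.mul_one]; rfl
    | add p q hp hq => simp only [TensorProduct.tmul_add, map_add, hp, hq]
  have hxy : e (mapT R A f x) = e (mapT R A f y) := by
    refine eq_of_isNilpotent_sub (((isGL_iff R A T' _).1 (hx.map f)).map e)
      (((isGL_iff R A T' _).1 (hy.map f)).map e) fun m => ?_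
    rw [← Finsupp.sub_apply, ← MonoidAlgebra.coeff_sub, ← map_sub, ← map_sub]
    have hle : J.map f ≤ nilradical T' := Ideal.map_le_iff_le_comap.2 fun z hz => (hJ z hz).map f
    refine mem_nilradical.1 (hle ?_)
    have hmem : x - y ∈ J • (⊤ : Submodule T (T ⊗[R] A)) :=
      mem_smul_top_of_mapT_eq_zero J (by rw [map_sub, h, sub_self])
    refine Submodule.smul_induction_on hmem (fun i hi a _ => ?_) (fun p q hp hq => ?_)
    · rw [mapT_smul, map_smul, MonoidAlgebra.coeff_smul, Finsupp.smul_apply]
      exact Ideal.mul_mem_right _ _ (Ideal.mem_map_of_mem f hi)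
    · rw [map_add, map_add, MonoidAlgebra.coeff_add, Finsupp.add_apply]
      exact add_mem hp hq
  refine (cancelBialg R T T' A).injective ?_
  change cancelBialg R T T' A _ = cancelBialg R T T' A 0
  rw [key, map_zero, map_sub, sub_eq_zero]
  exact e.injective hxy

/-- A finite faithfully flat family of splittings. -/
theorem exists_split_family (hA : SGA3b.IsMultType R A) :
    ∃ (ι : Type u) (_ : Fintype ι) (S : ι → Type u) (_ : ∀ i, CommRing (S i))
      (_ : ∀ i, Algebra R (S i)), Module.FaithfullyFlat R (∀ i, S i) ∧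
        ∀ i, SGA3b.IsDiag (S i) (S i ⊗[R] A) := by
  classical
  obtain ⟨s, hs, hsplit⟩ := exists_split hA
  obtain ⟨t, hts, ht⟩ := (Ideal.span_eq_top_iff_finite s).1 hs
  choose S hS1 hS2 hS3 htow hff hd using fun i : t => hsplit i.1 (hts i.2)
  haveI : ∀ i : t, Module.Flat R (S i) := fun i => by
    letI := hS3 i
    haveI := htow i
    haveI := hff i
    exact Module.Flat.trans R (Localization.Away (i : R)) (S i)
  haveI : Module.Flat R (∀ i : t, S i) :=
    Module.Flat.of_linearEquiv (DFinsupp.linearEquivFunOnFintype (R := R) (M := S)).symm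
  refine ⟨t, inferInstance, S, hS1, hS2, ?_, hd⟩
  refine Module.FaithfullyFlat.of_comap_surjective fun p => ?_
  obtain ⟨i, hi⟩ : ∃ i : t, (i : R) ∉ p.asIdeal := by
    by_contra hcon
    push Not at hcon
    exact p.isPrime.ne_top (top_le_iff.1 (ht ▸ Ideal.span_le.2 fun x hx => hcon ⟨x, hx⟩))
  letI := hS3 i
  haveI := htow i
  haveI := hff i
  obtain ⟨pf, hpf⟩ : p ∈ Set.range (PrimeSpectrum.comap (algebraMap R (Localization.Away (i : R)))) := by
    rw [PrimeSpectrum.localization_away_comap_range (Localization.Away (i : R)) (i : R)]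
    exact hi
  obtain ⟨w, hw⟩ := PrimeSpectrum.comap_surjective_of_faithfullyFlat
    (A := Localization.Away (i : R)) (B := S i) pf
  refine ⟨PrimeSpectrum.comap (Pi.evalRingHom S i) w, ?_⟩
  rw [← hpf, ← hw, ← PrimeSpectrum.comap_comp_apply, ← PrimeSpectrum.comap_comp_apply,
    ← IsScalarTower.algebraMap_eq]
  rfl

section Pi

variable {ι : Type u} [Fintype ι] [DecidableEq ι] {S : ι → Type u} [∀ i, CommRing (S i)]
  [∀ i, Algebra R (S i)]

theorem mapT_eval_eq_piLeft {N : Type u} [CommRing N] [Algebra R N] (z : (∀ i, S i) ⊗[R] N)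
    (i : ι) : Algebra.TensorProduct.map (Pi.evalAlgHom R S i) (AlgHom.id R N) z =
      TensorProduct.piLeft R N S z i := by
  induction z using TensorProduct.induction_on with
  | zero => simp
  | tmul f n => simp [TensorProduct.piLeft]
  | add p q hp hq => simp only [map_add, Pi.add_apply, hp, hq]

theorem pi_ext {N : Type u} [CommRing N] [Algebra R N] {z z' : (∀ i, S i) ⊗[R] N}
    (h : ∀ i, Algebra.TensorProduct.map (Pi.evalAlgHom R S i) (AlgHom.id R N) z =
      Algebra.TensorProduct.map (Pi.evalAlgHom R S i) (AlgHom.id R N) z') : z = z' :=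
  (TensorProduct.piLeft R N S).injective (funext fun i => by
    rw [← mapT_eval_eq_piLeft, ← mapT_eval_eq_piLeft, h])

theorem exists_pi {y : ∀ i, S i ⊗[R] A} (hy : ∀ i, IsGL R A (S i) (y i)) :
    ∃ z : (∀ i, S i) ⊗[R] A, IsGL R A (∀ i, S i) z ∧
      ∀ i, mapT R A (Pi.evalAlgHom R S i) z = y i := by
  refine ⟨(TensorProduct.piLeft R A S).symm y, ?_, fun i => ?_⟩
  · have hz : ∀ i, mapT R A (Pi.evalAlgHom R S i) ((TensorProduct.piLeft R A S).symm y) = y i :=
      fun i => by rw [mapT, mapT_eval_eq_piLeft, LinearEquiv.apply_symm_apply]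
    refine ⟨pi_ext fun i => ?_, funext fun i => ?_⟩
    · rw [← mapT, ← comulT_mapT, ← sqT_mapT, hz, (hy i).1]
    · have := counit_mapT R A (Pi.evalAlgHom R S i) ((TensorProduct.piLeft R A S).symm y)
      rw [hz, (hy i).2] at this
      exact this.symm
  · rw [mapT, mapT_eval_eq_piLeft, LinearEquiv.apply_symm_apply]

end Pi

/-- Existence of lifts of characters. -/
theorem exists_lift [Module.Flat R A] (hA : SGA3b.IsMultType R A) {I : Ideal R}
    (hI : ∀ x ∈ I, IsNilpotent x) {x₀ : (R ⧸ I) ⊗[R] A} (hx₀ : IsGL R A (R ⧸ I) x₀) :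
    ∃ w : R ⊗[R] A, IsGL R A R w ∧ mapT R A (Ideal.Quotient.mkₐ R I) w = x₀ := by
  classical
  obtain ⟨ι, _, S, _, _, hff, hd⟩ := exists_split_family hA
  choose M hM he using hd
  have e : ∀ i, S i ⊗[R] A ≃ₐc[S i] MonoidAlgebra (S i) (M i) := fun i => (he i).some
  let J : ∀ i, Ideal (S i) := fun i => I.map (algebraMap R (S i))
  have hJ : ∀ i, ∀ z ∈ J i, IsNilpotent z := fun i z hz => mem_nilradical.1
    ((show J i ≤ nilradical (S i) from Ideal.map_le_iff_le_comap.2 fun r hr => (hI r hr).map _) hz)
  let q : ∀ i, (R ⧸ I) →ₐ[R] S i ⧸ J i := fun i => Ideal.Quotient.liftₐ I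
    ((Ideal.Quotient.mkₐ R (J i)).comp (Algebra.ofId R (S i)))
    (fun r hr => Ideal.Quotient.eq_zero_iff_mem.2 (Ideal.mem_map_of_mem _ hr))
  have hlift : ∀ i, ∃ y, IsGL R A (S i) y ∧
      mapT R A (Ideal.Quotient.mkₐ R (J i)) y = mapT R A (q i) x₀ := by
    intro i
    obtain ⟨c, hc, hc₀⟩ := exists_groupLike_lift (J i) (hJ i)
      (((isGL_iff R A _ _).1 (hx₀.map (q i))).map (splitEquiv (e i) (S i ⧸ J i)).symm)
    refine ⟨splitEquiv (e i) (S i) c, (isGL_iff R A _ _).2 (hc.map (splitEquiv (e i) (S i))), ?_⟩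
    rw [splitEquiv_natural (e i) (Ideal.Quotient.mkₐ R (J i)) (fun _ => rfl),
      show ((Ideal.Quotient.mkₐ R (J i) : S i →ₐ[R] S i ⧸ J i) : S i →+* S i ⧸ J i) =
        Ideal.Quotient.mk (J i) from rfl, hc₀]
    simp
  choose y hy hy₀ using hlift
  obtain ⟨z, hz, hzi⟩ := exists_pi hy
  let P := ∀ i, S i
  let JP : Ideal P := I.map (algebraMap R P)
  let qP : (R ⧸ I) →ₐ[R] P ⧸ JP := Ideal.Quotient.liftₐ I
    ((Ideal.Quotient.mkₐ R JP).comp (Algebra.ofId R P))
    (fun r hr => Ideal.Quotient.eq_zero_iff_mem.2 (Ideal.mem_map_of_mem _ hr))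
  -- `z` reduces to `x₀`
  obtain ⟨x₁, hx₁⟩ : ∃ x₁ : R ⊗[R] A, mapT R A (Ideal.Quotient.mkₐ R I) x₁ = x₀ := by
    obtain ⟨x₁, hx₁⟩ := LinearMap.rTensor_surjective A
      (g := (Ideal.Quotient.mkₐ R I).toLinearMap) Ideal.Quotient.mk_surjective x₀
    exact ⟨x₁, (rTensor_eq_mapT _ _).symm.trans hx₁⟩
  have hz₀ : mapT R A (Ideal.Quotient.mkₐ R JP) z = mapT R A qP x₀ := by
    have hcomp : qP.comp (Ideal.Quotient.mkₐ R I) =
        (Ideal.Quotient.mkₐ R JP).comp (Algebra.ofId R P) := AlgHom.ext fun _ => rfl
    rw [← hx₁, mapT_mapT, hcomp, ← mapT_mapT]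
    refine sub_eq_zero.1 ?_
    rw [← map_sub]
    set d := z - mapT R A (Algebra.ofId R P) x₁
    have hd : ∀ i, TensorProduct.piLeft R A S d i ∈ I • (⊤ : Submodule R (S i ⊗[R] A)) := by
      intro i
      rw [← mapT_eval_eq_piLeft]
      change mapT R A (Pi.evalAlgHom R S i) d ∈ _
      have h0 : mapT R A (Ideal.Quotient.mkₐ R (J i)) (mapT R A (Pi.evalAlgHom R S i) d) = 0 := by
        rw [map_sub, map_sub, hzi, hy₀, mapT_mapT, mapT_mapT, ← hx₁, mapT_mapT, sub_eq_zero]
        congr 2
      refine Submodule.smul_induction_on (mem_smul_top_of_mapT_eq_zero (J i) h0)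
        (fun j hj a _ => ?_) (fun _ _ ha hb => add_mem ha hb)
      have hj' : j ∈ I • (⊤ : Submodule R (S i)) := by rw [Ideal.smul_top_eq_map]; exact hj
      refine Submodule.smul_induction_on hj' (fun r hr t _ => ?_)
        (fun p p' hp hp' => by rw [add_smul]; exact add_mem hp hp')
      rw [smul_assoc]
      exact Submodule.smul_mem_smul hr trivial
    have hd' : d ∈ I • (⊤ : Submodule R (P ⊗[R] A)) := by
      rw [show d = (TensorProduct.piLeft R A S).symm (TensorProduct.piLeft R A S d) from
        ((TensorProduct.piLeft R A S).symm_apply_apply d).symm]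
      generalize TensorProduct.piLeft R A S d = v at hd
      rw [← Finset.univ_sum_single v, map_sum]
      refine sum_mem fun i _ => ?_
      have hm := Submodule.mem_map_of_mem
        (f := (TensorProduct.piLeft R A S).symm.toLinearMap ∘ₗ
          LinearMap.single R (fun i => S i ⊗[R] A) i) (hd i)
      rw [Submodule.map_smul''] at hm
      exact Submodule.smul_mono le_rfl le_top hm
    refine Submodule.smul_induction_on hd' (fun r hr a _ => ?_)
      (fun a b ha hb => by rw [map_add, ha, hb, add_zero])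
    rw [map_smul, ← algebraMap_smul (P ⧸ JP) r,
      IsScalarTower.algebraMap_apply R P (P ⧸ JP), Ideal.Quotient.algebraMap_eq,
      Ideal.Quotient.eq_zero_iff_mem.2 (Ideal.mem_map_of_mem (algebraMap R P) hr)]
    exact zero_smul (P ⧸ JP) (mapT R A (Ideal.Quotient.mkₐ R JP) a)
  -- descend
  let P₂ := P ⊗[R] P
  let J₂ : @Ideal P₂ CommSemiring.toSemiring := I.map (algebraMap R P₂)
  have hJ₂ : ∀ v ∈ J₂, IsNilpotent v := fun v hv => mem_nilradical.1
    ((show J₂ ≤ nilradical P₂ from Ideal.map_le_iff_le_comap.2 fun r hr => (hI r hr).map _) hv)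
  let i₁ : P →ₐ[R] P₂ := Algebra.TensorProduct.includeLeft
  let i₂ : P →ₐ[R] P₂ := Algebra.TensorProduct.includeRight
  have heq : mapT R A i₁ z = mapT R A i₂ z := by
    refine eq_of_congr_nil hA hJ₂ (hz.map i₁) (hz.map i₂) ?_
    let q₂ : (R ⧸ I) →ₐ[R] P₂ ⧸ J₂ := Ideal.Quotient.liftₐ I
      ((Ideal.Quotient.mkₐ R J₂).comp (Algebra.ofId R P₂))
      (fun r hr => Ideal.Quotient.eq_zero_iff_mem.2 (Ideal.mem_map_of_mem _ hr))
    have key : ∀ g : P →ₐ[R] P₂, mapT R A (Ideal.Quotient.mkₐ R J₂) (mapT R A g z) =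
        mapT (T := R ⧸ I) (T' := P₂ ⧸ J₂) R A q₂ x₀ := by
      intro g
      let gq : (P ⧸ JP) →ₐ[R] P₂ ⧸ J₂ := Ideal.Quotient.liftₐ JP
        ((Ideal.Quotient.mkₐ R J₂).comp g) (fun v hv => by
          have hle : JP ≤ RingHom.ker ((Ideal.Quotient.mkₐ R J₂).comp g) :=
            Ideal.map_le_iff_le_comap.2 fun r hr => by
              rw [Ideal.mem_comap, RingHom.mem_ker, AlgHom.commutes,
                IsScalarTower.algebraMap_apply R P₂ (P₂ ⧸ J₂)]
              exact Ideal.Quotient.eq_zero_iff_mem.2 (Ideal.mem_map_of_mem _ hr)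
          exact hle hv)
      have h1 : gq.comp (Ideal.Quotient.mkₐ R JP) = (Ideal.Quotient.mkₐ R J₂).comp g :=
        AlgHom.ext fun _ => rfl
      rw [mapT_mapT, ← h1, ← mapT_mapT, hz₀, mapT_mapT]
      congr 2
      exact Ideal.Quotient.algHom_ext R (AlgHom.ext fun r => ((gq.comp qP).commutes r).trans
        (AlgHom.commutes _ r).symm)
    rw [key, key]
  obtain ⟨w, hw⟩ : ∃ w : R ⊗[R] A, mapT R A (Algebra.ofId R P) w = z := by
    haveI := hff
    have hex := Module.Flat.rTensor_exact (M := A) (Algebra.IsEffective.of_faithfullyFlat R P)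
    obtain ⟨w, hw⟩ := (hex z).1 (by
      rw [Algebra.TensorProduct.includeLeftSubRight, LinearMap.rTensor_sub, LinearMap.sub_apply,
        rTensor_eq_mapT i₁, rTensor_eq_mapT i₂]
      exact sub_eq_zero.2 heq)
    exact ⟨w, (rTensor_eq_mapT _ _).symm.trans hw⟩
  haveI := hff
  have hinj : Function.Injective (Algebra.ofId R P) := FaithfulSMul.algebraMap_injective R P
  refine ⟨w, ⟨?_, ?_⟩, ?_⟩
  · apply mapT_injective (A := A ⊗[R] A) hinj
    rw [← comulT_mapT, ← sqT_mapT, hw, hz.1]
  · apply hinj
    rw [← counit_mapT, hw, hz.2, map_one]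
  · have hqinj : Function.Injective qP := by
      rw [injective_iff_map_eq_zero]
      intro a ha
      obtain ⟨a, rfl⟩ := Ideal.Quotient.mk_surjective a
      refine Ideal.Quotient.eq_zero_iff_mem.2 ?_
      have h := Ideal.Quotient.eq_zero_iff_mem.1
        (show Ideal.Quotient.mk JP (algebraMap R P a) = 0 from ha)
      rw [← I.comap_map_eq_self_of_faithfullyFlat (B := P)]
      exact h
    apply mapT_injective (A := A) hqinj
    rw [← hz₀, ← hw, mapT_mapT, mapT_mapT]
    congr 2

/-- A group of multiplicative type diagonalisable modulo a nil ideal is diagonalisable. -/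
theorem isDiag_of_nil (hA : SGA3b.IsMultType R A) {I : Ideal R} (hI : ∀ x ∈ I, IsNilpotent x)
    (h : SGA3b.IsDiag (R ⧸ I) ((R ⧸ I) ⊗[R] A)) : SGA3b.IsDiag R A := by
  classical
  haveI : Module.Flat R A := flat hA
  obtain ⟨M, _, ⟨e₀⟩⟩ := h
  choose x hx hx₀ using fun m : M => exists_lift hA hI (isGL_splitElem e₀ m)
  let χ : M →* GroupLike R (R ⊗[R] A) :=
    { toFun := fun m => ⟨x m, (isGL_iff R A R _).1 (hx m)⟩
      map_one' := GroupLike.ext (eq_of_congr_nil hA hI (hx 1)
        ((isGL_iff R A R _).2 IsGroupLikeElem.one)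
        (by
          change _ = mapT R A (Ideal.Quotient.mkₐ R I) 1
          rw [hx₀, map_one]
          exact (splitChar e₀).map_one))
      map_mul' := fun a b => GroupLike.ext (eq_of_congr_nil hA hI (hx _)
        ((isGL_iff R A R _).2 (((isGL_iff R A R _).1 (hx a)).mul ((isGL_iff R A R _).1 (hx b))))
        (by
          change _ = mapT R A (Ideal.Quotient.mkₐ R I) (x a * x b)
          rw [hx₀, map_mul, hx₀, hx₀]
          exact (splitChar e₀).map_mul a b)) }
  suffices hbij : Function.Bijective (charMap χ) from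
    ⟨M, inferInstance, ⟨((BialgEquiv.ofBijective (charMap χ) hbij).trans
      (Bialgebra.TensorProduct.lid R A)).symm⟩⟩
  obtain ⟨ι, _, S, _, _, hff, hd⟩ := exists_split_family hA
  haveI := hff
  have hcomp : ∀ i, Function.Bijective (charMap ((glMap R A (Algebra.ofId R (S i))).comp χ)) := by
    intro i
    obtain ⟨N, _, ⟨e⟩⟩ := hd i
    let J : Ideal (S i) := I.map (algebraMap R (S i))
    have hJ : ∀ z ∈ J, IsNilpotent z := fun z hz => mem_nilradical.1
      ((show J ≤ nilradical (S i) from Ideal.map_le_iff_le_comap.2 fun r hr => (hI r hr).map _) hz)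
    letI : Algebra (R ⧸ I) (S i ⧸ J) := (Ideal.Quotient.liftₐ I
      ((Ideal.Quotient.mkₐ R J).comp (Algebra.ofId R (S i)))
      (fun r hr => Ideal.Quotient.eq_zero_iff_mem.2 (Ideal.mem_map_of_mem _ hr))).toRingHom.toAlgebra
    haveI : IsScalarTower R (R ⧸ I) (S i ⧸ J) := IsScalarTower.of_algebraMap_eq fun r => rfl
    set θ := (glMap R A (Algebra.ofId R (S i))).comp χ with hθ
    let f : MonoidAlgebra (S i) M →ₐc[S i] MonoidAlgebra (S i) N :=
      ((splitEquiv e (S i)).symm : S i ⊗[R] A →ₐc[S i] MonoidAlgebra (S i) N).comp (charMap θ)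
    have hf : Function.Bijective f := by
      refine bijective_of_bijective_mod_nil hJ f
        ((splitEquiv e₀ (S i ⧸ J)).trans (splitEquiv e (S i ⧸ J)).symm) fun z => ?_
      suffices hsuff : splitEquiv e (S i ⧸ J) (MonoidAlgebra.mapRingHom N (Ideal.Quotient.mk J) (f z)) =
          splitEquiv e₀ (S i ⧸ J) (MonoidAlgebra.mapRingHom M (Ideal.Quotient.mk J) z) by
        have h2 := congrArg (splitEquiv e (S i ⧸ J)).symm hsuff
        simp at h2 ⊢
        exact h2
      refine (splitEquiv_natural e (Ideal.Quotient.mkₐ R J) (fun _ => rfl) (f z)).symm.trans ?_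
      simp only [f, BialgHom.comp_apply, BialgEquiv.coe_toBialgHom, BialgEquiv.apply_symm_apply]
      induction z using MonoidAlgebra.induction_linear with
      | zero => simp
      | add p q hp hq => simp only [map_add, hp, hq]
      | single m r =>
        rw [charMap_single, mapT_smul, MonoidAlgebra.mapRingHom_single,
          show MonoidAlgebra.single m (Ideal.Quotient.mk J r) =
            Ideal.Quotient.mk J r • MonoidAlgebra.single m (1 : S i ⧸ J) by simp,
          map_smul, splitEquiv_single, ← hx₀, mapT_mapT]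
        congr 1
        change mapT R A _ (mapT R A (Algebra.ofId R (S i)) (x m)) = _
        rw [mapT_mapT]
        congr 2
    have : (charMap θ : MonoidAlgebra (S i) M → S i ⊗[R] A) = splitEquiv e (S i) ∘ f := by
      funext z
      simp only [f, Function.comp_apply, BialgHom.comp_apply, BialgEquiv.coe_toBialgHom, BialgEquiv.apply_symm_apply]
    rw [this]
    exact (splitEquiv e (S i)).bijective.comp hf
  have key : ∀ i (w : S i ⊗[R] MonoidAlgebra R M),
      cancelBialg R R (S i) A ((charMap χ).toLinearMap.lTensor (S i) w) =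
        charMap ((glMap R A (Algebra.ofId R (S i))).comp χ) ((scalarBialg R (S i) M).symm w) := by
    intro i w
    induction w using TensorProduct.induction_on with
    | zero => simp
    | add p q hp hq => simp only [map_add, hp, hq]
    | tmul s z =>
      induction z using MonoidAlgebra.induction_linear with
      | zero => simp
      | add p q hp hq => simp only [TensorProduct.tmul_add, map_add, hp, hq]
      | single m r =>
        have h1 : (scalarBialg R (S i) M).symm (s ⊗ₜ[R] MonoidAlgebra.single m r) =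
            MonoidAlgebra.single m (r • s) := by
          refine (scalarBialg R (S i) M).injective ?_
          change scalarBialg R (S i) M _ = scalarHom R (S i) M _
          rw [scalarHom_single, TensorProduct.smul_tmul, MonoidAlgebra.smul_single', mul_one]
          simp
        rw [h1, charMap_single, LinearMap.lTensor_tmul,
          show (charMap χ).toLinearMap (MonoidAlgebra.single m r) = r • (χ m).1 from
            charMap_single χ m r, TensorProduct.tmul_smul, TensorProduct.smul_tmul']
        generalize r • s = t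
        change _ = t • mapT R A (Algebra.ofId R (S i)) (χ m).1
        induction (χ m).1 using TensorProduct.induction_on with
        | zero => simp
        | tmul c a =>
          rw [cancelBialg_tmul, mapT, Algebra.TensorProduct.map_tmul, TensorProduct.smul_tmul',
            smul_eq_mul, Algebra.smul_def, mul_comm]
          rfl
        | add p q hp hq => simp only [TensorProduct.tmul_add, smul_add, map_add, hp, hq]
  have hS : ∀ i, Function.Bijective ((charMap χ).toLinearMap.lTensor (S i)) := by
    intro i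
    have : ((charMap χ).toLinearMap.lTensor (S i) : _ → _) =
        (cancelBialg R R (S i) A).symm ∘
          charMap ((glMap R A (Algebra.ofId R (S i))).comp χ) ∘ (scalarBialg R (S i) M).symm := by
      funext w
      simp [← key]
    rw [this]
    exact (cancelBialg R R (S i) A).symm.bijective.comp
      ((hcomp i).comp (scalarBialg R (S i) M).symm.bijective)
  have hpi : ∀ w i, TensorProduct.piLeft R (R ⊗[R] A) S
      ((charMap χ).toLinearMap.lTensor (∀ i, S i) w) i =
        (charMap χ).toLinearMap.lTensor (S i)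
          (TensorProduct.piLeft R (MonoidAlgebra R M) S w i) := by
    intro w i
    induction w using TensorProduct.induction_on with
    | zero => simp
    | tmul f b => simp [TensorProduct.piLeft]
    | add p q hp hq => simp only [map_add, Pi.add_apply, hp, hq]
  constructor
  · refine (Module.FaithfullyFlat.lTensor_injective_iff_injective R (∀ i, S i)
      (charMap χ).toLinearMap).1 fun a b hab => ?_
    refine (TensorProduct.piLeft R (MonoidAlgebra R M) S).injective (funext fun i => ?_)
    exact (hS i).injective (by rw [← hpi, ← hpi, hab])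
  · refine (Module.FaithfullyFlat.lTensor_surjective_iff_surjective R (∀ i, S i)
      (charMap χ).toLinearMap).1 fun b => ?_
    choose v hv using fun i => (hS i).surjective (TensorProduct.piLeft R (R ⊗[R] A) S b i)
    exact ⟨(TensorProduct.piLeft R (MonoidAlgebra R M) S).symm v,
      (TensorProduct.piLeft R (R ⊗[R] A) S).injective (funext fun i => by
        rw [hpi, LinearEquiv.apply_symm_apply, hv])⟩

end Groth.L25.Char
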