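import Groth.Agent.L25.Char.Split
import Mathlib.LinearAlgebra.DirectSum.Finsupp
import Mathlib.RingTheory.FinitePresentation
import Mathlib.RingTheory.Unramified.Basic
import Mathlib.Algebra.Module.Projective

/-!
# The scheme of characters with bounded support

For a Hopf algebra `A` which is a direct summand of a free module with index set `σ`, and a finite
`s ⊆ σ`, the group-like elements of `T ⊗ A` with coordinates supported in `s` are represented by an
algebra of finite presentation, formally unramified when `A` is of multiplicative type.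
-/

set_option autoImplicit false

universe u

open TensorProduct

namespace Groth.L25.Char

open scoped Classical

section coord

variable {R : Type u} [CommRing R] {N : Type u} [AddCommGroup N] [Module R N] {σ : Type u}

/-- The coordinates of an element of a base change. -/
noncomputable def coordT (ι : N →ₗ[R] (σ →₀ R)) (T : Type u) [CommRing T] [Algebra R T] :
    T ⊗[R] N →ₗ[T] (σ →₀ T) :=
  (TensorProduct.finsuppScalarRight R T T σ).toLinearMap ∘ₗ ι.baseChange T

theorem coordT_tmul (ι : N →ₗ[R] (σ →₀ R)) (T : Type u) [CommRing T] [Algebra R T] (t : T) (n : N)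
    (i : σ) : coordT ι T (t ⊗ₜ n) i = ι n i • t := by
  simp [coordT]

theorem coordT_injective {ι : N →ₗ[R] (σ →₀ R)} {π : (σ →₀ R) →ₗ[R] N} (h : π ∘ₗ ι = LinearMap.id)
    (T : Type u) [CommRing T] [Algebra R T] : Function.Injective (coordT ι T) := by
  rw [coordT, LinearMap.coe_comp]
  refine (TensorProduct.finsuppScalarRight R T T σ).injective.comp ?_
  refine Function.LeftInverse.injective (g := π.baseChange T) fun x => ?_
  rw [← LinearMap.comp_apply, ← LinearMap.baseChange_comp, h]
  simp

theorem eq_sum_coordT {ι : N →ₗ[R] (σ →₀ R)} {π : (σ →₀ R) →ₗ[R] N} (h : π ∘ₗ ι = LinearMap.id)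
    (T : Type u) [CommRing T] [Algebra R T] (x : T ⊗[R] N) :
    x = (coordT ι T x).sum fun i c => c ⊗ₜ[R] π (Finsupp.single i 1) := by
  have h1 : x = π.baseChange T (ι.baseChange T x) := by
    rw [← LinearMap.comp_apply, ← LinearMap.baseChange_comp, h]
    simp
  have key : ∀ z : σ →₀ T, π.baseChange T ((TensorProduct.finsuppScalarRight R T T σ).symm z) =
      z.sum fun i c => c ⊗ₜ[R] π (Finsupp.single i 1) := by
    intro z
    induction z using Finsupp.induction_linear with
    | zero => simp
    | add p q hp hq =>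
      rw [map_add, map_add, hp, hq, Finsupp.sum_add_index' (h := fun i c => c ⊗ₜ[R] π (Finsupp.single i 1))
          (fun _ => TensorProduct.zero_tmul _ _) (fun _ _ _ => TensorProduct.add_tmul _ _ _)]
    | single i c => simp
  rw [← key]
  simpa [coordT] using h1

theorem coordT_rTensor (ι : N →ₗ[R] (σ →₀ R)) {T T' : Type u} [CommRing T] [Algebra R T]
    [CommRing T'] [Algebra R T'] (f : T →ₐ[R] T') (x : T ⊗[R] N) :
    coordT ι T' (f.toLinearMap.rTensor N x) = (coordT ι T x).mapRange f (map_zero f) := by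
  induction x using TensorProduct.induction_on with
  | zero => simp
  | tmul t n =>
    ext i
    simp [coordT_tmul]
  | add p q hp hq =>
    ext i
    simp [hp, hq]

end coord

variable {R : Type u} [CommRing R] {A : Type u} [CommRing A] [HopfAlgebra R A]

theorem rTensor_eq_mapT {B : Type u} [CommRing B] [Algebra R B] {T T' : Type u} [CommRing T]
    [Algebra R T] [CommRing T'] [Algebra R T'] (f : T →ₐ[R] T') (x : T ⊗[R] B) :
    f.toLinearMap.rTensor B x = Algebra.TensorProduct.map f (AlgHom.id R B) x := by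
  induction x using TensorProduct.induction_on with
  | zero => simp
  | tmul t n => simp
  | add p q hp hq => simp only [map_add, hp, hq]

variable {σ σ₂ : Type u} (ι : A →ₗ[R] (σ →₀ R)) (π : (σ →₀ R) →ₗ[R] A)
  (ι₂ : A ⊗[R] A →ₗ[R] (σ₂ →₀ R)) (s : Finset σ)

/-- The generic element with coordinates in `s`. -/
noncomputable def gen : MvPolynomial s R ⊗[R] A :=
  ∑ j : s, (MvPolynomial.X j) ⊗ₜ[R] π (Finsupp.single (j : σ) 1)

/-- The generic coordinate vector. -/
noncomputable def genVec : σ →₀ MvPolynomial s R :=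
  ∑ j : s, Finsupp.single (j : σ) (MvPolynomial.X j)

/-- The equations on the coordinates. -/
noncomputable def genLin : σ →₀ MvPolynomial s R :=
  coordT ι (MvPolynomial s R) (gen π s) - genVec s

/-- The difference expressing that the generic element is group-like. -/
noncomputable def genDiff : MvPolynomial s R ⊗[R] (A ⊗[R] A) :=
  comulT R A (MvPolynomial s R) (gen π s) - sqT R A (MvPolynomial s R) (gen π s)

/-- The equations. -/
noncomputable def eqns : Set (MvPolynomial s R) :=
  Set.range (fun i : (genLin ι π s).support => genLin ι π s i) ∪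
    Set.range (fun i : (coordT ι₂ (MvPolynomial s R) (genDiff π s)).support =>
      coordT ι₂ (MvPolynomial s R) (genDiff π s) i) ∪
    {Coalgebra.counit (R := MvPolynomial s R) (gen π s) - 1}

theorem eqns_finite : (eqns ι π ι₂ s).Finite :=
  ((Set.finite_range _).union (Set.finite_range _)).union (Set.finite_singleton _)

/-- The coordinate ring of the scheme of characters with support in `s`. -/
def CharRing : Type u := MvPolynomial s R ⧸ Ideal.span (eqns ι π ι₂ s)

noncomputable instance : CommRing (CharRing ι π ι₂ s) :=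
  inferInstanceAs (CommRing (MvPolynomial s R ⧸ Ideal.span (eqns ι π ι₂ s)))

noncomputable instance : Algebra R (CharRing ι π ι₂ s) :=
  inferInstanceAs (Algebra R (MvPolynomial s R ⧸ Ideal.span (eqns ι π ι₂ s)))

/-- The quotient map. -/
noncomputable def toChar : MvPolynomial s R →ₐ[R] CharRing ι π ι₂ s :=
  Ideal.Quotient.mkₐ R (Ideal.span (eqns ι π ι₂ s))

/-- Maps out of the character ring. -/
noncomputable def liftChar {T : Type u} [CommRing T] [Algebra R T] (g : MvPolynomial s R →ₐ[R] T)
    (hg : ∀ p ∈ Ideal.span (eqns ι π ι₂ s), g p = 0) : CharRing ι π ι₂ s →ₐ[R] T :=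
  Ideal.Quotient.liftₐ (Ideal.span (eqns ι π ι₂ s)) g hg

theorem liftChar_comp {T : Type u} [CommRing T] [Algebra R T] (g : MvPolynomial s R →ₐ[R] T)
    (hg : ∀ p ∈ Ideal.span (eqns ι π ι₂ s), g p = 0) :
    (liftChar ι π ι₂ s g hg).comp (toChar ι π ι₂ s) = g :=
  Ideal.Quotient.liftₐ_comp _ _ _

theorem toChar_surjective : Function.Surjective (toChar ι π ι₂ s) :=
  Ideal.Quotient.mk_surjective

/-- The universal character. -/
noncomputable def univChar : CharRing ι π ι₂ s ⊗[R] A :=
  mapT R A (toChar ι π ι₂ s) (gen π s)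

instance finitePresentation_charRing : Algebra.FinitePresentation R (CharRing ι π ι₂ s) :=
  Algebra.FinitePresentation.quotient (A := MvPolynomial s R)
    ⟨(eqns_finite ι π ι₂ s).toFinset, by rw [Set.Finite.coe_toFinset]⟩

variable {ι π ι₂ s}

theorem toChar_eq_zero {p : MvPolynomial s R} (hp : p ∈ eqns ι π ι₂ s) :
    toChar ι π ι₂ s p = 0 :=
  Ideal.Quotient.eq_zero_iff_mem.2 (Ideal.subset_span hp)

theorem coordT_univChar : coordT ι (CharRing ι π ι₂ s) (univChar ι π ι₂ s) =
    (genVec s).mapRange (toChar ι π ι₂ s) (map_zero _) := by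
  rw [univChar, mapT, ← rTensor_eq_mapT, coordT_rTensor]
  ext i
  rw [Finsupp.mapRange_apply, Finsupp.mapRange_apply, ← sub_eq_zero, ← map_sub, ← Finsupp.sub_apply]
  change toChar ι π ι₂ s (genLin ι π s i) = 0
  by_cases hi : i ∈ (genLin ι π s).support
  · exact toChar_eq_zero (Or.inl (Or.inl ⟨⟨i, hi⟩, rfl⟩))
  · rw [Finsupp.notMem_support_iff.1 hi, map_zero]

theorem isGL_univChar {π₂ : (σ₂ →₀ R) →ₗ[R] A ⊗[R] A} (h₂ : π₂ ∘ₗ ι₂ = LinearMap.id) :
    IsGL R A (CharRing ι π ι₂ s) (univChar ι π ι₂ s) := by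
  refine ⟨?_, ?_⟩
  · rw [univChar, comulT_mapT, sqT_mapT, ← sub_eq_zero, ← map_sub, mapT, ← rTensor_eq_mapT]
    refine coordT_injective h₂ _ ?_
    rw [map_zero, coordT_rTensor]
    refine Finsupp.ext fun i => ?_
    rw [Finsupp.mapRange_apply, Finsupp.zero_apply]
    by_cases hi : i ∈ (coordT ι₂ (MvPolynomial s R) (genDiff π s)).support
    · exact toChar_eq_zero (Or.inl (Or.inr ⟨⟨i, hi⟩, rfl⟩))
    · have := Finsupp.notMem_support_iff.1 hi
      rw [genDiff] at this
      rw [this, map_zero]
  · rw [univChar, counit_mapT, ← sub_eq_zero, ← map_one (toChar ι π ι₂ s), ← map_sub]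
    exact toChar_eq_zero (Or.inr rfl)

/-- A point is determined by its character. -/
theorem hom_ext {T : Type u} [CommRing T] [Algebra R T] {g g' : CharRing ι π ι₂ s →ₐ[R] T}
    (h : mapT R A g (univChar ι π ι₂ s) = mapT R A g' (univChar ι π ι₂ s)) : g = g' := by
  classical
  refine Ideal.Quotient.algHom_ext R (MvPolynomial.algHom_ext fun j => ?_)
  have h1 := congrArg (fun z => coordT ι T z (j : σ)) h
  simp only [mapT, ← rTensor_eq_mapT, coordT_rTensor, coordT_univChar, Finsupp.mapRange_apply] at h1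
  have h2 : genVec (R := R) s (j : σ) = MvPolynomial.X j := by
    rw [genVec, Finsupp.finsetSum_apply, Finset.sum_eq_single j]
    · simp
    · intro b _ hb
      exact Finsupp.single_eq_of_ne (fun hh => hb (Subtype.ext hh).symm)
    · simp
  rw [h2] at h1
  exact h1

/-- Existence of points. -/
theorem exists_hom (h : π ∘ₗ ι = LinearMap.id) {T : Type u} [CommRing T] [Algebra R T]
    {x : T ⊗[R] A} (hx : IsGL R A T x) (hs : (coordT ι T x).support ⊆ s) :
    ∃ g : CharRing ι π ι₂ s →ₐ[R] T, mapT R A g (univChar ι π ι₂ s) = x := by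
  classical
  let g₀ : MvPolynomial s R →ₐ[R] T := MvPolynomial.aeval fun j : s => coordT ι T x (j : σ)
  have hgen : mapT R A g₀ (gen π s) = x := by
    conv_rhs => rw [eq_sum_coordT h T x]
    rw [gen, map_sum, Finsupp.sum_of_support_subset _ hs (fun (i : σ) (c : T) => c ⊗ₜ[R] π (Finsupp.single i 1))
      (fun i _ => TensorProduct.zero_tmul _ _),
      ← Finset.sum_coe_sort s fun i => coordT ι T x i ⊗ₜ[R] π (Finsupp.single i 1)]
    refine Finset.sum_congr rfl fun j _ => ?_
    simp [g₀]
  have hvec : (genVec (R := R) s).mapRange g₀ (map_zero _) = coordT ι T x := by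
    ext i
    rw [Finsupp.mapRange_apply, genVec, Finsupp.finsetSum_apply, map_sum]
    by_cases hi : i ∈ s
    · rw [Finset.sum_eq_single ⟨i, hi⟩]
      · simp [g₀]
      · intro b _ hb
        rw [Finsupp.single_eq_of_ne (fun hh => hb (Subtype.ext hh).symm), map_zero]
      · simp
    · rw [Finset.sum_eq_zero, eq_comm]
      · exact Finsupp.notMem_support_iff.1 fun hh => hi (hs hh)
      · intro b _
        rw [Finsupp.single_eq_of_ne (fun hh => hi (by rw [hh]; exact b.2)), map_zero]
  have hker : ∀ p ∈ Ideal.span (eqns ι π ι₂ s), g₀ p = 0 := by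
    suffices Ideal.span (eqns ι π ι₂ s) ≤ RingHom.ker g₀ from fun p hp => this hp
    refine Ideal.span_le.2 ?_
    rintro p ((⟨i, rfl⟩ | ⟨i, rfl⟩) | rfl) <;> simp only [SetLike.mem_coe, RingHom.mem_ker]
    · change g₀ ((coordT ι (MvPolynomial s R) (gen π s) - genVec s : σ →₀ MvPolynomial s R) i) = 0
      rw [Finsupp.sub_apply, map_sub, ← Finsupp.mapRange_apply (hf := map_zero g₀),
        ← coordT_rTensor, rTensor_eq_mapT, ← Finsupp.mapRange_apply (hf := map_zero g₀), hvec]
      change coordT ι T (mapT R A g₀ (gen π s)) _ - _ = 0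
      rw [hgen, sub_self]
    · rw [← Finsupp.mapRange_apply (hf := map_zero g₀), ← coordT_rTensor, rTensor_eq_mapT]
      change coordT ι₂ T (mapT R (A ⊗[R] A) g₀
        (comulT R A _ (gen π s) - sqT R A _ (gen π s))) _ = 0
      rw [map_sub]
      change coordT ι₂ T (mapT R (A ⊗[R] A) g₀ (comulT R A _ (gen π s)) -
        mapT R (A ⊗[R] A) g₀ (sqT R A _ (gen π s))) _ = 0
      rw [← comulT_mapT, ← sqT_mapT, hgen, hx.1, sub_self, map_zero, Finsupp.zero_apply]
    · rw [map_sub, map_one, ← counit_mapT, hgen, hx.2, sub_self]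
  refine ⟨liftChar ι π ι₂ s g₀ hker, ?_⟩
  rw [univChar, mapT_mapT, liftChar_comp, hgen]

/-- The scheme of characters is unramified. -/
theorem formallyUnramified {π₂ : (σ₂ →₀ R) →ₗ[R] A ⊗[R] A} (h₂ : π₂ ∘ₗ ι₂ = LinearMap.id)
    {R' : Type u} [CommRing R'] [Algebra R R'] {M : Type u} [CommGroup M]
    [Module.FaithfullyFlat R R'] [Module.Flat R A]
    (e : R' ⊗[R] A ≃ₐc[R'] MonoidAlgebra R' M) :
    Algebra.FormallyUnramified R (CharRing ι π ι₂ s) := by
  refine Algebra.FormallyUnramified.iff_comp_injective.2 fun T _ _ I hI g g' hgg => ?_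
  refine hom_ext (eq_of_congr_nilpotent e ⟨2, hI⟩ ((isGL_univChar h₂).map g)
    ((isGL_univChar h₂).map g') ?_)
  rw [mapT_mapT, mapT_mapT, hgg]

end Groth.L25.Char
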