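import Groth.Agent.L25.Char.NilLift
import Groth.Agent.L25.Char.Scheme
import Groth.Agent.L25.MultType.Glue
import Groth.Agent.L01.ProjDescent
import Mathlib.RingTheory.AdicCompletion.RingHom
import Mathlib.RingTheory.AdicCompletion.Algebra
import Mathlib.RingTheory.LocalRing.ResidueField.Ideal
import Mathlib.Algebra.Module.LocalizedModule.Basic

/-!
# Characters of groups of multiplicative type over adically complete rings
-/

set_option autoImplicit false

universe u

open TensorProduct

namespace Groth.L25.Char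

open Groth.L25.MultType

variable {R : Type u} [CommRing R] {A : Type u} [CommRing A] [HopfAlgebra R A]

/-- The coordinate ring of a group of multiplicative type is a projective module. -/
theorem projective_of_isMultType (hA : SGA3b.IsMultType R A) : Module.Projective R A := by
  classical
  obtain ⟨ι, _, S, _, _, hff, hd⟩ := exists_split_family hA
  haveI := hff
  choose M hM he using hd
  have e : ∀ i, S i ⊗[R] A ≃ₐc[S i] MonoidAlgebra (S i) (M i) := fun i => (he i).some
  let P := ∀ i, S i
  choose pre hpre using fun (i : ι) (x : S i ⊗[R] A) =>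
    LinearMap.rTensor_surjective A (g := (Pi.evalAlgHom R S i).toLinearMap)
      (Function.surjective_eval i) x
  let u₀ : ∀ i, P ⊗[R] A →ₗ[P] M i →₀ P := fun i =>
    { toFun := fun y => (e i (mapT R A (Pi.evalAlgHom R S i) y)).coeff.mapRange
        (fun r => (Pi.single i r : P)) (Pi.single_zero i)
      map_add' := fun x y => Finsupp.ext fun n => by
        simp [Pi.single_add]
      map_smul' := fun r x => Finsupp.ext fun n => funext fun j => by
        rw [mapT_smul, map_smul]
        simp only [Finsupp.mapRange_apply, Finsupp.smul_apply, smul_eq_mul,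
          MonoidAlgebra.coeff_smul, RingHom.id_apply]
        rw [Pi.mul_apply]
        rcases eq_or_ne j i with rfl | hj
        · simp
        · simp [Pi.single_eq_of_ne hj] }
  let u : P ⊗[R] A →ₗ[P] (Σ i, M i) →₀ P :=
    ∑ i, (Finsupp.lmapDomain P P (Sigma.mk i)) ∘ₗ u₀ i
  let v : ((Σ i, M i) →₀ P) →ₗ[P] P ⊗[R] A :=
    Finsupp.linearCombination P fun j : Σ i, M i =>
      (Pi.single j.1 1 : P) • pre j.1 ((e j.1).symm (MonoidAlgebra.single j.2 1))
  suffices hvu : v ∘ₗ u = LinearMap.id by
    haveI : Module.Projective P (P ⊗[R] A) := Module.Projective.of_split u v hvu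
    exact Groth.L01.ProjDescent.projective (S := P) (M := A)
  refine LinearMap.ext fun y => pi_ext fun j => ?_
  change mapT R A (Pi.evalAlgHom R S j) (v (u y)) = mapT R A (Pi.evalAlgHom R S j) y
  have hv : ∀ i (z : M i →₀ P), mapT R A (Pi.evalAlgHom R S j) (v (z.mapDomain (Sigma.mk i))) =
      z.sum fun n r => (r j * (Pi.single i (1 : S i) : P) j) •
        mapT R A (Pi.evalAlgHom R S j) (pre i ((e i).symm (MonoidAlgebra.single n 1))) := by
    intro i z
    simp only [v, Finsupp.linearCombination_mapDomain, Finsupp.linearCombination_apply,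
      map_finsuppSum, mapT_smul, Function.comp_apply, smul_smul]
    rw [Finsupp.sum_mapDomain_index (fun b => by rw [zero_mul, map_zero, zero_smul])
      (fun b r r' => by rw [add_mul, map_add, add_smul])]
    rfl
  simp only [u, LinearMap.sum_apply, map_sum, LinearMap.comp_apply, Finsupp.lmapDomain_apply, hv]
  rw [Finset.sum_eq_single j]
  · refine (e j).injective ?_
    set w := e j (mapT R A (Pi.evalAlgHom R S j) y) with hw
    change e j (((e j (mapT R A (Pi.evalAlgHom R S j) y)).coeff.mapRange
      (fun r => (Pi.single j r : ∀ i, S i)) (Pi.single_zero j)).sum _) = w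
    rw [Finsupp.sum_mapRange_index (fun n => by simp)]
    conv_rhs => rw [← MonoidAlgebra.sum_coeff_single w]
    rw [map_finsuppSum]
    refine Finsupp.sum_congr fun n _ => ?_
    rw [Pi.single_eq_same, Pi.single_eq_same, _root_.mul_one,
      show mapT R A (Pi.evalAlgHom R S j) (pre j ((e j).symm (MonoidAlgebra.single n 1))) =
        (e j).symm (MonoidAlgebra.single n 1) from (rTensor_eq_mapT _ _).symm.trans (hpre j _),
      map_smul]
    refine (congrArg _ ((e j).apply_symm_apply _)).trans ?_
    simp
  · intro i _ hij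
    refine Finset.sum_eq_zero fun n _ => ?_
    dsimp only
    rw [Pi.single_eq_of_ne (Ne.symm hij), mul_zero, zero_smul]
  · simp

/-- Group-like elements over an adically separated ring which agree modulo `I` are equal. -/
theorem eq_of_congr_adic (hA : SGA3b.IsMultType R A) {I : Ideal R} [IsHausdorff I R]
    {x y : R ⊗[R] A} (hx : IsGL R A R x) (hy : IsGL R A R y)
    (h : mapT R A (Ideal.Quotient.mkₐ R I) x = mapT R A (Ideal.Quotient.mkₐ R I) y) : x = y := by
  haveI := projective_of_isMultType hA
  obtain ⟨ι₀, hι⟩ := Module.projective_def'.1 (inferInstance : Module.Projective R A)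
  refine coordT_injective hι R (Finsupp.ext fun i => ?_)
  refine sub_eq_zero.1 (IsHausdorff.haus ‹_› _ fun n => ?_)
  rw [smul_eq_mul, Ideal.mul_top, SModEq.zero]
  rcases n with _ | n
  · simp
  have hle : I ^ (n + 1) ≤ I := Ideal.pow_le_self n.succ_ne_zero
  let q : R →ₐ[R] R ⧸ I ^ (n + 1) := Ideal.Quotient.mkₐ R _
  have hnil : ∀ z ∈ I.map q, IsNilpotent z := fun z hz => ⟨n + 1, by
    have h2 := Ideal.pow_mem_pow hz (n + 1)
    rw [← Ideal.map_pow] at h2
    have h3 : (I ^ (n + 1)).map (q : R →ₐ[R] R ⧸ I ^ (n + 1)) = ⊥ :=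
      Ideal.map_quotient_self (I ^ (n + 1))
    rwa [h3, Ideal.mem_bot] at h2⟩
  have heq : mapT R A q x = mapT R A q y := by
    refine eq_of_congr_nil hA hnil (hx.map q) (hy.map q) ?_
    let g : R ⧸ I →ₐ[R] (R ⧸ I ^ (n + 1)) ⧸ I.map q := Ideal.Quotient.liftₐ I
      ((Ideal.Quotient.mkₐ R (I.map q)).comp q)
      (fun r hr => Ideal.Quotient.eq_zero_iff_mem.2 (Ideal.mem_map_of_mem q hr))
    have hg : g.comp (Ideal.Quotient.mkₐ R I) = (Ideal.Quotient.mkₐ R (I.map q)).comp q :=
      Ideal.Quotient.liftₐ_comp _ _ _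
    rw [mapT_mapT, mapT_mapT, ← hg, ← mapT_mapT, ← mapT_mapT, h]
  have h2 := congrArg (fun z => coordT ι₀ (R ⧸ I ^ (n + 1)) z i) heq
  simp only [mapT, ← rTensor_eq_mapT, coordT_rTensor, Finsupp.mapRange_apply] at h2
  exact Ideal.Quotient.eq.1 h2

/-- Characters lift uniquely from `R ⧸ I` when `R` is `I`-adically complete. -/
theorem exists_lift_adic (hA : SGA3b.IsMultType R A) {I : Ideal R} [IsAdicComplete I R]
    {x₁ : (R ⧸ I) ⊗[R] A} (hx₁ : IsGL R A (R ⧸ I) x₁) :
    ∃ x : R ⊗[R] A, IsGL R A R x ∧ mapT R A (Ideal.Quotient.mkₐ R I) x = x₁ := by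
  classical
  haveI := projective_of_isMultType hA
  haveI := flat hA
  obtain ⟨ι₀, hι⟩ := Module.projective_def'.1 (inferInstance : Module.Projective R A)
  haveI : Module.Projective R (A ⊗[R] A) := inferInstance
  obtain ⟨ι₂, hι₂⟩ := Module.projective_def'.1 (inferInstance : Module.Projective R (A ⊗[R] A))
  obtain ⟨κ, _, S, _, _, hff, hd⟩ := exists_split_family hA
  haveI := hff
  choose M hM he using hd
  have e : ∀ i, S i ⊗[R] A ≃ₐc[S i] MonoidAlgebra (S i) (M i) := fun i => (he i).some
  -- the lifts at every finite level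
  have hle : ∀ n, I ^ (n + 1) ≤ I := fun n => Ideal.pow_le_self n.succ_ne_zero
  let π₁ : ∀ n, R ⧸ I ^ (n + 1) →ₐ[R] R ⧸ I := fun n => Ideal.Quotient.factorₐ R (hle n)
  have hnil : ∀ n, ∀ z ∈ RingHom.ker (π₁ n), IsNilpotent z := fun n z hz => by
    obtain ⟨r, rfl⟩ := Ideal.Quotient.mk_surjective z
    have hr : r ∈ I := Ideal.Quotient.eq_zero_iff_mem.1 hz
    exact ⟨n + 1, by rw [← map_pow]; exact Ideal.Quotient.eq_zero_iff_mem.2 (Ideal.pow_mem_pow hr _)⟩
  have hsurj : ∀ n, Function.Surjective (π₁ n) := fun n y => by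
    obtain ⟨r, rfl⟩ := Ideal.Quotient.mk_surjective y
    exact ⟨Ideal.Quotient.mk _ r, rfl⟩
  have hlvl : ∀ n, ∃ y, IsGL R A (R ⧸ I ^ (n + 1)) y ∧ mapT R A (π₁ n) y = x₁ := by
    intro n
    let T := R ⧸ I ^ (n + 1)
    let K : Ideal T := RingHom.ker (π₁ n)
    let ψ : (T ⧸ K) ≃ₐ[R] R ⧸ I := Ideal.quotientKerAlgEquivOfSurjective (hsurj n)
    let z₀ := mapT R A (ψ.symm : (R ⧸ I) →ₐ[R] T ⧸ K) x₁
    have hz₀ : IsGL R A (T ⧸ K) z₀ := hx₁.map _
    let e' : (T ⧸ K) ⊗[T] (T ⊗[R] A) ≃ₐc[T ⧸ K] (T ⧸ K) ⊗[R] A := cancelBialg R T (T ⧸ K) A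
    obtain ⟨w, hw, hw₀⟩ := exists_lift (R := T) (A := T ⊗[R] A) (isMultType_baseChange hA)
      (hnil n) (x₀ := e'.symm z₀)
      ((isGL_iff T (T ⊗[R] A) (T ⧸ K) _).2 (((isGL_iff R A _ _).1 hz₀).map e'.symm))
    refine ⟨cancelBialg R T T A w, (isGL_iff R A T _).2
      (((isGL_iff T (T ⊗[R] A) T _).1 hw).map (cancelBialg R T T A)), ?_⟩
    have hcomm : ∀ w, mapT R A (Ideal.Quotient.mkₐ R K) (cancelBialg R T T A w) =
        e' (mapT T (T ⊗[R] A) (Ideal.Quotient.mkₐ T K) w) := by
      intro w
      induction w using TensorProduct.induction_on with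
      | zero => simp
      | add p q hp hq => simp only [map_add, hp, hq]
      | tmul s p =>
        induction p using TensorProduct.induction_on with
        | zero => simp
        | add a b ha hb => simp only [TensorProduct.tmul_add, map_add, ha, hb]
        | tmul t a =>
          rw [cancelBialg_tmul]
          simp only [mapT, Algebra.TensorProduct.map_tmul, AlgHom.id_apply, e']
          rw [cancelBialg_tmul]
          congr 1
    have hψ : π₁ n = (ψ : (T ⧸ K) →ₐ[R] R ⧸ I).comp (Ideal.Quotient.mkₐ R K) :=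
      AlgHom.ext fun t => rfl
    rw [hψ, ← mapT_mapT, hcomm, hw₀]
    rw [show e' (e'.symm z₀) = z₀ from e'.apply_symm_apply z₀]
    simp only [z₀, mapT_mapT]
    rw [show ((ψ : (T ⧸ K) →ₐ[R] R ⧸ I).comp (ψ.symm : (R ⧸ I) →ₐ[R] T ⧸ K)) = AlgHom.id R _ from
      AlgHom.ext fun t => ψ.apply_symm_apply t]
    simp [mapT]
  choose y hy hy₁ using hlvl
  -- a bound for the coordinates
  let J : ∀ i, Ideal (S i) := fun i => I.map (algebraMap R (S i))
  let ρ : ∀ i, R ⧸ I →ₐ[R] S i ⧸ J i := fun i => Ideal.Quotient.liftₐ I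
    ((Ideal.Quotient.mkₐ R (J i)).comp (Algebra.ofId R (S i)))
    (fun r hr => Ideal.Quotient.eq_zero_iff_mem.2 (Ideal.mem_map_of_mem _ hr))
  let F : ∀ i, Finset (M i) := fun i =>
    ((splitEquiv (e i) (S i ⧸ J i)).symm (mapT R A (ρ i) x₁)).coeff.support
  let s : Finset A := Finset.univ.biUnion fun i =>
    (F i).biUnion fun m => (coordT ι₀ (S i) (splitElem (e i) m)).support
  have hbound : ∀ n, (coordT ι₀ (R ⧸ I ^ (n + 1)) (y n)).support ⊆ s := by
    intro n a ha
    by_contra has
    refine Finsupp.mem_support_iff.1 ha ?_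
    obtain ⟨r, hr⟩ := Ideal.Quotient.mk_surjective (coordT ι₀ (R ⧸ I ^ (n + 1)) (y n) a)
    rw [← hr]
    refine Ideal.Quotient.eq_zero_iff_mem.2 ?_
    rw [← (I ^ (n + 1)).comap_map_eq_self_of_faithfullyFlat (B := ∀ i, S i), Ideal.mem_comap]
    have hcomp : ∀ i, algebraMap R (S i) r ∈ (I ^ (n + 1)).map (algebraMap R (S i)) := by
      intro i
      let Jn : Ideal (S i) := (I ^ (n + 1)).map (algebraMap R (S i))
      let T := S i ⧸ Jn
      let q : R ⧸ I ^ (n + 1) →ₐ[R] T := Ideal.Quotient.liftₐ _
        ((Ideal.Quotient.mkₐ R Jn).comp (Algebra.ofId R (S i)))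
        (fun r hr => Ideal.Quotient.eq_zero_iff_mem.2 (Ideal.mem_map_of_mem _ hr))
      have hJn : Jn ≤ J i := Ideal.map_mono (hle n)
      let p : T →ₐ[R] S i ⧸ J i := Ideal.Quotient.factorₐ R hJn
      have hpn : ∀ z ∈ RingHom.ker p, IsNilpotent z := fun z hz => by
        obtain ⟨t, rfl⟩ := Ideal.Quotient.mk_surjective z
        have ht : t ∈ J i := Ideal.Quotient.eq_zero_iff_mem.1 hz
        refine ⟨n + 1, ?_⟩
        rw [← map_pow]
        refine Ideal.Quotient.eq_zero_iff_mem.2 ?_
        change t ^ (n + 1) ∈ (I ^ (n + 1)).map (algebraMap R (S i))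
        rw [Ideal.map_pow]
        exact Ideal.pow_mem_pow ht _
      let c := (splitEquiv (e i) T).symm (mapT R A q (y n))
      have hc : IsGroupLikeElem T c := ((isGL_iff R A T _).1 ((hy n).map q)).map _
      have hc0 : ∀ m, m ∉ F i → c.coeff m = 0 := by
        intro m hm
        have h1 := splitEquiv_natural (e i) p (fun _ => rfl) c
        rw [show splitEquiv (e i) T c = mapT R A q (y n) from
          (splitEquiv (e i) T).apply_symm_apply _, mapT_mapT,
          show p.comp q = (ρ i).comp (π₁ n) from Ideal.Quotient.algHom_ext R (AlgHom.ext fun r => rfl),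
          ← mapT_mapT, hy₁] at h1
        have h2 := congrArg (fun z => ((splitEquiv (e i) (S i ⧸ J i)).symm z).coeff m) h1
        simp only [BialgEquiv.symm_apply_apply, MonoidAlgebra.coeff_mapRingHom,
          Finsupp.mapRange_apply] at h2
        rw [Finsupp.notMem_support_iff.1 hm] at h2
        obtain ⟨k, hk⟩ := hpn (c.coeff m) h2.symm
        rcases k with _ | k
        · rw [pow_zero] at hk
          exact (subsingleton_of_zero_eq_one hk.symm).elim _ _
        · rwa [(isIdempotentElem_coeff hc m).pow_succ_eq] at hk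
      have h3 : coordT ι₀ T (mapT R A q (y n)) a = 0 := by
        rw [show mapT R A q (y n) = splitEquiv (e i) T c from
          ((splitEquiv (e i) T).apply_symm_apply _).symm, ← MonoidAlgebra.sum_coeff_single c]
        simp only [map_finsuppSum, Finsupp.sum, Finsupp.finset_sum_apply, map_sum]
        refine Finset.sum_eq_zero fun m hm => ?_
        by_cases hmF : m ∈ F i
        · rw [show MonoidAlgebra.single m (c.coeff m) = c.coeff m • MonoidAlgebra.single m (1 : T)
            by simp, map_smul, map_smul, Finsupp.smul_apply, splitEquiv_single, mapT,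
            ← rTensor_eq_mapT, coordT_rTensor, Finsupp.mapRange_apply]
          have : coordT ι₀ (S i) (splitElem (e i) m) a = 0 :=
            Finsupp.notMem_support_iff.1 fun h => has (Finset.mem_biUnion.2
              ⟨i, Finset.mem_univ i, Finset.mem_biUnion.2 ⟨m, hmF, h⟩⟩)
          rw [this, map_zero, smul_zero]
        · rw [hc0 m hmF, MonoidAlgebra.single_zero, map_zero, map_zero, Finsupp.zero_apply]
      rw [mapT, ← rTensor_eq_mapT, coordT_rTensor, Finsupp.mapRange_apply, ← hr] at h3
      exact Ideal.Quotient.eq_zero_iff_mem.1 h3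
    rw [show algebraMap R (∀ i, S i) r = ∑ i, (Pi.single i (algebraMap R (S i) r) : ∀ i, S i) from
      (Finset.univ_sum_single (algebraMap R (∀ i, S i) r)).symm]
    refine sum_mem fun i _ => ?_
    obtain ⟨z, hz, hzi⟩ : ∃ z ∈ (I ^ (n + 1)).map (algebraMap R (∀ i, S i)),
        Pi.evalRingHom S i z = algebraMap R (S i) r := by
      have h4 := hcomp i
      rw [show algebraMap R (S i) = (Pi.evalRingHom S i).comp (algebraMap R (∀ i, S i)) from rfl,
        ← Ideal.map_map] at h4
      exact (Ideal.mem_map_iff_of_surjective _ (Function.surjective_eval i)).1 h4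
    rw [← hzi, show (Pi.single i (Pi.evalRingHom S i z) : ∀ i, S i) = Pi.single i 1 * z by
      funext j
      rcases eq_or_ne j i with rfl | hj
      · simp
      · simp [Pi.single_eq_of_ne hj]]
    exact Ideal.mul_mem_left _ _ hz
  -- the points of the scheme of characters
  choose g hg using fun n => exists_hom (ι₂ := ι₂) hι (hy n) (hbound n)
  have hgl := isGL_univChar (ι := ι₀) (π := Finsupp.linearCombination R id) (ι₂ := ι₂) (s := s) hι₂
  let f : ∀ n, CharRing ι₀ (Finsupp.linearCombination R id) ι₂ s →ₐ[R] R ⧸ I ^ n := fun n =>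
    (Ideal.Quotient.factorₐ R (Ideal.pow_le_pow_right n.le_succ)).comp (g n)
  have hfac : ∀ {m n : ℕ} (h : m + 1 ≤ n + 1),
      (Ideal.Quotient.factorₐ R (Ideal.pow_le_pow_right h)).comp (g n) = g m := by
    intro m n h
    refine hom_ext ?_
    rw [← mapT_mapT, hg, hg]
    refine eq_of_congr_nil hA (hnil m) ((hy n).map _) (hy m) ?_
    have h5 : ∀ {w w' : (R ⧸ I ^ (m + 1)) ⊗[R] A}, mapT R A (π₁ m) w = mapT R A (π₁ m) w' →
        mapT R A (Ideal.Quotient.mkₐ R (RingHom.ker (π₁ m))) w =
          mapT R A (Ideal.Quotient.mkₐ R (RingHom.ker (π₁ m))) w' := by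
      intro w w' hww
      let ψ := Ideal.quotientKerAlgEquivOfSurjective (hsurj m)
      rw [show Ideal.Quotient.mkₐ R (RingHom.ker (π₁ m)) =
        (ψ.symm : (R ⧸ I) →ₐ[R] _).comp (π₁ m) from
          AlgHom.ext fun t => (ψ.symm_apply_apply _).symm, ← mapT_mapT, hww, mapT_mapT]
    refine h5 ?_
    rw [mapT_mapT, show (π₁ m).comp (Ideal.Quotient.factorₐ R (Ideal.pow_le_pow_right h)) = π₁ n
      from Ideal.Quotient.algHom_ext R (AlgHom.ext fun r => rfl), hy₁, hy₁]
  have hf : ∀ {m n : ℕ} (h : m ≤ n),
      (Ideal.Quotient.factorₐ R (Ideal.pow_le_pow_right h)).comp (f n) = f m := by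
    intro m n h
    change _ = (Ideal.Quotient.factorₐ R (Ideal.pow_le_pow_right m.le_succ)).comp (g m)
    rw [← hfac (Nat.succ_le_succ h)]
    exact AlgHom.ext fun t => by simp [f]
  let G : CharRing ι₀ (Finsupp.linearCombination R id) ι₂ s →ₐ[R] R :=
    IsAdicComplete.liftAlgHom I f hf
  have hG : ∀ t, Ideal.Quotient.mk (I ^ 1) (G t) = f 1 t := fun t =>
    IsAdicComplete.mk_liftAlgHom I f hf 1 t
  refine ⟨mapT R A G (univChar ι₀ (Finsupp.linearCombination R id) ι₂ s), hgl.map G, ?_⟩
  rw [mapT_mapT, ← hy₁ 0, ← hg 0, mapT_mapT]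
  refine congrArg (fun φ => mapT R A φ _) (AlgHom.ext fun t => ?_)
  have h6 : f 1 = g 0 := by
    rw [← hfac (m := 0) (n := 1) (Nat.le_succ 1)]
  have h7 := congrArg (π₁ 0) ((hG t).trans (DFunLike.congr_fun h6 t))
  simp only [AlgHom.comp_apply]
  rw [← h7]
  rfl

/-- A linear map is bijective if it is so after base change to local rings faithfully flat over all
the localisations at maximal ideals. -/
theorem bijective_of_local_ff {N P : Type u} [AddCommGroup N] [Module R N] [AddCommGroup P]
    [Module R P] (L : N →ₗ[R] P)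
    (h : ∀ (m : Ideal R) [m.IsMaximal], ∃ (R' : Type u) (_ : CommRing R') (_ : Algebra R R')
      (_ : Algebra (Localization.AtPrime m) R') (_ : IsScalarTower R (Localization.AtPrime m) R'),
        Module.FaithfullyFlat (Localization.AtPrime m) R' ∧ Function.Bijective (L.lTensor R')) :
    Function.Bijective L := by
  have key : ∀ {Q : Type u} [AddCommGroup Q] [Module R Q] (x : Q),
      (∀ (m : Ideal R) [m.IsMaximal], ∃ (R' : Type u) (_ : CommRing R') (_ : Algebra R R')
        (_ : Algebra (Localization.AtPrime m) R') (_ : IsScalarTower R (Localization.AtPrime m) R'),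
          Module.FaithfullyFlat (Localization.AtPrime m) R' ∧ (1 : R') ⊗ₜ[R] x = 0) → x = 0 := by
    intro Q _ _ x hx
    let ann : Ideal R := (Submodule.span R {x}).annihilator
    suffices ann = ⊤ by
      have h1 : (1 : R) ∈ ann := by rw [this]; trivial
      rw [Submodule.mem_annihilator_span_singleton, one_smul] at h1
      exact h1
    by_contra hne
    obtain ⟨m, hm, hle⟩ := Ideal.exists_le_maximal _ hne
    obtain ⟨R', _, _, _, _, hff, h0⟩ := hx m
    haveI := hff
    have h1 : (1 : Localization.AtPrime m) ⊗ₜ[R] x = 0 := by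
      refine Module.FaithfullyFlat.tensorProduct_mk_injective (A := Localization.AtPrime m)
        (B := R') _ ?_
      rw [map_zero]
      refine (AlgebraTensorModule.cancelBaseChange R (Localization.AtPrime m) R' R' Q).injective ?_
      rw [map_zero]
      simpa using h0
    have h2 := congrArg (LocalizedModule.equivTensorProduct m.primeCompl Q).symm h1
    rw [LocalizedModule.equivTensorProduct_symm_apply_tmul_one, map_zero,
      ← LocalizedModule.zero_mk (1 : m.primeCompl), LocalizedModule.mk_eq] at h2
    obtain ⟨⟨c, hc'⟩, hc⟩ := h2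
    exact hc' (hle (Submodule.mem_annihilator_span_singleton _ _ |>.2
      (by simpa [Submonoid.smul_def] using hc)))
  refine ⟨fun x x' hxx => sub_eq_zero.1 (key _ fun m _ => ?_), fun p => ?_⟩
  · obtain ⟨R', i1, i2, i3, i4, hff, hb⟩ := h m
    refine ⟨R', i1, i2, i3, i4, hff, hb.1 ?_⟩
    rw [LinearMap.lTensor_tmul, map_sub, hxx, sub_self, TensorProduct.tmul_zero, map_zero]
  · have h0 : (LinearMap.range L).mkQ p = 0 := key _ fun m _ => by
      obtain ⟨R', i1, i2, i3, i4, hff, hb⟩ := h m
      refine ⟨R', i1, i2, i3, i4, hff, ?_⟩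
      obtain ⟨z, hz⟩ := hb.2 ((1 : R') ⊗ₜ p)
      rw [show (1 : R') ⊗ₜ[R] (LinearMap.range L).mkQ p =
        (LinearMap.range L).mkQ.lTensor R' ((1 : R') ⊗ₜ p) from rfl, ← hz,
        ← LinearMap.lTensor_comp_apply, LinearMap.range_mkQ_comp, LinearMap.lTensor_zero,
        LinearMap.zero_apply]
    exact (Submodule.Quotient.mk_eq_zero _).1 h0

/-- A bialgebra isomorphism of group algebras over a field sending characters to characters gives a
bijection of characters. -/
theorem bijective_of_single {K : Type u} [Field K] {M N : Type u} [CommGroup M] [CommGroup N]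
    (E : MonoidAlgebra K M ≃ₐc[K] MonoidAlgebra K N) (φ : M → N)
    (h : ∀ m, E (MonoidAlgebra.single m 1) = MonoidAlgebra.single (φ m) 1) :
    Function.Bijective φ := by
  classical
  refine ⟨fun a b hab => MonoidAlgebra.single_left_injective (R := K) one_ne_zero
    (E.injective ?_), fun n => ?_⟩
  · have ha := h a
    rw [hab, ← h b] at ha
    exact ha
  · by_contra hn
    push Not at hn
    have key : ∀ x, (E x).coeff n = 0 := by
      intro x
      induction x using MonoidAlgebra.induction_linear with
      | zero => simp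
      | add p q hp hq => rw [map_add, MonoidAlgebra.coeff_add, Finsupp.add_apply, hp, hq, add_zero]
      | single m r =>
        rw [show MonoidAlgebra.single m r = r • MonoidAlgebra.single m (1 : K) by simp, map_smul, h,
          MonoidAlgebra.coeff_smul, Finsupp.smul_apply, MonoidAlgebra.coeff_single,
          Finsupp.single_eq_of_ne (Ne.symm (hn m)), smul_zero]
    have := key (E.symm (MonoidAlgebra.single n 1))
    rw [show E (E.symm (MonoidAlgebra.single n 1)) = MonoidAlgebra.single n 1 from
      E.apply_symm_apply _, MonoidAlgebra.coeff_single, Finsupp.single_eq_same] at this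
    exact one_ne_zero this

/-- A group of multiplicative type over an adically complete ring which is diagonalisable modulo
`I` is diagonalisable. -/
theorem isDiag_of_adic (hA : SGA3b.IsMultType R A) {I : Ideal R} [IsAdicComplete I R]
    (h : SGA3b.IsDiag (R ⧸ I) ((R ⧸ I) ⊗[R] A)) : SGA3b.IsDiag R A := by
  classical
  obtain ⟨M, _, ⟨e₀⟩⟩ := h
  choose x hx hx₀ using fun m : M => exists_lift_adic hA (isGL_splitElem e₀ m)
  let χ : M →* GroupLike R (R ⊗[R] A) :=
    { toFun := fun m => ⟨x m, (isGL_iff R A R _).1 (hx m)⟩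
      map_one' := GroupLike.ext (eq_of_congr_adic hA (I := I) (hx 1)
        ((isGL_iff R A R _).2 IsGroupLikeElem.one)
        (by
          change _ = mapT R A (Ideal.Quotient.mkₐ R I) 1
          rw [hx₀, map_one]
          exact (splitChar e₀).map_one))
      map_mul' := fun a b => GroupLike.ext (eq_of_congr_adic hA (I := I) (hx _)
        ((isGL_iff R A R _).2 (((isGL_iff R A R _).1 (hx a)).mul ((isGL_iff R A R _).1 (hx b))))
        (by
          change _ = mapT R A (Ideal.Quotient.mkₐ R I) (x a * x b)
          rw [hx₀, map_mul, hx₀, hx₀]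
          exact (splitChar e₀).map_mul a b)) }
  suffices hbij : Function.Bijective (charMap χ) from
    ⟨M, inferInstance, ⟨((BialgEquiv.ofBijective (charMap χ) hbij).trans
      (Bialgebra.TensorProduct.lid R A)).symm⟩⟩
  suffices hb : Function.Bijective (charMap χ : MonoidAlgebra R M →ₐc[R] _).toLinearMap from hb
  refine bijective_of_local_ff _ fun m hm => ?_
  obtain ⟨R', _, _, hloc, hlh, hff, hd⟩ := exists_local_split
    (R := Localization.AtPrime m) (isMultType_baseChange (T := Localization.AtPrime m) hA)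
  letI : Algebra R R' := ((algebraMap (Localization.AtPrime m) R').comp
    (algebraMap R (Localization.AtPrime m))).toAlgebra
  haveI : IsScalarTower R (Localization.AtPrime m) R' := IsScalarTower.of_algebraMap_eq fun _ => rfl
  refine ⟨R', inferInstance, inferInstance, inferInstance, inferInstance, hff, ?_⟩
  haveI := hloc
  haveI := hlh
  obtain ⟨N, _, ⟨e⟩⟩ := isDiag_of_bialgEquiv (cancelBialg R (Localization.AtPrime m) R' A) hd
  let p : R →ₐ[R] R' := Algebra.ofId R R'
  have hR' : ∀ r : R', IsIdempotentElem r → r = 0 ∨ r = 1 := fun r hr => by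
    by_cases hu : IsUnit r
    · exact Or.inr ((IsIdempotentElem.iff_eq_one_of_isUnit hu).1 hr)
    · have h1 : IsUnit (1 - r) :=
        (IsLocalRing.isUnit_or_isUnit_of_add_one (add_sub_cancel r 1)).resolve_left hu
      refine Or.inl ?_
      simpa using (IsIdempotentElem.iff_eq_one_of_isUnit h1).1 hr.one_sub
  choose φ hφ using fun a : M => eq_single hR'
    (((isGL_iff R A R' _).1 ((hx a).map p)).map e)
  let K := IsLocalRing.ResidueField R'
  have hIK : ∀ r ∈ I, algebraMap R K r = 0 := by
    intro r hr
    have hrm : r ∈ m := ((IsAdicComplete.le_jacobson_bot I).trans (sInf_le ⟨bot_le, hm⟩)) hr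
    rw [IsScalarTower.algebraMap_apply R R' K, IsLocalRing.ResidueField.algebraMap_eq,
      IsLocalRing.residue_eq_zero_iff,
      IsScalarTower.algebraMap_apply R (Localization.AtPrime m) R']
    exact map_nonunit _ _ ((IsLocalization.AtPrime.to_map_mem_maximal_iff
      (Localization.AtPrime m) m r).2 hrm)
  let k : R ⧸ I →ₐ[R] K := Ideal.Quotient.liftₐ I (Algebra.ofId R K) hIK
  letI : Algebra (R ⧸ I) K := k.toRingHom.toAlgebra
  haveI : IsScalarTower R (R ⧸ I) K := IsScalarTower.of_algebraMap_eq fun r => rfl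
  have hφK : ∀ a, splitEquiv e K (MonoidAlgebra.single (φ a) 1) =
      splitEquiv e₀ K (MonoidAlgebra.single a 1) := by
    intro a
    rw [splitEquiv_single, splitEquiv_single, ← hx₀, mapT_mapT]
    have h1 : splitElem e (φ a) = mapT R A p (x a) := by
      rw [splitElem, ← hφ a]
      exact e.symm_apply_apply _
    rw [h1, mapT_mapT]
    exact congrArg (fun g => mapT R A g (x a)) (Subsingleton.elim _ _)
  have hφb : Function.Bijective φ := bijective_of_single
    ((splitEquiv e₀ K).trans (splitEquiv e K).symm) φ fun a => by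
      change (splitEquiv e K).symm (splitEquiv e₀ K (MonoidAlgebra.single a 1)) = _
      rw [← hφK]
      exact (splitEquiv e K).symm_apply_apply _
  -- the base change of the character map
  let L := (charMap χ : MonoidAlgebra R M →ₐc[R] _).toLinearMap.baseChange R'
  suffices Function.Bijective L from this
  let c := cancelBialg R R R' A
  let E₁ : R' ⊗[R] (R ⊗[R] A) → MonoidAlgebra R' N := fun z => e (c z)
  have hE₁ : Function.Bijective E₁ := e.bijective.comp c.bijective
  let E₂ : MonoidAlgebra R' M → R' ⊗[R] MonoidAlgebra R M := scalarBialg R R' M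
  have hE₂ : Function.Bijective E₂ := (scalarBialg R R' M).bijective
  have hsq : ∀ z, E₁ (L (E₂ z)) = MonoidAlgebra.mapDomain φ z := by
    intro z
    induction z using MonoidAlgebra.induction_linear with
    | zero => simp [E₁, E₂]
    | add a b ha hb =>
      simp only [E₁, E₂, map_add] at ha hb ⊢
      rw [ha, hb, MonoidAlgebra.mapDomain_add]
    | single a r =>
      rw [MonoidAlgebra.mapDomain_single]
      change e (c (L (scalarHom R R' M (MonoidAlgebra.single a r)))) = _
      rw [scalarHom_single]
      change e (c (r ⊗ₜ charMap χ (MonoidAlgebra.single a 1))) = _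
      rw [charMap_single, one_smul]
      have hcz : ∀ w : R ⊗[R] A, c (r ⊗ₜ w) = r • mapT R A p w := by
        intro w
        induction w using TensorProduct.induction_on with
        | zero => simp
        | add u v hu hv => simp only [TensorProduct.tmul_add, map_add, hu, hv, smul_add]
        | tmul t b =>
          simp only [c, cancelBialg_tmul, mapT, Algebra.TensorProduct.map_tmul, AlgHom.id_apply]
          rw [TensorProduct.smul_tmul', Algebra.smul_def, smul_eq_mul, mul_comm]
          rfl
      rw [hcz, map_smul]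
      change r • e (mapT R A p (x a)) = _
      rw [hφ a]
      simp
  have hmd : Function.Bijective (MonoidAlgebra.mapDomain φ : MonoidAlgebra R' M → MonoidAlgebra R' N) := by
    refine Function.bijective_iff_has_inverse.2
      ⟨MonoidAlgebra.mapDomain (Equiv.ofBijective φ hφb).symm, fun z => ?_, fun z => ?_⟩ <;>
    · induction z using MonoidAlgebra.induction_linear with
      | zero => simp
      | add a b ha hb => rw [MonoidAlgebra.mapDomain_add, MonoidAlgebra.mapDomain_add, ha, hb]
      | single a r =>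
        rw [MonoidAlgebra.mapDomain_single, MonoidAlgebra.mapDomain_single]
        congr 1
        simp [Equiv.ofBijective_symm_apply_apply, Equiv.ofBijective_apply_symm_apply]
  rw [← (funext hsq : E₁ ∘ L ∘ E₂ = MonoidAlgebra.mapDomain φ)] at hmd
  have h1 : Function.Bijective (L ∘ E₂) := (Function.Bijective.of_comp_iff' hE₁ _).1 hmd
  exact (Function.Bijective.of_comp_iff L hE₂).1 h1

end Groth.L25.Char
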