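import Groth.Agent.L25.Char.NilLift
import Groth.Agent.L25.MultType.Rigid
import Groth.Agent.L25.MultType.Torsion

/-!
# Homomorphisms between groups of multiplicative type lift along nilpotent ideals
-/

set_option autoImplicit false

universe u

open TensorProduct

namespace Groth.L25.Char

open Groth.L25.MultType

section Base

variable {R B C : Type u} [CommRing R] [CommRing B] [HopfAlgebra R B] [CommRing C] [HopfAlgebra R C]
  {Q : Type u} [CommRing Q] [Algebra R Q] (T : Type u) [CommRing T] [Algebra R T] [Algebra Q T]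
  [IsScalarTower R Q T]

/-- The base change of a homomorphism of groups. -/
noncomputable def bcHom (f : Q ⊗[R] C →ₐc[Q] Q ⊗[R] B) : T ⊗[R] C →ₐc[T] T ⊗[R] B :=
  ((cancelBialg R Q T B : T ⊗[Q] (Q ⊗[R] B) →ₐc[T] T ⊗[R] B).comp
    (Bialgebra.TensorProduct.map (BialgHom.id T T) f)).comp
      ((cancelBialg R Q T C).symm : T ⊗[R] C →ₐc[T] T ⊗[Q] (Q ⊗[R] C))

theorem bcHom_tmul (f : Q ⊗[R] C →ₐc[Q] Q ⊗[R] B) (c : C) :
    bcHom T f ((1 : T) ⊗ₜ c) =
      mapT R B (IsScalarTower.toAlgHom R Q T) (f ((1 : Q) ⊗ₜ c)) := by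
  simp only [bcHom, BialgHom.comp_apply, BialgEquiv.coe_toBialgHom]
  have h1 : (cancelBialg R Q T C).symm ((1 : T) ⊗ₜ c) = (1 : T) ⊗ₜ ((1 : Q) ⊗ₜ c) := by
    refine (cancelBialg R Q T C).injective ?_
    refine ((cancelBialg R Q T C).apply_symm_apply _).trans ?_
    change _ = cancelBialg R Q T C _
    rw [cancelBialg_tmul, one_smul]
  rw [h1]
  change cancelBialg R Q T B ((1 : T) ⊗ₜ f ((1 : Q) ⊗ₜ c)) = _
  generalize f ((1 : Q) ⊗ₜ c) = w
  induction w using TensorProduct.induction_on with
  | zero => simp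
  | add p q hp hq => simp only [TensorProduct.tmul_add, map_add, hp, hq]
  | tmul r x => rw [cancelBialg_tmul, Algebra.smul_def, _root_.mul_one]; rfl

theorem bcHom_mapT (f : Q ⊗[R] C →ₐc[Q] Q ⊗[R] B) (y : Q ⊗[R] C) :
    bcHom T f (mapT R C (IsScalarTower.toAlgHom R Q T) y) =
      mapT R B (IsScalarTower.toAlgHom R Q T) (f y) := by
  induction y using TensorProduct.induction_on with
  | zero => simp
  | add p q hp hq => simp only [map_add, hp, hq]
  | tmul r c =>
    have h : r ⊗ₜ[R] c = r • ((1 : Q) ⊗ₜ[R] c) := by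
      rw [TensorProduct.smul_tmul', smul_eq_mul, _root_.mul_one]
    rw [h, mapT_smul, map_smul, map_smul, mapT_smul]
    congr 1
    rw [← bcHom_tmul]
    simp [mapT]

end Base

variable {R B C : Type u} [CommRing R] [CommRing B] [HopfAlgebra R B] [CommRing C] [HopfAlgebra R C]

/-- Characters lift along a nil ideal of any algebra over the base. -/
theorem exists_lift_over (hB : SGA3b.IsMultType R B) {T : Type u} [CommRing T] [Algebra R T]
    (K : Ideal T) (hK : ∀ x ∈ K, IsNilpotent x) {z₀ : (T ⧸ K) ⊗[R] B}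
    (hz₀ : IsGL R B (T ⧸ K) z₀) :
    ∃ y, IsGL R B T y ∧ mapT R B (Ideal.Quotient.mkₐ R K) y = z₀ := by
  haveI := flat hB
  let e' : (T ⧸ K) ⊗[T] (T ⊗[R] B) ≃ₐc[T ⧸ K] (T ⧸ K) ⊗[R] B := cancelBialg R T (T ⧸ K) B
  obtain ⟨w, hw, hw₀⟩ := exists_lift (R := T) (A := T ⊗[R] B) (isMultType_baseChange hB) hK
    (x₀ := e'.symm z₀)
    ((isGL_iff T (T ⊗[R] B) (T ⧸ K) _).2 (((isGL_iff R B _ _).1 hz₀).map e'.symm))
  refine ⟨cancelBialg R T T B w, (isGL_iff R B T _).2
    (((isGL_iff T (T ⊗[R] B) T _).1 hw).map (cancelBialg R T T B)), ?_⟩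
  have hcomm : ∀ w, mapT R B (Ideal.Quotient.mkₐ R K) (cancelBialg R T T B w) =
      e' (mapT T (T ⊗[R] B) (Ideal.Quotient.mkₐ T K) w) := by
    intro w
    induction w using TensorProduct.induction_on with
    | zero => simp
    | add p q hp hq => simp only [map_add, hp, hq]
    | tmul s p =>
      induction p using TensorProduct.induction_on with
      | zero => simp
      | add a b ha hb => simp only [TensorProduct.tmul_add, map_add, ha, hb]
      | tmul t a =>
        rw [cancelBialg_tmul]
        simp only [mapT, Algebra.TensorProduct.map_tmul, AlgHom.id_apply, e']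
        rw [cancelBialg_tmul]
        congr 1
  rw [hcomm, hw₀]
  exact e'.apply_symm_apply z₀

theorem map_nil {I : Ideal R} (hI : IsNilpotent I) (T : Type u) [CommRing T] [Algebra R T] :
    IsNilpotent (I.map (algebraMap R T)) := by
  obtain ⟨n, hn⟩ := hI
  exact ⟨n, by rw [← Ideal.map_pow, hn, Ideal.zero_eq_bot, Ideal.map_bot]; rfl⟩

theorem nil_of_nilpotent {I : Ideal R} (hI : IsNilpotent I) {x : R} (hx : x ∈ I) :
    IsNilpotent x := by
  obtain ⟨n, hn⟩ := hI
  refine ⟨n, ?_⟩
  have h := Ideal.pow_mem_pow hx n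
  rwa [hn, Ideal.zero_eq_bot, Ideal.mem_bot] at h

/-- Over a base over which the source is split, a homomorphism lifts. -/
theorem exists_lift_split (hB : SGA3b.IsMultType R B) {I : Ideal R} (hI : IsNilpotent I)
    (f₀ : (R ⧸ I) ⊗[R] C →ₐc[R ⧸ I] (R ⧸ I) ⊗[R] B) {S : Type u} [CommRing S] [Algebra R S]
    (hd : SGA3b.IsDiag S (S ⊗[R] C)) :
    ∃ F : S ⊗[R] C →ₐc[S] S ⊗[R] B, ∀ (ρ : R ⧸ I →ₐ[R] S ⧸ I.map (algebraMap R S)) (c : C),
      mapT R B (Ideal.Quotient.mkₐ R (I.map (algebraMap R S))) (F ((1 : S) ⊗ₜ c)) =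
        mapT R B ρ (f₀ ((1 : R ⧸ I) ⊗ₜ c)) := by
  obtain ⟨N, _, ⟨e⟩⟩ := hd
  let J : Ideal S := I.map (algebraMap R S)
  have hJ : ∀ z ∈ J, IsNilpotent z := fun z hz => nil_of_nilpotent (map_nil hI S) hz
  let ρ : R ⧸ I →ₐ[R] S ⧸ J := Ideal.Quotient.liftₐ I
    ((Ideal.Quotient.mkₐ R J).comp (Algebra.ofId R S))
    (fun r hr => Ideal.Quotient.eq_zero_iff_mem.2 (Ideal.mem_map_of_mem _ hr))
  letI : Algebra (R ⧸ I) (S ⧸ J) := ρ.toRingHom.toAlgebra
  haveI : IsScalarTower R (R ⧸ I) (S ⧸ J) := IsScalarTower.of_algebraMap_eq fun r => rfl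
  let q : S →ₐ[R] S ⧸ J := Ideal.Quotient.mkₐ R J
  let H := bcHom (B := B) (S ⧸ J) f₀
  have hx₀ : ∀ k, IsGL R B (S ⧸ J) (H (mapT R C q (splitElem e k))) := fun k =>
    (isGL_iff R B _ _).2 (((isGL_iff R C _ _).1 ((isGL_splitElem e k).map q)).map H)
  choose y hy hy₀ using fun k => exists_lift_over hB J hJ (hx₀ k)
  let θ : N →* GroupLike S (S ⊗[R] B) :=
    { toFun := fun k => ⟨y k, (isGL_iff R B S _).1 (hy k)⟩
      map_one' := GroupLike.ext (eq_of_congr_nil hB hJ (hy 1)
        ((isGL_iff R B S _).2 IsGroupLikeElem.one)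
        (by
          change _ = mapT R B (Ideal.Quotient.mkₐ R J) 1
          rw [hy₀, map_one, show splitElem e (1 : N) = 1 from (splitChar e).map_one, map_one,
            map_one]))
      map_mul' := fun a b => GroupLike.ext (eq_of_congr_nil hB hJ (hy _)
        ((isGL_iff R B S _).2 (((isGL_iff R B S _).1 (hy a)).mul ((isGL_iff R B S _).1 (hy b))))
        (by
          change _ = mapT R B (Ideal.Quotient.mkₐ R J) (y a * y b)
          rw [hy₀, map_mul (mapT R B (Ideal.Quotient.mkₐ R J)), hy₀, hy₀, ← map_mul,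
            ← map_mul]
          exact congrArg H (congrArg (mapT R C q) ((splitChar e).map_mul a b)))) }
  let F : S ⊗[R] C →ₐc[S] S ⊗[R] B :=
    (charMap θ).comp (e : S ⊗[R] C →ₐc[S] MonoidAlgebra S N)
  refine ⟨F, fun ρ' c => ?_⟩
  rw [show ρ' = ρ from Ideal.Quotient.algHom_ext R (AlgHom.ext fun r =>
    (ρ'.commutes r).trans (ρ.commutes r).symm)]
  have key : ∀ z : MonoidAlgebra S N,
      mapT R B q (charMap θ z) = H (mapT R C q (e.symm z)) := by
    intro z
    induction z using MonoidAlgebra.induction_linear with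
    | zero => simp
    | add p p' hp hp' => simp only [map_add, hp, hp']
    | single k r =>
      rw [charMap_single, mapT_smul,
        show MonoidAlgebra.single k r = r • MonoidAlgebra.single k (1 : S) by simp,
        map_smul, mapT_smul, map_smul]
      exact congrArg (q r • ·) (hy₀ k)
  refine (key (e ((1 : S) ⊗ₜ c))).trans ?_
  rw [e.symm_apply_apply, show mapT R C q ((1 : S) ⊗ₜ c) = (1 : S ⧸ J) ⊗ₜ c by simp [mapT]]
  exact bcHom_tmul (S ⧸ J) f₀ c

/-- Two lifts of a homomorphism agree over any algebra. -/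
theorem lift_unique (hB : SGA3b.IsMultType R B) (hC : SGA3b.IsMultType R C) {I : Ideal R}
    (hI : IsNilpotent I) {T : Type u} [CommRing T] [Algebra R T]
    (F G : T ⊗[R] C →ₐc[T] T ⊗[R] B)
    (h : ∀ c, mapT R B (Ideal.Quotient.mkₐ R (I.map (algebraMap R T))) (F ((1 : T) ⊗ₜ c)) =
      mapT R B (Ideal.Quotient.mkₐ R (I.map (algebraMap R T))) (G ((1 : T) ⊗ₜ c))) : F = G := by
  haveI := isCocomm (isMultType_baseChange (T := T) hC)
  refine MultType.eq_of_congr (isMultType_baseChange hB) (map_nil hI T) F G fun z => ?_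
  induction z using TensorProduct.induction_on with
  | zero => simp
  | add p q hp hq => rw [map_add, map_add, add_sub_add_comm]; exact add_mem hp hq
  | tmul r c =>
    rw [show r ⊗ₜ[R] c = r • ((1 : T) ⊗ₜ[R] c) by
      rw [TensorProduct.smul_tmul', smul_eq_mul, _root_.mul_one], map_smul, map_smul, ← smul_sub]
    refine Submodule.smul_mem _ _ (mem_smul_top_of_mapT_eq_zero _ ?_)
    rw [map_sub, h, sub_self]

/-- Homomorphisms between groups of multiplicative type lift along nilpotent ideals. -/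
theorem exists_bialgHom_lift (hB : SGA3b.IsMultType R B) (hC : SGA3b.IsMultType R C) {I : Ideal R}
    (hI : IsNilpotent I) (f₀ : (R ⧸ I) ⊗[R] C →ₐc[R ⧸ I] (R ⧸ I) ⊗[R] B) :
    ∃ f : C →ₐc[R] B, ∀ c, f₀ ((1 : R ⧸ I) ⊗ₜ c) = (1 : R ⧸ I) ⊗ₜ f c := by
  classical
  obtain ⟨ι, _, S, _, _, hff, hd⟩ := exists_split_family hC
  choose F hF using fun i => exists_lift_split hB hI f₀ (hd i)
  let P := ∀ i, S i
  let z : C → P ⊗[R] B := fun c =>
    (TensorProduct.piLeft R B S).symm fun i => F i ((1 : S i) ⊗ₜ c)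
  have hz : ∀ c i, mapT R B (Pi.evalAlgHom R S i) (z c) = F i ((1 : S i) ⊗ₜ c) := fun c i => by
    rw [mapT, mapT_eval_eq_piLeft, LinearEquiv.apply_symm_apply]
  let i₁ : P →ₐ[R] P ⊗[R] P := Algebra.TensorProduct.includeLeft
  let i₂ : P →ₐ[R] P ⊗[R] P := Algebra.TensorProduct.includeRight
  have hdesc : ∀ c, mapT R B i₁ (z c) = mapT R B i₂ (z c) := by
    intro c
    let π : ∀ i j, P ⊗[R] P →ₐ[R] S i ⊗[R] S j := fun i j =>
      Algebra.TensorProduct.map (Pi.evalAlgHom R S i) (Pi.evalAlgHom R S j)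
    have hpair : ∀ i j, mapT R B (π i j) (mapT R B i₁ (z c)) =
        mapT R B (π i j) (mapT R B i₂ (z c)) := by
      intro i j
      let W := S i ⊗[R] S j
      let l : S i →ₐ[R] W := Algebra.TensorProduct.includeLeft
      let r : S j →ₐ[R] W := Algebra.TensorProduct.includeRight
      rw [mapT_mapT, mapT_mapT,
        show (π i j).comp i₁ = l.comp (Pi.evalAlgHom R S i) from AlgHom.ext fun x => by
          simp [π, i₁, l]; rfl,
        show (π i j).comp i₂ = r.comp (Pi.evalAlgHom R S j) from AlgHom.ext fun x => by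
          simp [π, i₂, r]; rfl,
        ← mapT_mapT, ← mapT_mapT, hz, hz]
      have hl : ∀ c, ∃ G : W ⊗[R] C →ₐc[W] W ⊗[R] B, G = bcHom W (F i) ∧
          G ((1 : W) ⊗ₜ c) = mapT R B l (F i ((1 : S i) ⊗ₜ c)) := fun c =>
        ⟨_, rfl, (bcHom_tmul W (F i) c).trans rfl⟩
      have hr : ∀ c, ∃ G : W ⊗[R] C →ₐc[W] W ⊗[R] B, G = (letI := r.toRingHom.toAlgebra
          haveI : IsScalarTower R (S j) W :=
            IsScalarTower.of_algebraMap_eq fun x => (r.commutes x).symm
          bcHom W (F j)) ∧ G ((1 : W) ⊗ₜ c) = mapT R B r (F j ((1 : S j) ⊗ₜ c)) := by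
        intro c
        letI := r.toRingHom.toAlgebra
        haveI : IsScalarTower R (S j) W :=
          IsScalarTower.of_algebraMap_eq fun x => (r.commutes x).symm
        refine ⟨_, rfl, (bcHom_tmul W (F j) c).trans ?_⟩
        rfl
      choose G hG hG' using hl
      choose G' hGd hGd' using hr
      rw [← hG' c, ← hGd' c]
      refine congrArg (fun G => G ((1 : W) ⊗ₜ[R] c)) (lift_unique hB hC hI _ _ fun d => ?_)
      have e1 : G c = G d := (hG c).trans (hG d).symm
      have e2 : G' c = G' d := (hGd c).trans (hGd d).symm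
      rw [e1, e2, hG' d, hGd' d]
      let JW : Ideal W := I.map (algebraMap R W)
      let ρ : R ⧸ I →ₐ[R] W ⧸ JW := Ideal.Quotient.liftₐ I
        ((Ideal.Quotient.mkₐ R JW).comp (Algebra.ofId R W))
        (fun x hx => Ideal.Quotient.eq_zero_iff_mem.2 (Ideal.mem_map_of_mem _ hx))
      have key : ∀ k (g : S k →ₐ[R] W),
          mapT R B (Ideal.Quotient.mkₐ R JW) (mapT R B g (F k ((1 : S k) ⊗ₜ d))) =
            mapT R B ρ (f₀ ((1 : R ⧸ I) ⊗ₜ d)) := by
        intro k g
        let gq : S k ⧸ I.map (algebraMap R (S k)) →ₐ[R] W ⧸ JW := Ideal.Quotient.liftₐ _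
          ((Ideal.Quotient.mkₐ R JW).comp g) (fun v hv => by
            have hle : I.map (algebraMap R (S k)) ≤ RingHom.ker ((Ideal.Quotient.mkₐ R JW).comp g) :=
              Ideal.map_le_iff_le_comap.2 fun x hx => by
                rw [Ideal.mem_comap, RingHom.mem_ker, AlgHom.commutes,
                  IsScalarTower.algebraMap_apply R W (W ⧸ JW)]
                exact Ideal.Quotient.eq_zero_iff_mem.2 (Ideal.mem_map_of_mem (algebraMap R W) hx)
            exact hle hv)
        let ρk : R ⧸ I →ₐ[R] S k ⧸ I.map (algebraMap R (S k)) := Ideal.Quotient.liftₐ I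
          ((Ideal.Quotient.mkₐ R _).comp (Algebra.ofId R (S k)))
          (fun x hx => Ideal.Quotient.eq_zero_iff_mem.2 (Ideal.mem_map_of_mem _ hx))
        rw [mapT_mapT, show (Ideal.Quotient.mkₐ R JW).comp g = gq.comp (Ideal.Quotient.mkₐ R _) from
          (Ideal.Quotient.liftₐ_comp _ _ _).symm, ← mapT_mapT, hF k ρk, mapT_mapT,
          show gq.comp ρk = ρ from Ideal.Quotient.algHom_ext R (AlgHom.ext fun x =>
            ((gq.comp ρk).commutes x).trans (ρ.commutes x).symm)]
      exact (key i l).trans (key j r).symm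
    refine sub_eq_zero.1 ?_
    set v := mapT R B i₁ (z c) - mapT R B i₂ (z c) with hv
    have hv0 : ∀ i j, mapT R B (π i j) v = 0 := fun i j => by
      rw [hv, map_sub, hpair, sub_self]
    have h1 : (1 : P ⊗[R] P) = ∑ i, ∑ j,
        (Pi.single i 1 : P) ⊗ₜ[R] (Pi.single j 1 : P) := by
      simp only [← TensorProduct.tmul_sum, ← TensorProduct.sum_tmul]
      rw [show (∑ i, (Pi.single i 1 : P)) = 1 from Finset.univ_sum_single (1 : P),
        Algebra.TensorProduct.one_def]
    rw [← one_smul (P ⊗[R] P) v, h1, Finset.sum_smul]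
    refine Finset.sum_eq_zero fun i _ => ?_
    rw [Finset.sum_smul]
    refine Finset.sum_eq_zero fun j _ => ?_
    let σ : S i ⊗[R] S j →ₗ[R] P ⊗[R] P :=
      TensorProduct.map (LinearMap.single R S i) (LinearMap.single R S j)
    have hσ : ∀ x : (P ⊗[R] P) ⊗[R] B,
        ((Pi.single i 1 : P) ⊗ₜ[R] (Pi.single j 1 : P)) • x =
          σ.rTensor B (mapT R B (π i j) x) := by
      intro x
      induction x using TensorProduct.induction_on with
      | zero => simp
      | add p q hp hq => simp only [smul_add, map_add, hp, hq]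
      | tmul y b =>
        rw [TensorProduct.smul_tmul', smul_eq_mul]
        simp only [mapT, Algebra.TensorProduct.map_tmul, AlgHom.id_apply, LinearMap.rTensor_tmul]
        refine congrArg (· ⊗ₜ[R] b) ?_
        induction y using TensorProduct.induction_on with
        | zero => simp
        | add p q hp hq => simp only [mul_add, map_add, hp, hq]
        | tmul p q =>
          have hs : ∀ (k : ι) (p : P), (Pi.single k 1 : P) * p = Pi.single k (p k) := by
            intro k p
            funext l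
            change (Pi.single k 1 : ∀ i, S i) l * p l = _
            rcases eq_or_ne l k with rfl | hl
            · simp
            · simp [Pi.single_eq_of_ne hl]
          simp [π, σ, hs]; rfl
    rw [hσ, hv0, map_zero]
  haveI := hff
  have hex : ∀ c, ∃ w : B, (1 : P) ⊗ₜ[R] w = z c := by
    intro c
    haveI := flat hB
    have hexact := Module.Flat.rTensor_exact (M := B)
      (Algebra.IsEffective.of_faithfullyFlat R P)
    obtain ⟨w, hw⟩ := (hexact (z c)).1 (by
      rw [Algebra.TensorProduct.includeLeftSubRight, LinearMap.rTensor_sub, LinearMap.sub_apply,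
        rTensor_eq_mapT i₁, rTensor_eq_mapT i₂]
      exact sub_eq_zero.2 (hdesc c))
    refine ⟨TensorProduct.lid R B w, ?_⟩
    rw [← hw]
    clear hw
    induction w using TensorProduct.induction_on with
    | zero => simp
    | add p q hp hq => simp only [map_add, TensorProduct.tmul_add, hp, hq]
    | tmul r b =>
      simp only [TensorProduct.lid_tmul, LinearMap.rTensor_tmul, Algebra.linearMap_apply,
        TensorProduct.tmul_smul]
      rw [TensorProduct.smul_tmul', Algebra.algebraMap_eq_smul_one]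
  choose w hw using hex
  have hwi : ∀ c i, (1 : S i) ⊗ₜ[R] w c = F i ((1 : S i) ⊗ₜ c) := fun c i => by
    rw [← hz c i, ← hw c]
    simp [mapT, show (1 : P) i = 1 from rfl]
  have hext : ∀ {N : Type u} [CommRing N] [Algebra R N] {x y : N},
      (∀ i, (1 : S i) ⊗ₜ[R] x = (1 : S i) ⊗ₜ[R] y) → x = y := fun {N} _ _ {x y} h => by
    refine Module.FaithfullyFlat.tensorProduct_mk_injective (A := R) (B := P) N (pi_ext fun i => ?_)
    simpa [show (1 : P) i = 1 from rfl] using h i
  let ψ : C →ₐ[R] B :=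
    { toFun := w
      map_one' := hext fun i => by
        rw [hwi, ← Algebra.TensorProduct.one_def, map_one, Algebra.TensorProduct.one_def]
      map_mul' := fun x y => hext fun i => by
        rw [hwi, ← _root_.one_mul (1 : S i), ← Algebra.TensorProduct.tmul_mul_tmul,
          map_mul, ← hwi, ← hwi, Algebra.TensorProduct.tmul_mul_tmul]
      map_zero' := hext fun i => by
        rw [hwi, TensorProduct.tmul_zero, map_zero, TensorProduct.tmul_zero]
      map_add' := fun x y => hext fun i => by
        rw [hwi, TensorProduct.tmul_add, map_add, ← hwi, ← hwi, TensorProduct.tmul_add]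
      commutes' := fun r => hext fun i => by
        rw [hwi, Algebra.algebraMap_eq_smul_one, Algebra.algebraMap_eq_smul_one,
          TensorProduct.tmul_smul, TensorProduct.tmul_smul, ← Algebra.TensorProduct.one_def,
          ← algebraMap_smul (S i) r, map_smul, map_one, algebraMap_smul,
          Algebra.TensorProduct.one_def] }
  refine ⟨BialgHom.ofAlgHom ψ (AlgHom.ext fun c => ?_) (AlgHom.ext fun c => ?_), fun c => ?_⟩
  · change Coalgebra.counit (R := R) (w c) = Coalgebra.counit (R := R) c
    refine FaithfulSMul.algebraMap_injective R P (funext fun i => ?_)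
    have h1 := CoalgHomClass.counit_comp_apply (F i) ((1 : S i) ⊗ₜ c)
    rw [← hwi, TensorProduct.counit_tmul, TensorProduct.counit_tmul, CommSemiring.counit_apply] at h1
    change algebraMap R (S i) _ = algebraMap R (S i) _
    simpa [Algebra.smul_def] using h1
  · change TensorProduct.map ψ.toLinearMap ψ.toLinearMap (Coalgebra.comul (R := R) c) =
      Coalgebra.comul (R := R) (w c)
    refine hext fun i => ?_
    have h1 := congrArg (toFlat R B (S i)) (CoalgHomClass.map_comp_comul_apply (F i) ((1 : S i) ⊗ₜ c))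
    rw [← hwi, toFlat_comul] at h1
    have h2 : ∀ y : C ⊗[R] C, toFlat R B (S i) (TensorProduct.map
        (F i : S i ⊗[R] C →ₐc[S i] S i ⊗[R] B).toLinearMap
        (F i : S i ⊗[R] C →ₐc[S i] S i ⊗[R] B).toLinearMap
        (AlgebraTensorModule.tensorTensorTensorComm R (S i) R (S i) (S i) (S i) C C
          (((1 : S i) ⊗ₜ (1 : S i)) ⊗ₜ y))) =
        (1 : S i) ⊗ₜ TensorProduct.map ψ.toLinearMap ψ.toLinearMap y := by
      intro y
      induction y using TensorProduct.induction_on with
      | zero => simp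
      | add p q hp hq => simp only [TensorProduct.tmul_add, map_add, hp, hq]
      | tmul p q =>
        simp only [AlgebraTensorModule.tensorTensorTensorComm_tmul, TensorProduct.map_tmul]
        change toFlat R B (S i) (F i ((1 : S i) ⊗ₜ p) ⊗ₜ F i ((1 : S i) ⊗ₜ q)) = _
        rw [← hwi, ← hwi, toFlat_tmul]
        simp [inl, inr, Algebra.TensorProduct.tmul_mul_tmul]
        rfl
    rw [TensorProduct.comul_tmul, CommSemiring.comul_apply] at h1
    refine ((h2 _).symm.trans h1).trans ?_
    simp [comulT]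
  · let J : ∀ i, Ideal (S i) := fun i => I.map (algebraMap R (S i))
    let JP : Ideal P := I.map (algebraMap R P)
    let ρP : R ⧸ I →ₐ[R] P ⧸ JP := Ideal.Quotient.liftₐ I
      ((Ideal.Quotient.mkₐ R JP).comp (Algebra.ofId R P))
      (fun r hr => Ideal.Quotient.eq_zero_iff_mem.2 (Ideal.mem_map_of_mem _ hr))
    have hinj : Function.Injective ρP := by
      rw [injective_iff_map_eq_zero]
      intro a ha
      obtain ⟨a, rfl⟩ := Ideal.Quotient.mk_surjective a
      refine Ideal.Quotient.eq_zero_iff_mem.2 ?_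
      have h := Ideal.Quotient.eq_zero_iff_mem.1
        (show Ideal.Quotient.mk JP (algebraMap R P a) = 0 from ha)
      rw [← I.comap_map_eq_self_of_faithfullyFlat (B := P)]
      exact h
    haveI := flat hB
    refine mapT_injective hinj ?_
    change mapT R B ρP (f₀ ((1 : R ⧸ I) ⊗ₜ c)) = mapT R B ρP ((1 : R ⧸ I) ⊗ₜ w c)
    rw [show mapT R B ρP ((1 : R ⧸ I) ⊗ₜ w c) =
      mapT R B (Ideal.Quotient.mkₐ R JP) (z c) by rw [← hw c]; simp [mapT]]
    -- compare piecewise
    refine sub_eq_zero.1 ?_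
    set d := mapT R B ρP (f₀ ((1 : R ⧸ I) ⊗ₜ c)) - mapT R B (Ideal.Quotient.mkₐ R JP) (z c) with hd'
    let sec : ∀ i, S i ⧸ J i →ₗ[R] P ⧸ JP := fun i =>
      Submodule.mapQ ((J i).restrictScalars R) (JP.restrictScalars R) (LinearMap.single R S i)
        (fun x hx => by
          change (Pi.single i x : P) ∈ JP
          obtain ⟨v, hv, rfl⟩ : ∃ v ∈ JP, Pi.evalRingHom S i v = x := by
            have h4 : x ∈ I.map (algebraMap R (S i)) := hx
            rw [show algebraMap R (S i) = (Pi.evalRingHom S i).comp (algebraMap R P) from rfl,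
              ← Ideal.map_map] at h4
            exact (Ideal.mem_map_iff_of_surjective _ (Function.surjective_eval i)).1 h4
          rw [show (Pi.single i (Pi.evalRingHom S i v) : P) = Pi.single i 1 * v by
            funext j
            change _ = (Pi.single i 1 : ∀ i, S i) j * v j
            rcases eq_or_ne j i with rfl | hj
            · simp
            · simp [Pi.single_eq_of_ne hj]]
          exact Ideal.mul_mem_left _ _ hv)
    let ev : ∀ i, P ⧸ JP →ₐ[R] S i ⧸ J i := fun i => Ideal.Quotient.liftₐ JP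
      ((Ideal.Quotient.mkₐ R (J i)).comp (Pi.evalAlgHom R S i)) (fun v hv => by
        have hle : JP ≤ RingHom.ker ((Ideal.Quotient.mkₐ R (J i)).comp (Pi.evalAlgHom R S i)) :=
          Ideal.map_le_iff_le_comap.2 fun x hx => by
            rw [Ideal.mem_comap, RingHom.mem_ker, AlgHom.commutes,
              IsScalarTower.algebraMap_apply R (S i) (S i ⧸ J i)]
            exact Ideal.Quotient.eq_zero_iff_mem.2 (Ideal.mem_map_of_mem (algebraMap R (S i)) hx)
        exact hle hv)
    have hdec : ∑ i, (sec i).comp (ev i).toLinearMap = LinearMap.id := by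
      refine LinearMap.ext fun x => ?_
      obtain ⟨x, rfl⟩ := Ideal.Quotient.mk_surjective x
      rw [LinearMap.sum_apply]
      change ∑ i, Ideal.Quotient.mk JP (Pi.single i (x i)) = Ideal.Quotient.mk JP x
      rw [← map_sum, Finset.univ_sum_single x]
    have hev : ∀ i, mapT R B (ev i) d = 0 := by
      intro i
      let ρi : R ⧸ I →ₐ[R] S i ⧸ J i := (ev i).comp ρP
      rw [hd', map_sub, mapT_mapT, mapT_mapT,
        show (ev i).comp (Ideal.Quotient.mkₐ R JP) =
          (Ideal.Quotient.mkₐ R (J i)).comp (Pi.evalAlgHom R S i) from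
            Ideal.Quotient.liftₐ_comp _ _ _,
        ← mapT_mapT (Pi.evalAlgHom R S i), hz, hF i ρi, sub_self]
    have h5 : d = ∑ i, ((sec i).comp (ev i).toLinearMap).rTensor B d := by
      rw [← LinearMap.sum_apply, ← show ((∑ i, (sec i).comp (ev i).toLinearMap).rTensor B) =
        ∑ i, ((sec i).comp (ev i).toLinearMap).rTensor B from
          map_sum (LinearMap.rTensorHom (R := R) B) _ _, hdec]
      simp
    rw [h5]
    refine Finset.sum_eq_zero fun i _ => ?_
    rw [LinearMap.rTensor_comp_apply, show (ev i).toLinearMap.rTensor B d = mapT R B (ev i) d from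
      rTensor_eq_mapT _ _, hev, map_zero]

end Groth.L25.Char
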