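import Groth.Agent.L25.Char.Algebraize
import Groth.Agent.L25.Char.HomLift
import Groth.Agent.L25.MultType.NilBase
import Groth.Agent.L25.MultType.Isotrivial
import Mathlib.RingTheory.Flat.Localization

/-!
# Homomorphisms of groups of multiplicative type over adically complete rings
-/

set_option autoImplicit false

universe u

open TensorProduct

namespace Groth.L25.Char

open Groth.L25.MultType

/-- Flatness near `V(I)` gives flatness of the reductions. -/
theorem flat_reduction {R : Type u} [CommRing R] {C : Type u} [CommRing C] [Algebra R C]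
    {I : Ideal R}
    (hfl : ∀ (q : Ideal C) [q.IsPrime], Ideal.map (algebraMap R C) I ≤ q →
      Module.Flat R (Localization.AtPrime q))
    (n : ℕ) : Module.Flat (R ⧸ I ^ n) ((R ⧸ I ^ n) ⊗[R] C) := by
  let Q := R ⧸ I ^ n
  rw [Module.Flat.iff_lTensor_injective']
  intro K
  let j : K →ₗ[R] Q := (Submodule.subtype K).restrictScalars R
  have hj : Function.Injective j := Subtype.coe_injective
  let g : C ⊗[R] K →ₗ[C] C ⊗[R] Q := AlgebraTensorModule.map LinearMap.id j
  have hg : Function.Injective g := by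
    rw [injective_iff_map_eq_zero]
    intro z hz
    by_contra hne
    let ann : Ideal C := (Submodule.span C {z}).annihilator
    have hann : ann ≠ ⊤ := fun htop => hne (by
      have h1 : (1 : C) ∈ ann := by rw [htop]; trivial
      rwa [Submodule.mem_annihilator_span_singleton, one_smul] at h1)
    obtain ⟨q, hq, hle⟩ := Ideal.exists_le_maximal _ hann
    have hIq : I.map (algebraMap R C) ≤ q := by
      have hpow : (I ^ n).map (algebraMap R C) ≤ ann := Ideal.map_le_iff_le_comap.2 fun r hr => by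
        rw [Ideal.mem_comap, Submodule.mem_annihilator_span_singleton, algebraMap_smul]
        clear hz hne hle ann hann
        induction z using TensorProduct.induction_on with
        | zero => simp
        | add p p' hp hp' => rw [smul_add, hp, hp', add_zero]
        | tmul c k =>
          rw [← TensorProduct.tmul_smul,
            show r • k = 0 from Subtype.ext (by
              change r • (k : Q) = 0
              rw [Algebra.smul_def, Ideal.Quotient.algebraMap_eq,
                Ideal.Quotient.eq_zero_iff_mem.2 hr, zero_mul]),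
            TensorProduct.tmul_zero]
      rw [Ideal.map_pow] at hpow
      exact hq.isPrime.le_of_pow_le (hpow.trans hle)
    haveI := hfl q hIq
    let L := Localization.AtPrime q
    have h1 : (1 : L) ⊗ₜ[C] z = 0 := by
      refine (AlgebraTensorModule.cancelBaseChange R C L L K).injective ?_
      rw [map_zero]
      refine Module.Flat.lTensor_preserves_injective_linearMap (M := L) j hj ?_
      rw [map_zero]
      have key : ∀ z, j.lTensor L (AlgebraTensorModule.cancelBaseChange R C L L K ((1 : L) ⊗ₜ z)) =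
          AlgebraTensorModule.cancelBaseChange R C L L Q ((1 : L) ⊗ₜ g z) := by
        intro z
        induction z using TensorProduct.induction_on with
        | zero => simp
        | add p p' hp hp' => simp only [TensorProduct.tmul_add, map_add, hp, hp']
        | tmul c k => simp [g]
      rw [key, hz, TensorProduct.tmul_zero, map_zero]
    have h2 := congrArg (LocalizedModule.equivTensorProduct q.primeCompl (C ⊗[R] K)).symm h1
    rw [LocalizedModule.equivTensorProduct_symm_apply_tmul_one, map_zero,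
      ← LocalizedModule.zero_mk (1 : q.primeCompl), LocalizedModule.mk_eq] at h2
    obtain ⟨⟨c, hc'⟩, hc⟩ := h2
    exact hc' (hle (Submodule.mem_annihilator_span_singleton _ _ |>.2
      (by simpa [Submonoid.smul_def] using hc)))
  let e₁ : ((Q ⊗[R] C) ⊗[Q] K) ≃ₗ[R] C ⊗[R] K :=
    ((TensorProduct.comm Q (Q ⊗[R] C) K).restrictScalars R).trans
      ((AlgebraTensorModule.cancelBaseChange R Q Q K C).restrictScalars R |>.trans
        (TensorProduct.comm R K C))
  let e₂ : ((Q ⊗[R] C) ⊗[Q] Q) ≃ₗ[R] C ⊗[R] Q :=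
    ((TensorProduct.comm Q (Q ⊗[R] C) Q).restrictScalars R).trans
      ((AlgebraTensorModule.cancelBaseChange R Q Q Q C).restrictScalars R |>.trans
        (TensorProduct.comm R Q C))
  have key : ∀ w, e₂ (LinearMap.lTensor (Q ⊗[R] C) (Submodule.subtype K) w) = g (e₁ w) := by
    intro w
    induction w using TensorProduct.induction_on with
    | zero => simp
    | add p p' hp hp' => simp only [map_add, hp, hp']
    | tmul x k =>
      induction x using TensorProduct.induction_on with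
      | zero => simp
      | add p p' hp hp' => simp only [TensorProduct.add_tmul, map_add, hp, hp']
      | tmul t c =>
        change c ⊗ₜ[R] (t • (k : Q)) = c ⊗ₜ[R] j (t • k)
        rfl
  intro a b hab
  exact e₁.injective (hg (by rw [← key, ← key, hab]))

/-- Quasi-isotriviality only depends on the isomorphism class. -/
theorem isQuasiIsotrivialConst_of_equiv {R A B : Type u} [CommRing R] [CommRing A] [HopfAlgebra R A]
    [CommRing B] [HopfAlgebra R B] (e : A ≃ₐc[R] B) (h : SGA3b.IsQuasiIsotrivialConst R A) :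
    SGA3b.IsQuasiIsotrivialConst R B := by
  obtain ⟨T, i1, i2, i3, i4, hd⟩ := h
  exact ⟨T, i1, i2, i3, i4, isDiag_of_bialgEquiv (baseChangeEquiv R T e) hd⟩

/-- A flat group quasi-isotrivial modulo a nilpotent ideal is of multiplicative type. -/
theorem isMultType_of_mod_nilpotent {R : Type u} [CommRing R] {A : Type u} [CommRing A]
    [HopfAlgebra R A] [Module.Flat R A] {I : Ideal R} (hI : IsNilpotent I)
    (h : SGA3b.IsQuasiIsotrivial (R ⧸ I) ((R ⧸ I) ⊗[R] A)) : SGA3b.IsMultType R A := by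
  obtain ⟨s₀, hs₀, hcov⟩ := h
  refine ⟨Ideal.Quotient.mk I ⁻¹' s₀, ?_, fun f hf => ?_⟩
  · by_contra hcon
    obtain ⟨p, hp, hle⟩ := Ideal.exists_le_maximal _ hcon
    have hIp : I ≤ p := fun x hx => by
      obtain ⟨n, hn⟩ := nil_of_nilpotent hI hx
      exact hp.isPrime.mem_of_pow_mem n (hn ▸ p.zero_mem)
    have hle2 : Ideal.span s₀ ≤ p.map (Ideal.Quotient.mk I) := Ideal.span_le.2 fun y hy => by
      obtain ⟨f, rfl⟩ := Ideal.Quotient.mk_surjective y
      exact Ideal.mem_map_of_mem _ (hle (Ideal.subset_span hy))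
    rw [hs₀, top_le_iff] at hle2
    have h2 := congrArg (Ideal.comap (Ideal.Quotient.mk I)) hle2
    rw [Ideal.comap_map_of_surjective _ Ideal.Quotient.mk_surjective, Ideal.comap_top,
      ← RingHom.ker_eq_comap_bot, Ideal.mk_ker, sup_eq_left.2 hIp] at h2
    exact hp.ne_top h2
  letI := locQuotAlgebra I f
  haveI := locQuot_tower I f
  obtain ⟨hsurj, hker'⟩ := locQuot_surjective_and_ker I f
  have hker : IsNilpotent (RingHom.ker (algebraMap (Localization.Away f)
      (Localization.Away (Ideal.Quotient.mk I f)))) := by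
    obtain ⟨n, hn⟩ := map_nil hI (Localization.Away f)
    refine ⟨n, le_bot_iff.1 ((Ideal.pow_right_mono hker' n).trans ?_)⟩
    rw [hn]
    exact le_rfl
  have hq : SGA3b.IsQuasiIsotrivialConst (Localization.Away f) (Localization.Away f ⊗[R] A) :=
    isQuasiIsotrivialConst_of_nilpotent hsurj hker (isQuasiIsotrivialConst_of_equiv
      ((cancelBialg R (R ⧸ I) (Localization.Away (Ideal.Quotient.mk I f)) A).trans
        (cancelBialg R (Localization.Away f) (Localization.Away (Ideal.Quotient.mk I f)) A).symm)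
      (hcov _ hf))
  obtain ⟨T, i1, i2, -, i4, hd⟩ := hq
  exact ⟨T, i1, i2, i4, hd⟩

theorem isQuasiIsotrivial_of_equiv {R A B : Type u} [CommRing R] [CommRing A] [HopfAlgebra R A]
    [CommRing B] [HopfAlgebra R B] (e : A ≃ₐc[R] B) (h : SGA3b.IsQuasiIsotrivial R A) :
    SGA3b.IsQuasiIsotrivial R B := by
  obtain ⟨s, hs, hf⟩ := h
  exact ⟨s, hs, fun f hfs => isQuasiIsotrivialConst_of_equiv (baseChangeEquiv R _ e) (hf f hfs)⟩

section Level

variable {R : Type u} [CommRing R] {I : Ideal R}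

theorem mem_ker_smul {B : Type u} [CommRing B] [HopfAlgebra R B] {Q Q' : Type u} [CommRing Q]
    [Algebra R Q] [CommRing Q'] [Algebra R Q'] (g : Q →ₐ[R] Q') (hg : Function.Surjective g)
    {z : Q ⊗[R] B} (h : mapT R B g z = 0) :
    z ∈ RingHom.ker g • (⊤ : Submodule Q (Q ⊗[R] B)) := by
  refine mem_smul_top_of_mapT_eq_zero (RingHom.ker g) ?_
  let ψ := Ideal.quotientKerAlgEquivOfSurjective hg
  rw [show Ideal.Quotient.mkₐ R (RingHom.ker g) = (ψ.symm : Q' →ₐ[R] _).comp g from
    AlgHom.ext fun t => (ψ.symm_apply_apply _).symm, ← mapT_mapT, h, map_zero]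

/-- Two homomorphisms over a nilpotent thickening of `R ⧸ I` with the same reduction are equal. -/
theorem level_unique {B C : Type u} [CommRing B] [HopfAlgebra R B] [CommRing C] [HopfAlgebra R C]
    (hB : SGA3b.IsMultType R B) {Q Q' : Type u} [CommRing Q] [Algebra R Q] [CommRing Q']
    [Algebra R Q'] (g : Q →ₐ[R] Q') (hg : Function.Surjective g)
    (hker : IsNilpotent (RingHom.ker g)) (hC : SGA3b.IsMultType Q (Q ⊗[R] C))
    (F G : Q ⊗[R] C →ₐc[Q] Q ⊗[R] B)
    (h : ∀ c, mapT R B g (F ((1 : Q) ⊗ₜ c)) = mapT R B g (G ((1 : Q) ⊗ₜ c))) : F = G := by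
  haveI := isCocomm hC
  refine MultType.eq_of_congr (isMultType_baseChange hB) hker F G fun z => ?_
  induction z using TensorProduct.induction_on with
  | zero => simp
  | add p q hp hq => rw [map_add, map_add, add_sub_add_comm]; exact add_mem hp hq
  | tmul r c =>
    rw [show r ⊗ₜ[R] c = r • ((1 : Q) ⊗ₜ[R] c) by
      rw [TensorProduct.smul_tmul', smul_eq_mul, _root_.mul_one], map_smul, map_smul, ← smul_sub]
    refine Submodule.smul_mem _ _ (mem_ker_smul g hg ?_)
    rw [map_sub, h, sub_self]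

/-- A homomorphism over `R ⧸ I` lifts to a nilpotent thickening. -/
theorem level_lift {B C : Type u} [CommRing B] [HopfAlgebra R B] [CommRing C] [HopfAlgebra R C]
    (hB : SGA3b.IsMultType R B) {Q Q₀ : Type u} [CommRing Q] [Algebra R Q] [CommRing Q₀]
    [Algebra R Q₀] (g : Q →ₐ[R] Q₀) (hg : Function.Surjective g)
    (hker : IsNilpotent (RingHom.ker g)) (hC : SGA3b.IsMultType Q (Q ⊗[R] C))
    (φ₀ : Q₀ ⊗[R] C →ₐc[Q₀] Q₀ ⊗[R] B) :
    ∃ F : Q ⊗[R] C →ₐc[Q] Q ⊗[R] B,
      ∀ c, mapT R B g (F ((1 : Q) ⊗ₜ c)) = φ₀ ((1 : Q₀) ⊗ₜ c) := by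
  let K : Ideal Q := RingHom.ker g
  let ψ : (Q ⧸ K) ≃ₐ[R] Q₀ := Ideal.quotientKerAlgEquivOfSurjective hg
  letI : Algebra Q₀ (Q ⧸ K) := (ψ.symm : Q₀ →ₐ[R] Q ⧸ K).toRingHom.toAlgebra
  haveI : IsScalarTower R Q₀ (Q ⧸ K) :=
    IsScalarTower.of_algebraMap_eq fun r => (ψ.symm.commutes r).symm
  let f₀ : (Q ⧸ K) ⊗[Q] (Q ⊗[R] C) →ₐc[Q ⧸ K] (Q ⧸ K) ⊗[Q] (Q ⊗[R] B) :=
    ((cancelBialg R Q (Q ⧸ K) B).symm : (Q ⧸ K) ⊗[R] B →ₐc[Q ⧸ K] (Q ⧸ K) ⊗[Q] (Q ⊗[R] B)).comp
      ((bcHom (Q ⧸ K) φ₀).comp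
        (cancelBialg R Q (Q ⧸ K) C : (Q ⧸ K) ⊗[Q] (Q ⊗[R] C) →ₐc[Q ⧸ K] (Q ⧸ K) ⊗[R] C))
  obtain ⟨F, hF⟩ := exists_bialgHom_lift (R := Q) (isMultType_baseChange hB) hC hker f₀
  refine ⟨F, fun c => ?_⟩
  have h1 := congrArg (cancelBialg R Q (Q ⧸ K) B) (hF ((1 : Q) ⊗ₜ c))
  simp only [f₀, BialgHom.comp_apply, BialgEquiv.coe_toBialgHom, BialgEquiv.apply_symm_apply] at h1
  rw [cancelBialg_tmul, one_smul, bcHom_tmul] at h1
  have h2 : ∀ w : Q ⊗[R] B, cancelBialg R Q (Q ⧸ K) B ((1 : Q ⧸ K) ⊗ₜ w) =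
      mapT R B (Ideal.Quotient.mkₐ R K) w := by
    intro w
    induction w using TensorProduct.induction_on with
    | zero => simp
    | add p q hp hq => simp only [TensorProduct.tmul_add, map_add, hp, hq]
    | tmul r b => rw [cancelBialg_tmul, Algebra.smul_def, _root_.mul_one]; rfl
  rw [h2] at h1
  have h3 := congrArg (mapT R B (ψ : (Q ⧸ K) →ₐ[R] Q₀)) h1
  rw [mapT_mapT, mapT_mapT] at h3
  rw [show g = (ψ : (Q ⧸ K) →ₐ[R] Q₀).comp (Ideal.Quotient.mkₐ R K) from
    AlgHom.ext fun t => rfl, ← h3,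
    show (ψ : (Q ⧸ K) →ₐ[R] Q₀).comp (IsScalarTower.toAlgHom R Q₀ (Q ⧸ K)) = AlgHom.id R Q₀ from
      AlgHom.ext fun t => ψ.apply_symm_apply t]
  simp [mapT]

end Level

section Main

variable {R : Type u} [CommRing R] {I : Ideal R} {B : Type u} [CommRing B] [HopfAlgebra R B]
  {C : Type u} [CommRing C] [HopfAlgebra R C]

theorem factor_surjective {J K : Ideal R} (h : J ≤ K) :
    Function.Surjective (Ideal.Quotient.factorₐ R h) := fun y => by
  obtain ⟨r, rfl⟩ := Ideal.Quotient.mk_surjective y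
  exact ⟨Ideal.Quotient.mk J r, rfl⟩

theorem factor_nilpotent (n : ℕ) :
    IsNilpotent (RingHom.ker
      (Ideal.Quotient.factorₐ R (Ideal.pow_le_self (I := I) n.succ_ne_zero))) := by
  refine ⟨n + 1, le_bot_iff.1 ?_⟩
  have hle : RingHom.ker (Ideal.Quotient.factorₐ R (Ideal.pow_le_self (I := I) n.succ_ne_zero)) ≤
      I.map (Ideal.Quotient.mk (I ^ (n + 1))) := fun z hz => by
    obtain ⟨r, rfl⟩ := Ideal.Quotient.mk_surjective z
    exact Ideal.mem_map_of_mem _ (Ideal.Quotient.eq_zero_iff_mem.1 hz)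
  refine (Ideal.pow_right_mono hle _).trans ?_
  rw [← Ideal.map_pow, Ideal.map_quotient_self]

/-- The reductions of a group flat and quasi-isotrivial near `V(I)` are of multiplicative type. -/
theorem isMultType_reduction
    (hfl : ∀ (q : Ideal C) [q.IsPrime], Ideal.map (algebraMap R C) I ≤ q →
      Module.Flat R (Localization.AtPrime q))
    (h0 : SGA3b.IsQuasiIsotrivial (R ⧸ I) ((R ⧸ I) ⊗[R] C)) (n : ℕ) :
    SGA3b.IsMultType (R ⧸ I ^ (n + 1)) ((R ⧸ I ^ (n + 1)) ⊗[R] C) := by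
  haveI := flat_reduction hfl (n + 1)
  let Q := R ⧸ I ^ (n + 1)
  let g := Ideal.Quotient.factorₐ R (Ideal.pow_le_self (I := I) n.succ_ne_zero)
  let K : Ideal Q := RingHom.ker g
  let ψ := Ideal.quotientKerAlgEquivOfSurjective (f := g) (factor_surjective _)
  refine isMultType_of_mod_nilpotent (factor_nilpotent n) ?_
  letI : Algebra (R ⧸ I) (Q ⧸ K) := (ψ.symm : (R ⧸ I) →ₐ[R] Q ⧸ K).toRingHom.toAlgebra
  haveI : IsScalarTower R (R ⧸ I) (Q ⧸ K) :=
    IsScalarTower.of_algebraMap_eq fun r => (ψ.symm.commutes r).symm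
  refine isQuasiIsotrivial_of_equiv
    ((cancelBialg R (R ⧸ I) (Q ⧸ K) C).trans (cancelBialg R Q (Q ⧸ K) C).symm) ?_
  obtain ⟨s, hs, hcov⟩ := h0
  refine ⟨algebraMap (R ⧸ I) (Q ⧸ K) '' s, ?_, ?_⟩
  · rw [← Ideal.map_span, hs, Ideal.map_top]
  rintro _ ⟨f, hf, rfl⟩
  obtain ⟨T, _, _, _, hff, hd⟩ := hcov f hf
  let P := Localization.Away f
  let P' := Localization.Away (algebraMap (R ⧸ I) (Q ⧸ K) f)
  let ε : P' →+* P := IsLocalization.Away.lift (algebraMap (R ⧸ I) (Q ⧸ K) f)
    (g := (algebraMap (R ⧸ I) P).comp (ψ : (Q ⧸ K) →+* R ⧸ I))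
    (by
      rw [RingHom.comp_apply, show (ψ : (Q ⧸ K) →+* R ⧸ I) (algebraMap (R ⧸ I) (Q ⧸ K) f) = f from
        ψ.apply_symm_apply f]
      exact IsLocalization.Away.algebraMap_isUnit f)
  letI : Algebra P' T := ((algebraMap P T).comp ε).toAlgebra
  letI : Algebra P' P := ε.toAlgebra
  haveI : IsScalarTower P' P T := IsScalarTower.of_algebraMap_eq fun _ => rfl
  have hεbij : Function.Bijective ε := by
    let δ : P →+* P' := IsLocalization.Away.lift f
      (g := (algebraMap (Q ⧸ K) P').comp (algebraMap (R ⧸ I) (Q ⧸ K)))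
      (IsLocalization.Away.algebraMap_isUnit (S := P') (algebraMap (R ⧸ I) (Q ⧸ K) f))
    refine Function.bijective_iff_has_inverse.2 ⟨δ, fun x => ?_, fun x => ?_⟩
    · refine DFunLike.congr_fun (IsLocalization.ringHom_ext
        (Submonoid.powers (algebraMap (R ⧸ I) (Q ⧸ K) f)) (j := δ.comp ε) (k := RingHom.id P')
        (RingHom.ext fun r => ?_)) x
      simp only [RingHom.comp_apply, ε, δ, RingHom.id_apply, IsLocalization.Away.lift_eq]
      exact congrArg (algebraMap (Q ⧸ K) P') (ψ.symm_apply_apply r)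
    · refine DFunLike.congr_fun (IsLocalization.ringHom_ext
        (Submonoid.powers f) (j := ε.comp δ) (k := RingHom.id P)
        (RingHom.ext fun r => ?_)) x
      simp only [RingHom.comp_apply, ε, δ, RingHom.id_apply, IsLocalization.Away.lift_eq]
      exact congrArg (algebraMap (R ⧸ I) P) (ψ.apply_symm_apply r)
  haveI : Algebra.Etale P' P := Algebra.Etale.of_equiv
    (AlgEquiv.ofBijective (Algebra.ofId P' P) hεbij)
  haveI : Module.FaithfullyFlat P' P := Module.FaithfullyFlat.of_linearEquiv P' P'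
    (LinearEquiv.ofBijective (Algebra.linearMap P' P) hεbij).symm
  haveI := hff
  haveI : IsScalarTower (R ⧸ I) P' P := IsScalarTower.of_algebraMap_eq fun r => by
    change algebraMap (R ⧸ I) P r = ε (algebraMap (R ⧸ I) P' r)
    rw [IsScalarTower.algebraMap_apply (R ⧸ I) (Q ⧸ K) P', IsLocalization.Away.lift_eq]
    exact congrArg (algebraMap (R ⧸ I) P) (ψ.apply_symm_apply r).symm
  letI : Algebra (R ⧸ I) T := ((algebraMap P T).comp (algebraMap (R ⧸ I) P)).toAlgebra
  haveI : IsScalarTower (R ⧸ I) P T := IsScalarTower.of_algebraMap_eq fun _ => rfl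
  haveI : IsScalarTower (R ⧸ I) P' T := IsScalarTower.of_algebraMap_eq fun r => by
    rw [IsScalarTower.algebraMap_apply P' P T, ← IsScalarTower.algebraMap_apply (R ⧸ I) P' P]
    rfl
  letI : Algebra (Q ⧸ K) T := ((algebraMap P' T).comp (algebraMap (Q ⧸ K) P')).toAlgebra
  haveI : IsScalarTower (Q ⧸ K) P' T :=
    IsScalarTower.of_algebraMap_eq (R := Q ⧸ K) (S := P') (A := T) fun _ => rfl
  haveI : IsScalarTower (R ⧸ I) (Q ⧸ K) T := IsScalarTower.of_algebraMap_eq fun r => by
    rw [IsScalarTower.algebraMap_apply (Q ⧸ K) P' T,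
      ← IsScalarTower.algebraMap_apply (R ⧸ I) (Q ⧸ K) P',
      ← IsScalarTower.algebraMap_apply (R ⧸ I) P' T]
  refine ⟨T, inferInstance, inferInstance, Algebra.Etale.comp P' P T,
    Module.FaithfullyFlat.trans P' P T, ?_⟩
  exact isDiag_of_bialgEquiv (((cancelBialg (R ⧸ I) P T ((R ⧸ I) ⊗[R] C)).trans
    (cancelBialg (R ⧸ I) (Q ⧸ K) T ((R ⧸ I) ⊗[R] C)).symm).trans
      (cancelBialg (Q ⧸ K) P' T ((Q ⧸ K) ⊗[R ⧸ I] ((R ⧸ I) ⊗[R] C))).symm) hd

variable [IsNoetherianRing R] [IsAdicComplete I R]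

/-- Reduction is bijective on homomorphisms out of an isotrivial group of multiplicative type. -/
theorem reduction_bijective (hB : SGA3b.IsIsotrivial R B)
    (hfl : ∀ (q : Ideal C) [q.IsPrime], Ideal.map (algebraMap R C) I ≤ q →
      Module.Flat R (Localization.AtPrime q))
    (h0 : SGA3b.IsQuasiIsotrivial (R ⧸ I) ((R ⧸ I) ⊗[R] C)) :
    (∀ φ ψ : C →ₐc[R] B, (∀ c : C, (1 : R ⧸ I) ⊗ₜ[R] (φ c) = (1 : R ⧸ I) ⊗ₜ[R] (ψ c)) → φ = ψ) ∧
    (∀ φ₀ : ((R ⧸ I) ⊗[R] C) →ₐc[R ⧸ I] ((R ⧸ I) ⊗[R] B),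
      ∃ φ : C →ₐc[R] B, ∀ c : C, φ₀ ((1 : R ⧸ I) ⊗ₜ[R] c) = (1 : R ⧸ I) ⊗ₜ[R] (φ c)) := by
  have hBm := isMultType_of_isIsotrivial hB
  haveI := projective_of_isMultType hBm
  refine ⟨fun φ ψ h => BialgHom.ext fun c => eq_of_forall_one_tmul I fun n => ?_, fun φ₀ => ?_⟩
  · let Q := R ⧸ I ^ (n + 1)
    have h1 : ∀ (ξ : C →ₐc[R] B) (d : C), Bialgebra.TensorProduct.map (BialgHom.id Q Q) ξ
        ((1 : Q) ⊗ₜ d) = (1 : Q) ⊗ₜ ξ d := fun _ _ => rfl
    rw [← h1, ← h1]
    refine congrArg (fun G => G ((1 : Q) ⊗ₜ[R] c))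
      (level_unique hBm (Ideal.Quotient.factorₐ R (Ideal.pow_le_self (I := I) n.succ_ne_zero))
        (factor_surjective _) (factor_nilpotent n) (isMultType_reduction hfl h0 n) _ _ fun d => ?_)
    rw [h1, h1, mapT, Algebra.TensorProduct.map_tmul, Algebra.TensorProduct.map_tmul, map_one]
    exact h d
  · choose F hF using fun n => level_lift hBm
      (Ideal.Quotient.factorₐ R (Ideal.pow_le_self (I := I) n.succ_ne_zero))
      (factor_surjective _) (factor_nilpotent n) (isMultType_reduction hfl h0 n) φ₀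
    obtain ⟨ψ, hψ⟩ := exists_bialgHom_of_compatible (I := I) hB F fun {m n} hle c => by
      let f : R ⧸ I ^ (n + 1) →ₐ[R] R ⧸ I ^ (m + 1) :=
        Ideal.Quotient.factorₐ R (Ideal.pow_le_pow_right hle)
      letI : Algebra (R ⧸ I ^ (n + 1)) (R ⧸ I ^ (m + 1)) := f.toRingHom.toAlgebra
      haveI : IsScalarTower R (R ⧸ I ^ (n + 1)) (R ⧸ I ^ (m + 1)) :=
        IsScalarTower.of_algebraMap_eq fun r => (f.commutes r).symm
      have h1 : bcHom (R ⧸ I ^ (m + 1)) (F n) = F m := level_unique hBm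
        (Ideal.Quotient.factorₐ R (Ideal.pow_le_self (I := I) m.succ_ne_zero))
        (factor_surjective _) (factor_nilpotent m) (isMultType_reduction hfl h0 m) _ _ fun d => by
          rw [bcHom_tmul, mapT_mapT, hF m, ← hF n]
          exact congrArg (fun g => mapT R B g _)
            (Ideal.Quotient.algHom_ext R (AlgHom.ext fun r => rfl))
      rw [← h1, bcHom_tmul]
      rfl
    refine ⟨ψ, fun c => ?_⟩
    rw [← hF 0 c, hψ 0 c, mapT, Algebra.TensorProduct.map_tmul, map_one]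
    rfl

end Main

end Groth.L25.Char
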