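import Groth.Agent.L25.Char.Adic
import Groth.Agent.L27.EtaleLift
import Groth.Agent.L05.Hensel.LocalAlg
import Groth.Agent.S9405
import Mathlib.RingTheory.Henselian
import Mathlib.RingTheory.Unramified.LocalStructure
import Mathlib.RingTheory.Localization.Away.Lemmas
import Mathlib.RingTheory.Ideal.GoingDown

/-!
# Isotriviality over adically complete Noetherian rings
-/

set_option autoImplicit false

universe u

open TensorProduct

namespace Groth.L25.Char

open Groth.L25.MultType

/-- Finite étale algebras lift along adically complete quotients. -/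
theorem exists_finite_etale_lift (R : Type u) [CommRing R] (I : Ideal R) [IsAdicComplete I R]
    (C₀ : Type u) [CommRing C₀] [Algebra (R ⧸ I) C₀] [Algebra.Etale (R ⧸ I) C₀]
    [Module.Finite (R ⧸ I) C₀] :
    ∃ (C : Type u) (_ : CommRing C) (_ : Algebra R C), Algebra.Etale R C ∧ Module.Finite R C ∧
      Nonempty ((R ⧸ I) ⊗[R] C ≃ₐ[R ⧸ I] C₀) := by
  classical
  obtain ⟨C, _, _, het, ⟨θ⟩⟩ := Groth.L27.EtaleLift.exists_lift R I C₀
  let π : C →ₐ[R] (R ⧸ I) ⊗[R] C := Algebra.TensorProduct.includeRight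
  have hπ : ∀ z : C, π z = 0 ↔ z ∈ I.map (algebraMap R C) := by
    intro z
    let Q := Algebra.TensorProduct.quotIdealMapEquivQuotTensor C I
    have hQ : ∀ z, Q (Ideal.Quotient.mk _ z) = π z := fun z => by simp [Q, π]
    rw [← hQ, map_eq_zero_iff _ Q.injective, Ideal.Quotient.eq_zero_iff_mem]
  haveI : Module.Finite (R ⧸ I) ((R ⧸ I) ⊗[R] C) := Module.Finite.equiv θ.symm.toLinearEquiv
  haveI : Module.Finite R ((R ⧸ I) ⊗[R] C) := by
    haveI : Module.Finite R (R ⧸ I) := Module.Finite.of_surjective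
      (Ideal.Quotient.mkₐ R I).toLinearMap Ideal.Quotient.mk_surjective
    exact Module.Finite.trans (R ⧸ I) _
  have hint : ∀ x : C, IsIntegral R
      (Ideal.Quotient.mk (I.map (algebraMap R C) ⊔ Ideal.span {1 - (1 : C)}) x) := by
    intro x
    obtain ⟨g, hg, hgx⟩ := Algebra.IsIntegral.isIntegral (R := R) (π x)
    refine ⟨g, hg, ?_⟩
    rw [← Ideal.Quotient.mkₐ_eq_mk R, ← Polynomial.aeval_def, Polynomial.aeval_algHom_apply,
      Ideal.Quotient.mkₐ_eq_mk, Ideal.Quotient.eq_zero_iff_mem]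
    refine Ideal.mem_sup_left ((hπ _).1 ?_)
    rw [← Polynomial.aeval_algHom_apply, Polynomial.aeval_def]
    exact hgx
  haveI : Algebra.QuasiFinite R C := inferInstance
  obtain ⟨e, he, he1, hfin⟩ := Groth.L05.exists_idem_finite_piece I (1 : C)
    (by simp) (fun p _ _ _ => inferInstance) hint
  let Ce := C ⧸ Ideal.span ({1 - e} : Set C)
  haveI : IsLocalization.Away e Ce := IsLocalization.Away.quotient_of_isIdempotentElem he
  haveI : Algebra.Etale C Ce := Algebra.Etale.of_isLocalizationAway e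
  refine ⟨Ce, inferInstance, inferInstance, Algebra.Etale.comp R C Ce, hfin, ?_⟩
  let p : C →ₐ[R] Ce := Ideal.Quotient.mkₐ R _
  let Φ := Algebra.TensorProduct.map (AlgHom.id (R ⧸ I) (R ⧸ I)) p
  have hΦ : Function.Bijective Φ := by
    have hp1 : π e = 1 := by
      rw [← sub_eq_zero, ← map_one π, ← map_sub]
      exact (hπ _).2 he1
    let g : Ce →ₐ[R] (R ⧸ I) ⊗[R] C := Ideal.Quotient.liftₐ _ π (fun a ha => by
      obtain ⟨b, rfl⟩ := Ideal.mem_span_singleton'.1 ha
      rw [map_mul, map_sub, map_one, hp1, sub_self, mul_zero])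
    let Ψ : (R ⧸ I) ⊗[R] Ce →ₐ[R ⧸ I] (R ⧸ I) ⊗[R] C :=
      Algebra.TensorProduct.lift (Algebra.ofId (R ⧸ I) _) g fun _ _ => Commute.all _ _
    have h1 : ∀ z, Ψ (Φ z) = z := by
      intro z
      induction z using TensorProduct.induction_on with
      | zero => simp
      | add a b ha hb => simp only [map_add, ha, hb]
      | tmul r c =>
        simp only [Φ, Ψ, Algebra.TensorProduct.map_tmul, Algebra.TensorProduct.lift_tmul,
          AlgHom.id_apply]
        change algebraMap (R ⧸ I) _ r * π c = _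
        simp [π, Algebra.TensorProduct.tmul_mul_tmul]
    have hsurj : Function.Surjective Φ := by
      intro z
      induction z using TensorProduct.induction_on with
      | zero => exact ⟨0, map_zero _⟩
      | add a b ha hb =>
        obtain ⟨x, hx⟩ := ha
        obtain ⟨y, hy⟩ := hb
        exact ⟨x + y, by rw [map_add, hx, hy]⟩
      | tmul r c =>
        obtain ⟨c, rfl⟩ := Ideal.Quotient.mk_surjective c
        exact ⟨r ⊗ₜ c, rfl⟩
    exact ⟨Function.LeftInverse.injective h1, hsurj⟩
  exact ⟨(AlgEquiv.ofBijective Φ hΦ).symm.trans θ⟩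

variable {R : Type u} [CommRing R] [IsNoetherianRing R] {A : Type u} [CommRing A] [HopfAlgebra R A]

/-- A group of multiplicative type over a Noetherian complete ring, isotrivial modulo `I`, is
isotrivial. -/
theorem isIsotrivial_of_adic (hA : SGA3b.IsMultType R A) {I : Ideal R} [IsAdicComplete I R]
    (h : SGA3b.IsIsotrivial (R ⧸ I) ((R ⧸ I) ⊗[R] A)) : SGA3b.IsIsotrivial R A := by
  classical
  obtain ⟨R₀, _, _, _, _, hff₀, hd⟩ := h
  obtain ⟨C, _, _, het, hfin, ⟨θ⟩⟩ := exists_finite_etale_lift R I R₀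
  haveI := hff₀
  haveI : Module.FaithfullyFlat R C := by
    refine Module.FaithfullyFlat.of_comap_surjective fun p => ?_
    obtain ⟨m, hm, hpm⟩ := Ideal.exists_le_maximal p.asIdeal p.isPrime.ne_top
    have hIm : I ≤ m := (IsAdicComplete.le_jacobson_bot I).trans (sInf_le ⟨bot_le, hm⟩)
    obtain ⟨q, hq⟩ : (⟨m, hm.isPrime⟩ : PrimeSpectrum R) ∈
        Set.range (PrimeSpectrum.comap (Ideal.Quotient.mk I)) := by
      rw [range_comap_of_surjective _ _ Ideal.Quotient.mk_surjective]
      simpa [Ideal.mk_ker] using hIm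
    obtain ⟨w, hw⟩ := PrimeSpectrum.comap_surjective_of_faithfullyFlat (A := R ⧸ I) (B := R₀) q
    letI : Algebra R R₀ := ((algebraMap (R ⧸ I) R₀).comp (Ideal.Quotient.mk I)).toAlgebra
    haveI : IsScalarTower R (R ⧸ I) R₀ := IsScalarTower.of_algebraMap_eq fun _ => rfl
    let ψ : C →ₐ[R] R₀ := ((θ : (R ⧸ I) ⊗[R] C →ₐ[R ⧸ I] R₀).restrictScalars R).comp
      (Algebra.TensorProduct.includeRight : C →ₐ[R] (R ⧸ I) ⊗[R] C)
    haveI : Algebra.HasGoingDown R C := inferInstance
    have hmem : PrimeSpectrum.comap (algebraMap R C) (PrimeSpectrum.comap ψ.toRingHom w) =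
        ⟨m, hm.isPrime⟩ := by
      rw [← PrimeSpectrum.comap_comp_apply, ← hq, ← hw, ← PrimeSpectrum.comap_comp_apply]
      exact congrArg (fun f => PrimeSpectrum.comap f w) ψ.comp_algebraMap
    have hgen := (Algebra.HasGoingDown.iff_generalizingMap_primeSpectrumComap (R := R) (S := C)).mp
      inferInstance
    have hspec : p ⤳ PrimeSpectrum.comap (algebraMap R C) (PrimeSpectrum.comap ψ.toRingHom w) := by
      rw [hmem, ← PrimeSpectrum.le_iff_specializes]
      exact hpm
    obtain ⟨a, -, ha⟩ := hgen hspec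
    exact ⟨a, ha⟩
  haveI : IsAdicComplete (I.map (algebraMap R C)) C := by
    haveI := Groth.Agent.S9405.isAdicComplete_of_finite I C
    exact
      { toIsHausdorff := IsHausdorff.map_algebraMap_iff.2 inferInstance
        toIsPrecomplete := IsPrecomplete.map_algebraMap_iff.2 inferInstance }
  refine ⟨C, inferInstance, inferInstance, het, hfin, inferInstance, ?_⟩
  refine isDiag_of_adic (R := C) (A := C ⊗[R] A) (isMultType_baseChange hA)
    (I := I.map (algebraMap R C)) ?_
  let Cq := C ⧸ I.map (algebraMap R C)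
  letI : Algebra R R₀ := ((algebraMap (R ⧸ I) R₀).comp (Ideal.Quotient.mk I)).toAlgebra
  haveI : IsScalarTower R (R ⧸ I) R₀ := IsScalarTower.of_algebraMap_eq fun _ => rfl
  let ε : R₀ →ₐ[R] Cq :=
    ((Algebra.TensorProduct.quotIdealMapEquivQuotTensor C I).symm.toAlgHom.restrictScalars R).comp
      (θ.symm.toAlgHom.restrictScalars R)
  letI : Algebra R₀ Cq := ε.toRingHom.toAlgebra
  haveI : IsScalarTower R R₀ Cq := IsScalarTower.of_algebraMap_eq fun r => (ε.commutes r).symm
  refine isDiag_of_bialgEquiv (cancelBialg R C Cq A).symm ?_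
  exact isDiag_of_tower (R' := R₀) (isDiag_of_bialgEquiv (cancelBialg R (R ⧸ I) R₀ A) hd)

end Groth.L25.Char
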