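import Groth.Agent.L25.Char.Integral
import Groth.Agent.L25.Char.HomLift
import Mathlib.RingTheory.Smooth.Basic
import Mathlib.RingTheory.Bialgebra.Convolution
import Mathlib.RingTheory.HopfAlgebra.Convolution

/-!
# Homomorphisms from a group of multiplicative type to a smooth group lift
-/

set_option autoImplicit false

universe u

open TensorProduct WithConv

namespace Groth.L25.Char

open Groth.L25.MultType

variable {R : Type u} [CommRing R] {C : Type u} [CommRing C] [HopfAlgebra R C]

/-- Push forward in the convolution algebra. -/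
noncomputable def push {T T' : Type u} [CommRing T] [Algebra R T] [CommRing T'] [Algebra R T']
    (g : T →ₐ[R] T') (h : WithConv (C →ₗ[R] T)) : WithConv (C →ₗ[R] T') :=
  toConv (g.toLinearMap ∘ₗ h.ofConv)

section push

variable {T T' T'' : Type u} [CommRing T] [Algebra R T] [CommRing T'] [Algebra R T'] [CommRing T'']
  [Algebra R T''] (g : T →ₐ[R] T') (g' : T' →ₐ[R] T'') (h k : WithConv (C →ₗ[R] T))

theorem push_apply (c : C) : (push g h).ofConv c = g (h.ofConv c) := rfl

theorem push_push : push g' (push g h) = push (g'.comp g) h := rfl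

theorem push_add : push g (h + k) = push g h + push g k :=
  WithConv.ext (LinearMap.ext fun c => map_add g (h.ofConv c) (k.ofConv c))

theorem push_mul : push g (h * k) = push g h * push g k := by
  refine WithConv.ext (LinearMap.ext fun c => ?_)
  simp only [push, LinearMap.convMul_def, LinearMap.comp_apply, WithConv.ofConv_toConv]
  induction Coalgebra.comul (R := R) c using TensorProduct.induction_on with
  | zero => simp
  | add p q hp hq => simp only [map_add, hp, hq]
  | tmul p q => simp

theorem push_one : push g (1 : WithConv (C →ₗ[R] T)) = 1 :=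
  WithConv.ext (LinearMap.ext fun c => g.commutes _)

/-- Values in the extension of the ideal `J`. -/
def InI (J : Ideal R) (h : WithConv (C →ₗ[R] T)) : Prop :=
  ∀ c, h.ofConv c ∈ J.map (algebraMap R T)

variable {J : Ideal R}

theorem InI.push {g : T →ₐ[R] T'} {h : WithConv (C →ₗ[R] T)} (hh : InI J h) :
    InI J (push g h) := fun c => by
  rw [push_apply]
  have h1 := Ideal.mem_map_of_mem (g : T →+* T') (hh c)
  rwa [Ideal.map_map (algebraMap R T) (g : T →+* T') (I := J),
    show (g : T →+* T').comp (algebraMap R T) = algebraMap R T' from g.comp_algebraMap] at h1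

theorem InI.add {h k : WithConv (C →ₗ[R] T)} (hh : InI J h) (hk : InI J k) : InI J (h + k) :=
  fun c => add_mem (hh c) (hk c)

theorem InI.sub {h k : WithConv (C →ₗ[R] T)} (hh : InI J h) (hk : InI J k) : InI J (h - k) :=
  fun c => sub_mem (hh c) (hk c)

theorem InI.mul_right {h : WithConv (C →ₗ[R] T)} (hh : InI J h) (k : WithConv (C →ₗ[R] T)) :
    InI J (h * k) := fun c => by
  simp only [LinearMap.convMul_def, LinearMap.comp_apply, WithConv.ofConv_toConv]
  induction Coalgebra.comul (R := R) c using TensorProduct.induction_on with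
  | zero => simp
  | add p q hp hq => rw [map_add, map_add]; exact add_mem hp hq
  | tmul p q =>
    rw [TensorProduct.map_tmul, LinearMap.mul'_apply]
    exact Ideal.mul_mem_right _ _ (hh p)

theorem InI.mul_left {h : WithConv (C →ₗ[R] T)} (hh : InI J h) (k : WithConv (C →ₗ[R] T)) :
    InI J (k * h) := fun c => by
  simp only [LinearMap.convMul_def, LinearMap.comp_apply, WithConv.ofConv_toConv]
  induction Coalgebra.comul (R := R) c using TensorProduct.induction_on with
  | zero => simp
  | add p q hp hq => rw [map_add, map_add]; exact add_mem hp hq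
  | tmul p q =>
    rw [TensorProduct.map_tmul, LinearMap.mul'_apply]
    exact Ideal.mul_mem_left _ _ (hh q)

theorem mul_eq_zero_of_mem (hJ : J * J = ⊥) {x y : T} (hx : x ∈ J.map (algebraMap R T))
    (hy : y ∈ J.map (algebraMap R T)) : x * y = 0 := by
  have h1 := Ideal.mul_mem_mul hx hy
  rwa [← Ideal.map_mul, hJ, Ideal.map_bot, Ideal.mem_bot] at h1

theorem InI.mul_eq_zero (hJ : J * J = ⊥) {h k : WithConv (C →ₗ[R] T)} (hh : InI J h)
    (hk : InI J k) : h * k = 0 := by
  refine WithConv.ext (LinearMap.ext fun c => ?_)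
  simp only [LinearMap.convMul_def, LinearMap.comp_apply, WithConv.ofConv_toConv]
  induction Coalgebra.comul (R := R) c using TensorProduct.induction_on with
  | zero => simp
  | add p q hp hq => rw [map_add, map_add, hp, hq]; simp
  | tmul p q =>
    rw [TensorProduct.map_tmul, LinearMap.mul'_apply]
    exact mul_eq_zero_of_mem hJ (hh p) (hk q)

/-- An algebra map as an element of the convolution algebra. -/
noncomputable def lin (f : C →ₐ[R] T) : WithConv (C →ₗ[R] T) := toConv f.toLinearMap

theorem lin_comp (f : C →ₐ[R] T) : lin (g.comp f) = push g (lin f) := rfl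

theorem lin_mul (f f' : C →ₐ[R] T) :
    lin (toConv f * toConv f').ofConv = lin f * lin f' :=
  AlgHom.toLinearMap_convMul (toConv f) (toConv f')

theorem push_inv_mul (f : C →ₐ[R] T) :
    push g (lin (f.comp (HopfAlgebra.antipodeAlgHom R C))) * push g (lin f) = 1 := by
  rw [← push_mul]
  have h1 : lin (f.comp (HopfAlgebra.antipodeAlgHom R C)) =
      push f (toConv (HopfAlgebra.antipode R (A := C))) := rfl
  have h2 : lin f = push f (toConv (LinearMap.id : C →ₗ[R] C)) := rfl
  rw [h1, h2, ← push_mul f, LinearMap.antipode_mul_id, push_one, push_one]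

theorem push_mul_inv (f : C →ₐ[R] T) :
    push g (lin f) * push g (lin (f.comp (HopfAlgebra.antipodeAlgHom R C))) = 1 := by
  rw [← push_mul]
  have h1 : lin (f.comp (HopfAlgebra.antipodeAlgHom R C)) =
      push f (toConv (HopfAlgebra.antipode R (A := C))) := rfl
  have h2 : lin f = push f (toConv (LinearMap.id : C →ₗ[R] C)) := rfl
  rw [h1, h2, ← push_mul f, LinearMap.id_mul_antipode, push_one, push_one]

end push

section Step

variable {A : Type u} [CommRing A] [HopfAlgebra R A]

/-- Integration of the last variable. -/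
noncomputable def intL (l : A →ₗ[R] R) (T : Type u) [CommRing T] [Algebra R T] :
    T ⊗[R] A →ₗ[R] T :=
  (TensorProduct.rid R T).toLinearMap ∘ₗ l.lTensor T

theorem intL_tmul (l : A →ₗ[R] R) (T : Type u) [CommRing T] [Algebra R T] (t : T) (a : A) :
    intL l T (t ⊗ₜ a) = l a • t := by
  simp [intL]

theorem intL_mem (l : A →ₗ[R] R) {T : Type u} [CommRing T] [Algebra R T] {J : Ideal R}
    {x : T ⊗[R] A} (hx : x ∈ J.map (algebraMap R (T ⊗[R] A))) :
    intL l T x ∈ J.map (algebraMap R T) := by
  have h1 : x ∈ J • (⊤ : Submodule R (T ⊗[R] A)) := by rw [Ideal.smul_top_eq_map]; exact hx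
  refine Submodule.smul_induction_on h1 (fun r hr n _ => ?_)
    (fun p q hp hq => by rw [map_add]; exact add_mem hp hq)
  rw [map_smul, Algebra.smul_def]
  exact Ideal.mul_mem_right _ _ (Ideal.mem_map_of_mem _ hr)

/-- Integration of a cochain. -/
noncomputable def intC (l : A →ₗ[R] R) {T : Type u} [CommRing T] [Algebra R T]
    (h : WithConv (C →ₗ[R] T ⊗[R] A)) : WithConv (C →ₗ[R] T) :=
  toConv (intL l T ∘ₗ h.ofConv)

theorem intC_add (l : A →ₗ[R] R) {T : Type u} [CommRing T] [Algebra R T]
    (h k : WithConv (C →ₗ[R] T ⊗[R] A)) : intC l (h + k) = intC l h + intC l k :=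
  WithConv.ext (LinearMap.ext fun c => map_add (intL l T) (h.ofConv c) (k.ofConv c))

theorem intC_conj (l : A →ₗ[R] R) {T : Type u} [CommRing T] [Algebra R T]
    (a b : WithConv (C →ₗ[R] T)) (h : WithConv (C →ₗ[R] T ⊗[R] A)) :
    intC l (push Algebra.TensorProduct.includeLeft a * h *
      push Algebra.TensorProduct.includeLeft b) = a * intC l h * b := by
  have hmul : ∀ (s s' : T) (w : T ⊗[R] A),
      intL l T ((s ⊗ₜ[R] (1 : A)) * w * (s' ⊗ₜ[R] (1 : A))) = s * intL l T w * s' := by
    intro s s' w
    induction w using TensorProduct.induction_on with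
    | zero => simp
    | add p q hp hq => simp only [mul_add, add_mul, map_add, hp, hq]
    | tmul t x =>
      simp only [Algebra.TensorProduct.tmul_mul_tmul, intL_tmul, _root_.one_mul, _root_.mul_one,
        mul_smul_comm, smul_mul_assoc]
  refine WithConv.ext (LinearMap.ext fun c => ?_)
  simp only [intC, LinearMap.convMul_def, LinearMap.comp_apply, WithConv.ofConv_toConv]
  induction Coalgebra.comul (R := R) c using TensorProduct.induction_on with
  | zero => simp
  | add p q hp hq => simp only [map_add, hp, hq]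
  | tmul p q =>
    simp only [TensorProduct.map_tmul, LinearMap.mul'_apply, LinearMap.comp_apply]
    induction Coalgebra.comul (R := R) p using TensorProduct.induction_on with
    | zero => simp
    | add x y hx hy => simp only [map_add, add_mul, hx, hy]
    | tmul x y =>
      simp only [TensorProduct.map_tmul, LinearMap.mul'_apply, LinearMap.comp_apply, push,
        WithConv.ofConv_toConv, AlgHom.toLinearMap_apply, Algebra.TensorProduct.includeLeft_apply]
      exact hmul _ _ _

/-- A homomorphism lifts along a square zero ideal. -/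
theorem exists_lift_sq [Algebra.FormallySmooth R C] (hA : ∃ l : A →ₗ[R] R, IsInt l) {J : Ideal R}
    (hJ : J * J = ⊥) (φ' : (R ⧸ J) ⊗[R] C →ₐc[R ⧸ J] (R ⧸ J) ⊗[R] A) :
    ∃ φ : C →ₐc[R] A, ∀ c, φ' ((1 : R ⧸ J) ⊗ₜ c) = (1 : R ⧸ J) ⊗ₜ φ c := by
  obtain ⟨l, hl⟩ := hA
  have hQ : ∀ {T : Type u} [CommRing T] [Algebra R T] (t : T),
      Algebra.TensorProduct.quotIdealMapEquivQuotTensor T J (Ideal.Quotient.mk _ t) =
        (1 : R ⧸ J) ⊗ₜ t := by
    intro T _ _ t
    simp
  have hq : ∀ {T : Type u} [CommRing T] [Algebra R T] (t : T),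
      (1 : R ⧸ J) ⊗ₜ[R] t = 0 ↔ t ∈ J.map (algebraMap R T) := by
    intro T _ _ t
    rw [← hQ, map_eq_zero_iff _ (AlgEquiv.injective _), Ideal.Quotient.eq_zero_iff_mem]
  -- an algebra lift
  obtain ⟨f, hf⟩ : ∃ f : C →ₐ[R] A, ∀ c, φ' ((1 : R ⧸ J) ⊗ₜ c) = (1 : R ⧸ J) ⊗ₜ f c := by
    let K : Ideal A := J.map (algebraMap R A)
    have hK : IsNilpotent K := ⟨2, by
      rw [pow_two, ← Ideal.map_mul, hJ, Ideal.map_bot]; rfl⟩
    let Q := Algebra.TensorProduct.quotIdealMapEquivQuotTensor A J
    let g : C →ₐ[R] A ⧸ K := ((Q.symm.toAlgHom.restrictScalars R).comp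
      ((φ' : (R ⧸ J) ⊗[R] C →ₐ[R ⧸ J] (R ⧸ J) ⊗[R] A).restrictScalars R)).comp
        Algebra.TensorProduct.includeRight
    obtain ⟨f, hf⟩ := Algebra.FormallySmooth.exists_lift K hK g
    refine ⟨f, fun c => ?_⟩
    have h1 := congrArg Q (DFunLike.congr_fun hf c)
    simp only [AlgHom.comp_apply, Ideal.Quotient.mkₐ_eq_mk] at h1
    rw [show Q (g c) = φ' ((1 : R ⧸ J) ⊗ₜ c) from Q.apply_symm_apply _] at h1
    rw [← h1]
    exact hQ (f c)
  let d : A →ₐ[R] A ⊗[R] A := Bialgebra.comulAlgHom R A
  let p1 : A →ₐ[R] A ⊗[R] A := Algebra.TensorProduct.includeLeft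
  let p2 : A →ₐ[R] A ⊗[R] A := Algebra.TensorProduct.includeRight
  let fi := f.comp (HopfAlgebra.antipodeAlgHom R C)
  let M := push d (lin f)
  let P1 := push p1 (lin f)
  let P2 := push p2 (lin f)
  let P1' := push p1 (lin fi)
  let P2' := push p2 (lin fi)
  let D := M - P1 * P2
  have hMD : M = D + P1 * P2 := (sub_add_cancel M (P1 * P2)).symm
  have hP1 : P1 * P1' = 1 := push_mul_inv p1 f
  have hP2 : P2 * P2' = 1 := push_mul_inv p2 f
  have hP1' : P1' * P1 = 1 := push_inv_mul p1 f
  have hP2' : P2' * P2 = 1 := push_inv_mul p2 f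
  have hD : InI J D := fun c => by
    refine (hq _).1 ?_
    rw [show D.ofConv c = M.ofConv c - (P1 * P2).ofConv c from rfl, TensorProduct.tmul_sub,
      sub_eq_zero]
    let Rn := R ⧸ J
    have h1 := congrArg (toFlat R A Rn) (CoalgHomClass.map_comp_comul_apply φ' ((1 : Rn) ⊗ₜ c))
    rw [hf, toFlat_comul] at h1
    have h2 : ∀ y : C ⊗[R] C, toFlat R A Rn (TensorProduct.map
        (φ' : Rn ⊗[R] C →ₐc[Rn] Rn ⊗[R] A).toLinearMap
        (φ' : Rn ⊗[R] C →ₐc[Rn] Rn ⊗[R] A).toLinearMap
        (AlgebraTensorModule.tensorTensorTensorComm R Rn R Rn Rn Rn C C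
          (((1 : Rn) ⊗ₜ (1 : Rn)) ⊗ₜ y))) =
        (1 : Rn) ⊗ₜ LinearMap.mul' R (A ⊗[R] A)
          (TensorProduct.map (p1.toLinearMap ∘ₗ f.toLinearMap) (p2.toLinearMap ∘ₗ f.toLinearMap) y) := by
      intro y
      induction y using TensorProduct.induction_on with
      | zero => simp
      | add p q hp hq => simp only [TensorProduct.tmul_add, map_add, hp, hq]
      | tmul p q =>
        simp only [AlgebraTensorModule.tensorTensorTensorComm_tmul, TensorProduct.map_tmul]
        change toFlat R A Rn (φ' ((1 : Rn) ⊗ₜ p) ⊗ₜ φ' ((1 : Rn) ⊗ₜ q)) = _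
        rw [hf, hf, toFlat_tmul]
        simp [inl, inr, p1, p2, Algebra.TensorProduct.tmul_mul_tmul]
    rw [TensorProduct.comul_tmul, CommSemiring.comul_apply] at h1
    refine Eq.trans ?_ ((h2 _).symm.trans h1).symm |>.trans ?_
    · simp [M, push, lin, d, comulT, Rn]
    · rfl
  obtain ⟨z, hzdef⟩ : ∃ z, z = D * (P2' * P1') := ⟨_, rfl⟩
  have hz : InI J z := hzdef ▸ hD.mul_right _
  have hDz : D = z * (P1 * P2) := by
    calc D = D * (P2' * ((P1' * P1) * P2)) := by
          rw [hP1', _root_.one_mul, hP2', _root_.mul_one]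
      _ = z * (P1 * P2) := by simp only [hzdef, mul_assoc]
  -- the cocycle identity
  let p12 : A ⊗[R] A →ₐ[R] ((A ⊗[R] A) ⊗[R] A) := Algebra.TensorProduct.includeLeft
  let p3 : A →ₐ[R] ((A ⊗[R] A) ⊗[R] A) := Algebra.TensorProduct.includeRight
  let p23 : A ⊗[R] A →ₐ[R] ((A ⊗[R] A) ⊗[R] A) := Algebra.TensorProduct.map p2 (AlgHom.id R A)
  let m12 : A ⊗[R] A →ₐ[R] ((A ⊗[R] A) ⊗[R] A) := Algebra.TensorProduct.map d (AlgHom.id R A)
  let m23 : A ⊗[R] A →ₐ[R] ((A ⊗[R] A) ⊗[R] A) := (Algebra.TensorProduct.assoc R R R A A A).symm.toAlgHom.comp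
    (Algebra.TensorProduct.map (AlgHom.id R A) d)
  let U1 := push p12 P1
  let U1' := push p12 P1'
  let U2 := push p12 P2
  let U3 := push p3 (lin f)
  let U3' := push p3 (lin fi)
  have hU1 : U1' * U1 = 1 := by
    change push p12 P1' * push p12 P1 = 1
    rw [← push_mul, hP1', push_one]
  have e1 : m12.comp p1 = p12.comp d := AlgHom.ext fun a => by simp [m12, p1, p12, d]
  have e2 : m12.comp p2 = p3 := AlgHom.ext fun a => by simp [m12, p2, p3, Algebra.TensorProduct.one_def]
  have e3 : m23.comp p1 = p12.comp p1 := AlgHom.ext fun a => by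
    simp [m23, p1, p12, Algebra.TensorProduct.one_def]
  have e4 : m23.comp p2 = p23.comp d := AlgHom.ext fun a => by
    simp only [m23, p2, AlgHom.comp_apply, Algebra.TensorProduct.includeRight_apply,
      Algebra.TensorProduct.map_tmul, map_one, AlgHom.id_apply, p23]
    generalize d a = w
    induction w using TensorProduct.induction_on with
    | zero => simp
    | add p q hp hq => simp only [TensorProduct.tmul_add, map_add, hp, hq]
    | tmul x y => simp
  have e5 : p23.comp p1 = p12.comp p2 := AlgHom.ext fun a => by simp [p23, p1, p12, p2]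
  have e6 : p23.comp p2 = p3 := AlgHom.ext fun a => by
    simp [p23, p2, p3, Algebra.TensorProduct.one_def]
  have e7 : m12.comp d = m23.comp d := AlgHom.ext fun a => by
    have h1 : ∀ w, (m12 w : ((A ⊗[R] A) ⊗[R] A)) = (Coalgebra.comul (R := R) (A := A)).rTensor A w := by
      intro w
      induction w using TensorProduct.induction_on with
      | zero => simp
      | add p q hp hq => simp only [map_add, hp, hq]
      | tmul x y => simp [m12, d]
    have h2 : ∀ w, (m23 w : ((A ⊗[R] A) ⊗[R] A)) = (TensorProduct.assoc R A A A).symm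
        ((Coalgebra.comul (R := R) (A := A)).lTensor A w) := by
      intro w
      induction w using TensorProduct.induction_on with
      | zero => simp
      | add p q hp hq => simp only [map_add, hp, hq]
      | tmul x y =>
        simp only [m23, AlgHom.comp_apply, Algebra.TensorProduct.map_tmul, AlgHom.id_apply, d,
          LinearMap.lTensor_tmul, Bialgebra.comulAlgHom_apply]
        induction Coalgebra.comul (R := R) y using TensorProduct.induction_on with
        | zero => simp
        | add p q hp hq => simp only [TensorProduct.tmul_add, map_add, hp, hq]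
        | tmul p q => simp
    change m12 (d a) = m23 (d a)
    rw [h1, h2, show d a = Coalgebra.comul (R := R) a from rfl, ← Coalgebra.coassoc_apply,
      LinearEquiv.symm_apply_apply]
  have hU : push p12 M = push p12 z * (U1 * U2) + U1 * U2 := by
    rw [hMD, push_add, hDz, push_mul, push_mul]
  have hV : push p23 M = push p23 z * (U2 * U3) + U2 * U3 := by
    rw [hMD, push_add, hDz, push_mul, push_mul]
    simp only [P1, P2, U2, U3, push_push, e5, e6]
  have hX : push m12 z * (U1 * U2 * U3) + push p12 z * (U1 * U2 * U3) =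
      push m23 z * (U1 * U2 * U3) + U1 * push p23 z * U1' * (U1 * U2 * U3) := by
    have hm : push m12 M = push m23 M := by
      change push m12 (push d (lin f)) = push m23 (push d (lin f))
      rw [push_push, push_push, e7]
    have hl' : push m12 M = push m12 z * (U1 * U2 * U3) + push p12 z * (U1 * U2 * U3) +
        U1 * U2 * U3 := by
      rw [hMD, push_add, hDz, push_mul, push_mul,
        show push m12 P1 = push p12 M by simp only [P1, M, push_push, e1],
        show push m12 P2 = U3 by simp only [P2, U3, push_push, e2], hU, add_mul, mul_add,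
        ← mul_assoc (push m12 z) _ U3, ← mul_assoc (push m12 z) (push p12 z),
        InI.mul_eq_zero hJ hz.push hz.push]
      simp only [zero_mul, zero_add, mul_assoc, add_assoc]
    have hr' : push m23 M = push m23 z * (U1 * U2 * U3) +
        U1 * push p23 z * U1' * (U1 * U2 * U3) + U1 * U2 * U3 := by
      rw [hMD, push_add, hDz, push_mul, push_mul,
        show push m23 P1 = U1 by simp only [P1, U1, push_push, e3],
        show push m23 P2 = push p23 M by simp only [P2, M, push_push, e4], hV, mul_add, mul_add,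
        ← mul_assoc U1 (push p23 z), ← mul_assoc (push m23 z) (U1 * push p23 z),
        InI.mul_eq_zero hJ hz.push (hz.push.mul_left U1)]
      have h1 : U1 * push p23 z * U1' * (U1 * U2 * U3) = U1 * push p23 z * (U2 * U3) := by
        simp only [mul_assoc]
        rw [← mul_assoc U1' U1, hU1, _root_.one_mul]
      rw [h1]
      simp only [zero_mul, zero_add, mul_assoc, add_assoc]
    rw [hl', hr'] at hm
    exact add_right_cancel hm
  let V := push p3 (lin fi) * (push p12 P2' * push p12 P1')
  have hUV : U1 * U2 * U3 * V = 1 := by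
    calc U1 * U2 * U3 * V = U1 * (U2 * (U3 * push p3 (lin fi)) * push p12 P2') * push p12 P1' := by
          simp only [V, mul_assoc]
      _ = 1 := by
        rw [push_mul_inv p3 f, _root_.mul_one]
        change push p12 P1 * (push p12 P2 * push p12 P2') * push p12 P1' = 1
        rw [← push_mul, hP2, push_one, _root_.mul_one, ← push_mul, hP1, push_one]
  have hcoc : push m12 z + push p12 z = push m23 z + U1 * push p23 z * U1' := by
    have h1 := congrArg (fun x => x * V) hX
    simp only [add_mul] at h1
    simpa only [mul_assoc _ (U1 * U2 * U3) V, hUV, _root_.mul_one] using h1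
  -- integrate
  let w := intC l (T := A) z
  have hI1 : intC l (push m12 z) = push d w := WithConv.ext (LinearMap.ext fun c => by
    change intL l (A ⊗[R] A) (m12 (z.ofConv c)) = d (intL l A (z.ofConv c))
    generalize z.ofConv c = t
    induction t using TensorProduct.induction_on with
    | zero => simp
    | add p q hp hq => simp only [map_add, hp, hq]
    | tmul x y => simp [m12, intL_tmul])
  have hI2 : intC l (push p12 z) = z := WithConv.ext (LinearMap.ext fun c => by
    change intL l (A ⊗[R] A) ((z.ofConv c) ⊗ₜ (1 : A)) = z.ofConv c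
    rw [intL_tmul, hl.1, one_smul])
  have hI3 : intC l (push m23 z) = push p1 w := WithConv.ext (LinearMap.ext fun c => by
    change intL l (A ⊗[R] A) (m23 (z.ofConv c)) = p1 (intL l A (z.ofConv c))
    generalize z.ofConv c = t
    induction t using TensorProduct.induction_on with
    | zero => simp
    | add p q hp hq => simp only [map_add, hp, hq]
    | tmul x y =>
      have h1 : ∀ v : A ⊗[R] A, intL l (A ⊗[R] A)
          ((Algebra.TensorProduct.assoc R R R A A A).symm (x ⊗ₜ v)) =
            x ⊗ₜ TensorProduct.lid R A (intMap l v) := by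
        intro v
        induction v using TensorProduct.induction_on with
        | zero => simp
        | add p q hp hq => simp only [TensorProduct.tmul_add, map_add, hp, hq]
        | tmul p q => simp [intL_tmul, intMap_tmul, TensorProduct.tmul_smul]
      simp only [m23, AlgHom.comp_apply, Algebra.TensorProduct.map_tmul, AlgHom.id_apply,
        AlgEquiv.coe_toAlgHom, d, Bialgebra.comulAlgHom_apply]
      rw [h1, hl.2, TensorProduct.lid_tmul, intL_tmul]
      simp [p1, TensorProduct.tmul_smul, TensorProduct.smul_tmul'])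
  have hI4 : intC l (U1 * push p23 z * U1') = P1 * push p2 w * P1' := by
    change intC l (push Algebra.TensorProduct.includeLeft P1 * push p23 z *
      push Algebra.TensorProduct.includeLeft P1') = _
    rw [intC_conj]
    refine congrArg (fun x => P1 * x * P1') (WithConv.ext (LinearMap.ext fun c => ?_))
    change intL l (A ⊗[R] A) (p23 (z.ofConv c)) = p2 (intL l A (z.ofConv c))
    generalize z.ofConv c = t
    induction t using TensorProduct.induction_on with
    | zero => simp
    | add p q hp hq => simp only [map_add, hp, hq]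
    | tmul x y => simp [p23, p2, intL_tmul, TensorProduct.tmul_smul]
  have hkey : push d w + z = push p1 w + P1 * push p2 w * P1' := by
    have h1 := congrArg (intC l) hcoc
    rwa [intC_add, intC_add, hI1, hI2, hI3, hI4] at h1
  have hw : InI J w := fun c => intL_mem l (hz c)
  -- `1 + w` is an algebra map
  have hzalg : ∀ c c', z.ofConv (c * c') = Coalgebra.counit (R := R) c • z.ofConv c' +
      Coalgebra.counit (R := R) c' • z.ofConv c := by
    intro c c'
    let Z : C →ₐ[R] A ⊗[R] A := (toConv (d.comp f) *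
      (toConv (p2.comp fi) * toConv (p1.comp fi))).ofConv
    have hZ : lin Z = 1 + z := by
      have h0 : lin Z = M * (P2' * P1') := by
        rw [show lin Z = lin (d.comp f) * lin ((toConv (p2.comp fi) * toConv (p1.comp fi)).ofConv)
          from lin_mul _ _, lin_mul]
        rfl
      rw [h0, hMD, add_mul]
      rw [show P1 * P2 * (P2' * P1') = 1 by
        rw [mul_assoc, ← mul_assoc P2 P2', hP2, _root_.one_mul, hP1]]
      rw [← hzdef]
      exact add_comm _ _
    have hZc : ∀ x, Z x = Coalgebra.counit (R := R) x • 1 + z.ofConv x := fun x => by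
      have := LinearMap.congr_fun (congrArg WithConv.ofConv hZ) x
      rw [← Algebra.algebraMap_eq_smul_one]
      exact this
    have h1 := map_mul Z c c'
    rw [hZc, hZc, hZc, Bialgebra.counit_mul] at h1
    have h2 : z.ofConv c * z.ofConv c' = 0 := mul_eq_zero_of_mem hJ (hz c) (hz c')
    rw [add_mul, mul_add, mul_add, h2, add_zero, smul_mul_assoc, _root_.one_mul, smul_smul,
      smul_mul_assoc, mul_smul_comm, _root_.one_mul, _root_.mul_one] at h1
    linear_combination h1
  have hz1 : z.ofConv 1 = 0 := by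
    have h1 := hzalg 1 1
    rw [_root_.mul_one, Bialgebra.counit_one, one_smul] at h1
    linear_combination -h1
  let W : C →ₐ[R] A := AlgHom.ofLinearMap
    (((1 : WithConv (C →ₗ[R] A)) + w).ofConv)
    (by
      change algebraMap R A (Coalgebra.counit (R := R) (1 : C)) + intL l A (z.ofConv 1) = 1
      rw [hz1, map_zero, Bialgebra.counit_one, map_one, add_zero])
    (fun c c' => by
      have h2 : w.ofConv c * w.ofConv c' = 0 := mul_eq_zero_of_mem hJ (hw c) (hw c')
      change algebraMap R A (Coalgebra.counit (R := R) (c * c')) + intL l A (z.ofConv (c * c')) =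
        (algebraMap R A (Coalgebra.counit (R := R) c) + w.ofConv c) *
          (algebraMap R A (Coalgebra.counit (R := R) c') + w.ofConv c')
      rw [hzalg, map_add, map_smul, map_smul, Bialgebra.counit_mul, map_mul, Algebra.smul_def,
        Algebra.smul_def, show intL l A (z.ofConv c) = w.ofConv c from rfl,
        show intL l A (z.ofConv c') = w.ofConv c' from rfl]
      linear_combination -h2)
  let f' : C →ₐ[R] A := (toConv W * toConv f).ofConv
  have hf' : lin f' = (1 + w) * lin f := lin_mul W f
  have hlaw : push d (lin f') = push p1 (lin f') * push p2 (lin f') := by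
    rw [hf', push_mul, push_mul, push_mul, push_add, push_add, push_add, push_one, push_one,
      push_one]
    change (1 + push d w) * M = (1 + push p1 w) * P1 * ((1 + push p2 w) * P2)
    have h1 : (1 + push d w) * M = P1 * P2 + (push d w + z) * (P1 * P2) := by
      rw [hMD, add_mul, _root_.one_mul, mul_add, hDz,
        ← mul_assoc (push d w) z, InI.mul_eq_zero hJ hw.push hz, zero_mul, zero_add, add_mul]
      abel
    have h2 : (1 + push p1 w) * P1 * ((1 + push p2 w) * P2) =
        P1 * P2 + (push p1 w + P1 * push p2 w * P1') * (P1 * P2) := by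
      have h3 : push p1 w * P1 * (push p2 w * P2) = 0 := by
        rw [mul_assoc, ← mul_assoc P1 (push p2 w) P2, ← mul_assoc (push p1 w),
          InI.mul_eq_zero hJ hw.push (hw.push.mul_left P1), zero_mul]
      have h4 : P1 * push p2 w * P1' * (P1 * P2) = P1 * (push p2 w * P2) := by
        simp only [mul_assoc]
        rw [← mul_assoc P1' P1, hP1', _root_.one_mul]
      rw [add_mul (1 : WithConv (C →ₗ[R] A ⊗[R] A)) (push p1 w) P1, _root_.one_mul,
        add_mul (1 : WithConv (C →ₗ[R] A ⊗[R] A)) (push p2 w) P2, _root_.one_mul,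
        add_mul, mul_add, mul_add, h3, add_mul, h4]
      simp only [mul_assoc]
      abel
    rw [h1, h2, hkey]
  refine ⟨BialgHom.ofAlgHom f' (AlgHom.ext fun c => ?_) (AlgHom.ext fun c => ?_), fun c => ?_⟩
  · let ee : A ⊗[R] A →ₐ[R] R := Algebra.TensorProduct.lift (Bialgebra.counitAlgHom R A)
      (Bialgebra.counitAlgHom R A) fun _ _ => Commute.all _ _
    let e := push (Bialgebra.counitAlgHom R A) (lin f')
    have g1 : ee.comp d = Bialgebra.counitAlgHom R A := AlgHom.ext fun a => by
      have key : ∀ v : A ⊗[R] A, ee v = Coalgebra.counit (R := R)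
          (TensorProduct.lid R A ((Coalgebra.counit (R := R) (A := A)).rTensor A v)) := by
        intro v
        induction v using TensorProduct.induction_on with
        | zero => simp
        | add p q hp hq => simp only [map_add, hp, hq]
        | tmul p q => simp [ee]
      change ee (Coalgebra.comul a) = _
      rw [key, Coalgebra.rTensor_counit_comul]
      simp
    have g2 : ee.comp p1 = Bialgebra.counitAlgHom R A := AlgHom.ext fun a => by simp [ee, p1]
    have g3 : ee.comp p2 = Bialgebra.counitAlgHom R A := AlgHom.ext fun a => by simp [ee, p2]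
    have h1 := congrArg (push ee) hlaw
    rw [push_mul, push_push, push_push, push_push, g1, g2, g3] at h1
    have h2 : e = 1 := by
      have h3 := push_inv_mul (Bialgebra.counitAlgHom R A) f'
      calc e = _ * e * e := by rw [h3, _root_.one_mul]
        _ = _ * e := by rw [mul_assoc, ← h1]
        _ = 1 := h3
    exact LinearMap.congr_fun (congrArg WithConv.ofConv h2) c
  · change TensorProduct.map f'.toLinearMap f'.toLinearMap (Coalgebra.comul (R := R) c) =
      d (f' c)
    rw [show d (f' c) = (push d (lin f')).ofConv c from rfl, hlaw]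
    simp only [LinearMap.convMul_def, LinearMap.comp_apply, WithConv.ofConv_toConv, push, lin]
    induction Coalgebra.comul (R := R) c using TensorProduct.induction_on with
    | zero => simp
    | add p q hp hq => simp only [map_add, hp, hq]
    | tmul p q => simp [p1, p2]
  · rw [hf]
    refine (sub_eq_zero.1 ?_).symm
    rw [← TensorProduct.tmul_sub, hq]
    change (lin f').ofConv c - (lin f).ofConv c ∈ _
    rw [hf', add_mul, _root_.one_mul]
    change (lin f).ofConv c + (w * lin f).ofConv c - (lin f).ofConv c ∈ _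
    rw [add_sub_cancel_left]
    exact hw.mul_right _ c

end Step

/-- Homomorphisms from a group of multiplicative type to a smooth affine group lift along nilpotent
ideals. -/
theorem exists_smooth_lift (n : ℕ) : ∀ (R : Type u) [CommRing R] (I : Ideal R), I ^ (n + 1) = ⊥ →
    ∀ (A : Type u) [CommRing A] [HopfAlgebra R A], SGA3b.IsMultType R A →
    ∀ (C : Type u) [CommRing C] [HopfAlgebra R C] [Algebra.FormallySmooth R C]
      (φ₀ : (R ⧸ I) ⊗[R] C →ₐc[R ⧸ I] (R ⧸ I) ⊗[R] A),
      ∃ φ : C →ₐc[R] A, ∀ c, φ₀ ((1 : R ⧸ I) ⊗ₜ c) = (1 : R ⧸ I) ⊗ₜ φ c := by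
  induction n with
  | zero =>
    intro R _ I hI A _ _ hA C _ _ _ φ₀
    exact exists_lift_sq (exists_integral hA)
      (by rw [zero_add, pow_one] at hI; rw [hI, Ideal.bot_mul]) φ₀
  | succ n ih =>
    intro R _ I hI A _ _ hA C _ _ _ φ₀
    let J : Ideal R := I ^ (n + 1)
    have hJI : J ≤ I := Ideal.pow_le_self n.succ_ne_zero
    have hJ : J * J = ⊥ := by
      rw [← pow_add]
      exact le_bot_iff.1 ((Ideal.pow_le_pow_right (by omega)).trans hI.le)
    let Q := R ⧸ J
    let g : Q →ₐ[R] R ⧸ I := Ideal.Quotient.factorₐ R hJI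
    let K : Ideal Q := RingHom.ker g
    have hg : Function.Surjective g := fun y => by
      obtain ⟨r, rfl⟩ := Ideal.Quotient.mk_surjective y
      exact ⟨Ideal.Quotient.mk J r, rfl⟩
    have hK : K ^ (n + 1) = ⊥ := by
      refine le_bot_iff.1 ?_
      have hle : K ≤ I.map (Ideal.Quotient.mk J) := fun z hz => by
        obtain ⟨r, rfl⟩ := Ideal.Quotient.mk_surjective z
        exact Ideal.mem_map_of_mem _ (Ideal.Quotient.eq_zero_iff_mem.1 hz)
      refine (Ideal.pow_right_mono hle _).trans ?_
      rw [← Ideal.map_pow, Ideal.map_quotient_self]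
    let ψ : (Q ⧸ K) ≃ₐ[R] R ⧸ I := Ideal.quotientKerAlgEquivOfSurjective hg
    letI : Algebra (R ⧸ I) (Q ⧸ K) := (ψ.symm : (R ⧸ I) →ₐ[R] Q ⧸ K).toRingHom.toAlgebra
    haveI : IsScalarTower R (R ⧸ I) (Q ⧸ K) :=
      IsScalarTower.of_algebraMap_eq fun r => (ψ.symm.commutes r).symm
    let f₀ : (Q ⧸ K) ⊗[Q] (Q ⊗[R] C) →ₐc[Q ⧸ K] (Q ⧸ K) ⊗[Q] (Q ⊗[R] A) :=
      ((cancelBialg R Q (Q ⧸ K) A).symm : (Q ⧸ K) ⊗[R] A →ₐc[Q ⧸ K] (Q ⧸ K) ⊗[Q] (Q ⊗[R] A)).comp
        ((bcHom (Q ⧸ K) φ₀).comp
          (cancelBialg R Q (Q ⧸ K) C : (Q ⧸ K) ⊗[Q] (Q ⊗[R] C) →ₐc[Q ⧸ K] (Q ⧸ K) ⊗[R] C))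
    obtain ⟨F, hF⟩ := ih Q K hK (Q ⊗[R] A) (isMultType_baseChange hA) (Q ⊗[R] C) f₀
    obtain ⟨φ, hφ⟩ := exists_lift_sq (exists_integral hA) hJ F
    refine ⟨φ, fun c => ?_⟩
    have h1 := congrArg (cancelBialg R Q (Q ⧸ K) A) (hF ((1 : Q) ⊗ₜ c))
    simp only [f₀, BialgHom.comp_apply, BialgEquiv.coe_toBialgHom, BialgEquiv.apply_symm_apply] at h1
    rw [cancelBialg_tmul, one_smul, bcHom_tmul, hφ, cancelBialg_tmul, one_smul] at h1
    have h3 := congrArg (mapT R A (ψ : (Q ⧸ K) →ₐ[R] R ⧸ I)) h1
    rw [mapT_mapT,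
      show (ψ : (Q ⧸ K) →ₐ[R] R ⧸ I).comp (IsScalarTower.toAlgHom R (R ⧸ I) (Q ⧸ K)) =
        AlgHom.id R (R ⧸ I) from AlgHom.ext fun t => ψ.apply_symm_apply t] at h3
    simpa [mapT] using h3

end Groth.L25.Char
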