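import Groth.Agent.L25.Char.AdicHom
import Groth.Agent.L25.Char.SmoothLift

/-!
# Homomorphisms to smooth groups over adically complete rings
-/

set_option autoImplicit false

universe u

open TensorProduct

namespace Groth.L25.Char

open Groth.L25.MultType

variable {R : Type u} [CommRing R] {B : Type u} [CommRing B] [HopfAlgebra R B] {C : Type u}
  [CommRing C] [HopfAlgebra R C]

/-- A homomorphism lifts along a square zero surjection of algebras. -/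
theorem step_lift [Algebra.FormallySmooth R C] (hB : SGA3b.IsMultType R B) {Q Q₀ : Type u}
    [CommRing Q] [Algebra R Q] [CommRing Q₀] [Algebra R Q₀] (g : Q →ₐ[R] Q₀)
    (hg : Function.Surjective g) (hker : RingHom.ker g * RingHom.ker g = ⊥)
    (φ₀ : Q₀ ⊗[R] C →ₐc[Q₀] Q₀ ⊗[R] B) :
    ∃ F : Q ⊗[R] C →ₐc[Q] Q ⊗[R] B,
      ∀ c, mapT R B g (F ((1 : Q) ⊗ₜ c)) = φ₀ ((1 : Q₀) ⊗ₜ c) := by
  let K : Ideal Q := RingHom.ker g
  let ψ : (Q ⧸ K) ≃ₐ[R] Q₀ := Ideal.quotientKerAlgEquivOfSurjective hg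
  letI : Algebra Q₀ (Q ⧸ K) := (ψ.symm : Q₀ →ₐ[R] Q ⧸ K).toRingHom.toAlgebra
  haveI : IsScalarTower R Q₀ (Q ⧸ K) :=
    IsScalarTower.of_algebraMap_eq fun r => (ψ.symm.commutes r).symm
  let f₀ : (Q ⧸ K) ⊗[Q] (Q ⊗[R] C) →ₐc[Q ⧸ K] (Q ⧸ K) ⊗[Q] (Q ⊗[R] B) :=
    ((cancelBialg R Q (Q ⧸ K) B).symm : (Q ⧸ K) ⊗[R] B →ₐc[Q ⧸ K] (Q ⧸ K) ⊗[Q] (Q ⊗[R] B)).comp
      ((bcHom (Q ⧸ K) φ₀).comp
        (cancelBialg R Q (Q ⧸ K) C : (Q ⧸ K) ⊗[Q] (Q ⊗[R] C) →ₐc[Q ⧸ K] (Q ⧸ K) ⊗[R] C))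
  obtain ⟨F, hF⟩ := exists_lift_sq (R := Q) (exists_integral (isMultType_baseChange hB)) hker f₀
  refine ⟨F, fun c => ?_⟩
  have h1 := congrArg (cancelBialg R Q (Q ⧸ K) B) (hF ((1 : Q) ⊗ₜ c))
  simp only [f₀, BialgHom.comp_apply, BialgEquiv.coe_toBialgHom, BialgEquiv.apply_symm_apply] at h1
  rw [cancelBialg_tmul, one_smul, bcHom_tmul] at h1
  have h2 : ∀ w : Q ⊗[R] B, cancelBialg R Q (Q ⧸ K) B ((1 : Q ⧸ K) ⊗ₜ w) =
      mapT R B (Ideal.Quotient.mkₐ R K) w := by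
    intro w
    induction w using TensorProduct.induction_on with
    | zero => simp
    | add p q hp hq => simp only [TensorProduct.tmul_add, map_add, hp, hq]
    | tmul r b => rw [cancelBialg_tmul, Algebra.smul_def, _root_.mul_one]; rfl
  rw [h2] at h1
  have h3 := congrArg (mapT R B (ψ : (Q ⧸ K) →ₐ[R] Q₀)) h1
  rw [mapT_mapT, mapT_mapT] at h3
  rw [show g = (ψ : (Q ⧸ K) →ₐ[R] Q₀).comp (Ideal.Quotient.mkₐ R K) from
    AlgHom.ext fun t => rfl, ← h3,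
    show (ψ : (Q ⧸ K) →ₐ[R] Q₀).comp (IsScalarTower.toAlgHom R Q₀ (Q ⧸ K)) = AlgHom.id R Q₀ from
      AlgHom.ext fun t => ψ.apply_symm_apply t]
  simp [mapT]

/-- Homomorphisms to a smooth group lift from `R ⧸ I` when `R` is complete. -/
theorem exists_lift_adic_smooth [IsNoetherianRing R] {I : Ideal R} [IsAdicComplete I R]
    [Algebra.FormallySmooth R C] (hB : SGA3b.IsIsotrivial R B)
    (φ₀ : (R ⧸ I) ⊗[R] C →ₐc[R ⧸ I] (R ⧸ I) ⊗[R] B) :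
    ∃ φ : C →ₐc[R] B, ∀ c : C, φ₀ ((1 : R ⧸ I) ⊗ₜ[R] c) = (1 : R ⧸ I) ⊗ₜ[R] (φ c) := by
  have hBm := isMultType_of_isIsotrivial hB
  have hI : I ^ (0 + 1) = I := pow_one I
  obtain ⟨F₀, hF₀⟩ : ∃ F : (R ⧸ I ^ (0 + 1)) ⊗[R] C →ₐc[R ⧸ I ^ (0 + 1)] (R ⧸ I ^ (0 + 1)) ⊗[R] B,
      ∀ c, mapT R B (Ideal.Quotient.factorₐ R hI.le) (F ((1 : _) ⊗ₜ c)) = φ₀ ((1 : _) ⊗ₜ c) := by
    refine step_lift hBm (Ideal.Quotient.factorₐ R hI.le) (factor_surjective _) ?_ φ₀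
    have : RingHom.ker (Ideal.Quotient.factorₐ R hI.le) = ⊥ := le_bot_iff.1 fun z hz => by
      obtain ⟨r, rfl⟩ := Ideal.Quotient.mk_surjective z
      have hr : r ∈ I := Ideal.Quotient.eq_zero_iff_mem.1 hz
      exact Ideal.Quotient.eq_zero_iff_mem.2 (hI.symm ▸ hr)
    rw [this, Ideal.bot_mul]
  have hstep : ∀ (n : ℕ) (Fn : (R ⧸ I ^ (n + 1)) ⊗[R] C →ₐc[R ⧸ I ^ (n + 1)]
      (R ⧸ I ^ (n + 1)) ⊗[R] B), ∃ F' : (R ⧸ I ^ (n + 1 + 1)) ⊗[R] C →ₐc[R ⧸ I ^ (n + 1 + 1)]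
        (R ⧸ I ^ (n + 1 + 1)) ⊗[R] B,
      ∀ c, mapT R B (Ideal.Quotient.factorₐ R (Ideal.pow_le_pow_right (I := I) (n + 1).le_succ))
        (F' ((1 : _) ⊗ₜ c)) = Fn ((1 : _) ⊗ₜ c) := by
    intro n Fn
    refine step_lift hBm _ (factor_surjective _) ?_ Fn
    refine le_bot_iff.1 (Ideal.mul_le.2 fun x hx y hy => ?_)
    obtain ⟨a, rfl⟩ := Ideal.Quotient.mk_surjective x
    obtain ⟨b, rfl⟩ := Ideal.Quotient.mk_surjective y
    rw [Ideal.mem_bot, ← map_mul, Ideal.Quotient.eq_zero_iff_mem]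
    have h1 := Ideal.mul_mem_mul (Ideal.Quotient.eq_zero_iff_mem.1 hx)
      (Ideal.Quotient.eq_zero_iff_mem.1 hy)
    rw [← pow_add] at h1
    exact Ideal.pow_le_pow_right (by omega) h1
  choose next hnext using hstep
  let F : ∀ n : ℕ, (R ⧸ I ^ (n + 1)) ⊗[R] C →ₐc[R ⧸ I ^ (n + 1)] (R ⧸ I ^ (n + 1)) ⊗[R] B :=
    fun n => Nat.rec F₀ next n
  have hcompat : ∀ (m n : ℕ) (hle : m + 1 ≤ n + 1) (c : C),
      mapT R B (Ideal.Quotient.factorₐ R (Ideal.pow_le_pow_right hle)) (F n ((1 : _) ⊗ₜ c)) =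
        F m ((1 : _) ⊗ₜ c) := by
    intro m n hle c
    induction n with
    | zero =>
      obtain rfl : m = 0 := by omega
      rw [show Ideal.Quotient.factorₐ R (Ideal.pow_le_pow_right (I := I) hle) = AlgHom.id R _ from
        Ideal.Quotient.algHom_ext R (AlgHom.ext fun r => rfl)]
      simp [mapT]
    | succ n ih =>
      rcases Nat.eq_or_lt_of_le hle with h | h
      · obtain rfl : m = n + 1 := by omega
        rw [show Ideal.Quotient.factorₐ R (Ideal.pow_le_pow_right (I := I) hle) = AlgHom.id R _ from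
          Ideal.Quotient.algHom_ext R (AlgHom.ext fun r => rfl)]
        simp [mapT]
      · have h' : m + 1 ≤ n + 1 := by omega
        rw [← ih h', show F (n + 1) = next n (F n) from rfl, ← hnext n (F n) c, mapT_mapT]
        exact congrArg (fun g => mapT R B g _)
          (Ideal.Quotient.algHom_ext R (AlgHom.ext fun r => rfl))
  obtain ⟨ψ, hψ⟩ := exists_bialgHom_of_compatible (I := I) hB F
    (fun {m n} hle c => hcompat m n hle c)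
  refine ⟨ψ, fun c => ?_⟩
  rw [← hF₀ c, show F₀ = F 0 from rfl, hψ 0 c, mapT, Algebra.TensorProduct.map_tmul, map_one]
  rfl

end Groth.L25.Char
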