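import Groth.Agent.L25.Char.AdicLift
import Mathlib.RingTheory.Coalgebra.Basic
import Mathlib.RingTheory.Noetherian.Basic

/-!
# Formal homomorphisms out of isotrivial groups of multiplicative type are algebraic
-/

set_option autoImplicit false

universe u

open TensorProduct

namespace Groth.L25.Char

open Groth.L25.MultType

variable {R : Type u} [CommRing R]

/-- An element of a projective module over a separated ring is determined by its reductions. -/
theorem eq_of_forall_one_tmul {N : Type u} [AddCommGroup N] [Module R N] [Module.Projective R N]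
    (I : Ideal R) [IsHausdorff I R] {x y : N}
    (h : ∀ n : ℕ, (1 : R ⧸ I ^ (n + 1)) ⊗ₜ[R] x = (1 : R ⧸ I ^ (n + 1)) ⊗ₜ[R] y) : x = y := by
  obtain ⟨ι₀, hι⟩ := Module.projective_def'.1 (inferInstance : Module.Projective R N)
  have hinj : Function.Injective ι₀ :=
    Function.LeftInverse.injective (g := Finsupp.linearCombination R id) (DFunLike.congr_fun hι)
  refine hinj (Finsupp.ext fun i => sub_eq_zero.1 (IsHausdorff.haus ‹_› _ fun n => ?_))
  rw [smul_eq_mul, Ideal.mul_top, SModEq.zero]
  rcases n with _ | n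
  · simp
  have h2 := congrArg (fun z => coordT ι₀ (R ⧸ I ^ (n + 1)) z i) (h n)
  simp only [coordT_tmul] at h2
  refine Ideal.Quotient.eq.1 ?_
  simpa [Algebra.smul_def] using h2

/-- Compatible systems of residues have limits. -/
theorem exists_limit {T : Type u} [CommRing T] (J : Ideal T) [IsAdicComplete J T]
    (t : ∀ n : ℕ, T ⧸ J ^ (n + 1))
    (h : ∀ {m n : ℕ} (hle : m + 1 ≤ n + 1),
      Ideal.Quotient.factor (Ideal.pow_le_pow_right hle) (t n) = t m) :
    ∃ a : T, ∀ n, Ideal.Quotient.mk (J ^ (n + 1)) a = t n := by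
  choose r hr using fun n => Ideal.Quotient.mk_surjective (t n)
  obtain ⟨a, ha⟩ := IsPrecomplete.prec (IsAdicComplete.toIsPrecomplete (I := J) (M := T))
    (f := fun n => r n) (fun {m n} hmn => by
      rw [smul_eq_mul, Ideal.mul_top, SModEq.sub_mem]
      rcases m with _ | m
      · simp
      refine Ideal.pow_le_pow_right (Nat.le_succ _) ?_
      rw [← Ideal.Quotient.eq]
      have h2 := h (Nat.succ_le_succ hmn)
      rw [← hr n, Ideal.Quotient.factor_mk, ← hr (m + 1)] at h2
      exact h2.symm)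
  refine ⟨a, fun n => ?_⟩
  have h2 := ha (n + 1)
  rw [smul_eq_mul, Ideal.mul_top, SModEq.sub_mem, ← Ideal.Quotient.eq] at h2
  rw [← h2, ← h (Nat.le_succ (n + 1)), ← hr (n + 1), Ideal.Quotient.factor_mk]

variable [IsNoetherianRing R] {B : Type u} [CommRing B] [HopfAlgebra R B] {C : Type u} [CommRing C]
  [HopfAlgebra R C]

/-- Formal homomorphisms from an isotrivial group of multiplicative type are algebraic. -/
theorem exists_bialgHom_of_compatible {I : Ideal R} [IsAdicComplete I R]
    (hB : SGA3b.IsIsotrivial R B)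
    (φ : ∀ n : ℕ, (R ⧸ I ^ (n + 1)) ⊗[R] C →ₐc[R ⧸ I ^ (n + 1)] (R ⧸ I ^ (n + 1)) ⊗[R] B)
    (hφ : ∀ {m n : ℕ} (hle : m + 1 ≤ n + 1) (c : C),
      mapT R B (Ideal.Quotient.factorₐ R (Ideal.pow_le_pow_right hle)) (φ n ((1 : _) ⊗ₜ c)) =
        φ m ((1 : _) ⊗ₜ c)) :
    ∃ ψ : C →ₐc[R] B, ∀ n c, φ n ((1 : _) ⊗ₜ c) = (1 : R ⧸ I ^ (n + 1)) ⊗ₜ ψ c := by
  classical
  haveI := projective_of_isMultType (isMultType_of_isIsotrivial hB)
  obtain ⟨T, _, _, _, _, hffT, M, _, ⟨e⟩⟩ := hB
  haveI := hffT
  let J : Ideal T := I.map (algebraMap R T)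
  haveI : IsAdicComplete J T := by
    haveI := Groth.Agent.S9405.isAdicComplete_of_finite I T
    exact
      { toIsHausdorff := IsHausdorff.map_algebraMap_iff.2 inferInstance
        toIsPrecomplete := IsPrecomplete.map_algebraMap_iff.2 inferInstance }
  haveI : IsNoetherianRing T := IsNoetherianRing.of_finite R T
  obtain ⟨ι₀, hι⟩ := Module.projective_def'.1 (inferInstance : Module.Projective R B)
  -- the reductions in the coordinates of the splitting
  have hρ : ∀ n, ∀ r ∈ I ^ (n + 1), algebraMap R (T ⧸ J ^ (n + 1)) r = 0 := fun n r hr => by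
    rw [IsScalarTower.algebraMap_apply R T (T ⧸ J ^ (n + 1)), Ideal.Quotient.algebraMap_eq,
      Ideal.Quotient.eq_zero_iff_mem, ← Ideal.map_pow]
    exact Ideal.mem_map_of_mem _ hr
  let ρ : ∀ n, R ⧸ I ^ (n + 1) →ₐ[R] T ⧸ J ^ (n + 1) := fun n =>
    Ideal.Quotient.liftₐ _ (Algebra.ofId R _) (hρ n)
  let b : ∀ n, C → MonoidAlgebra (T ⧸ J ^ (n + 1)) M := fun n c =>
    (splitEquiv e (T ⧸ J ^ (n + 1))).symm (mapT R B (ρ n) (φ n ((1 : _) ⊗ₜ c)))
  have hb_nat : ∀ {m n : ℕ} (hle : m + 1 ≤ n + 1) (c : C) (k : M),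
      Ideal.Quotient.factor (Ideal.pow_le_pow_right hle) ((b n c).coeff k) = (b m c).coeff k := by
    intro m n hle c k
    let f : T ⧸ J ^ (n + 1) →ₐ[R] T ⧸ J ^ (m + 1) :=
      Ideal.Quotient.factorₐ R (Ideal.pow_le_pow_right hle)
    have h1 := splitEquiv_natural e f (fun _ => rfl) (b n c)
    rw [show splitEquiv e _ (b n c) = mapT R B (ρ n) (φ n ((1 : _) ⊗ₜ c)) from
      (splitEquiv e _).apply_symm_apply _, mapT_mapT,
      show f.comp (ρ n) = (ρ m).comp (Ideal.Quotient.factorₐ R (Ideal.pow_le_pow_right hle)) from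
        Ideal.Quotient.algHom_ext R (AlgHom.ext fun r => rfl),
      ← mapT_mapT, hφ hle] at h1
    have h2 := congrArg (fun z => ((splitEquiv e (T ⧸ J ^ (m + 1))).symm z).coeff k) h1
    simp only [BialgEquiv.symm_apply_apply, MonoidAlgebra.coeff_mapRingHom] at h2
    exact (h2.trans rfl).symm
  choose a ha using fun (c : C) (k : M) =>
    exists_limit J (fun n => (b n c).coeff k) (fun hle => hb_nat hle c k)
  have hzero : ∀ t : T, (∀ n, Ideal.Quotient.mk (J ^ (n + 1)) t = 0) → t = 0 := fun t ht => by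
    refine IsHausdorff.haus (IsAdicComplete.toIsHausdorff (I := J) (M := T)) t fun n => ?_
    rw [smul_eq_mul, Ideal.mul_top, SModEq.zero]
    exact Ideal.pow_le_pow_right n.le_succ (Ideal.Quotient.eq_zero_iff_mem.1 (ht n))
  -- the coefficients form a diagonal matrix of finite rank
  have hdiag : ∀ c (k' k : M), (if k = k' then a c k else 0) =
      ∑ i ∈ (Coalgebra.Repr.arbitrary R c).index, a ((Coalgebra.Repr.arbitrary R c).left i) k' *
        a ((Coalgebra.Repr.arbitrary R c).right i) k := by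
    intro c k' k
    refine sub_eq_zero.1 (hzero _ fun n => ?_)
    let Rn := R ⧸ I ^ (n + 1)
    let Tn := T ⧸ J ^ (n + 1)
    letI : Algebra Rn Tn := (ρ n).toRingHom.toAlgebra
    haveI : IsScalarTower R Rn Tn := IsScalarTower.of_algebraMap_eq fun r => rfl
    let F : Tn ⊗[R] C →ₐc[Tn] MonoidAlgebra Tn M :=
      (((splitEquiv e Tn).symm : Tn ⊗[R] B →ₐc[Tn] MonoidAlgebra Tn M).comp
        ((cancelBialg R Rn Tn B : Tn ⊗[Rn] (Rn ⊗[R] B) →ₐc[Tn] Tn ⊗[R] B).comp
          (Bialgebra.TensorProduct.map (BialgHom.id Tn Tn) (φ n)))).comp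
        ((cancelBialg R Rn Tn C).symm : Tn ⊗[R] C →ₐc[Tn] Tn ⊗[Rn] (Rn ⊗[R] C))
    have hF : ∀ c, F ((1 : Tn) ⊗ₜ c) = b n c := by
      intro c
      simp only [F, BialgHom.comp_apply, BialgEquiv.coe_toBialgHom]
      refine congrArg (splitEquiv e Tn).symm ?_
      have h1 : (cancelBialg R Rn Tn C).symm ((1 : Tn) ⊗ₜ c) = (1 : Tn) ⊗ₜ ((1 : Rn) ⊗ₜ c) := by
        refine (cancelBialg R Rn Tn C).injective ?_
        refine ((cancelBialg R Rn Tn C).apply_symm_apply _).trans ?_
        change _ = cancelBialg R Rn Tn C _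
        rw [cancelBialg_tmul, one_smul]
      rw [h1]
      change cancelBialg R Rn Tn B ((1 : Tn) ⊗ₜ φ n ((1 : Rn) ⊗ₜ c)) = _
      generalize φ n ((1 : Rn) ⊗ₜ c) = w
      induction w using TensorProduct.induction_on with
      | zero => simp
      | add p q hp hq => simp only [TensorProduct.tmul_add, map_add, hp, hq]
      | tmul r x => rw [cancelBialg_tmul, Algebra.smul_def, _root_.mul_one]; rfl
    let Φ : MonoidAlgebra Tn M ⊗[Tn] MonoidAlgebra Tn M →ₗ[Tn] Tn :=
      LinearMap.mul' Tn Tn ∘ₗ TensorProduct.map (coefL k') (coefL k)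
    have hΦ : ∀ x, Φ (Coalgebra.comul x) = if k = k' then coefL k x else 0 := by
      intro x
      induction x using MonoidAlgebra.induction_linear with
      | zero => simp
      | add p q hp hq => simp only [map_add, hp, hq]; split_ifs <;> simp
      | single j r =>
        rw [MonoidAlgebra.comul_single]
        simp only [Φ, CommSemiring.comul_apply, TensorProduct.map_tmul, LinearMap.comp_apply,
          LinearMap.mul'_apply, MonoidAlgebra.lsingle_apply, coefL_single]
        split_ifs <;> simp_all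
    have h2 := congrArg Φ (CoalgHomClass.map_comp_comul_apply F ((1 : Tn) ⊗ₜ c))
    rw [hΦ, hF, TensorProduct.comul_tmul, ← (Coalgebra.Repr.arbitrary R c).eq] at h2
    simp only [TensorProduct.tmul_sum, CommSemiring.comul_apply, map_sum,
      AlgebraTensorModule.tensorTensorTensorComm_tmul, TensorProduct.map_tmul, Φ,
      LinearMap.comp_apply, LinearMap.mul'_apply] at h2
    rw [map_sub, sub_eq_zero, map_sum, apply_ite (Ideal.Quotient.mk (J ^ (n + 1))), map_zero, ha]
    refine h2.symm.trans (Finset.sum_congr rfl fun i _ => ?_)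
    rw [map_mul, ha, ha, ← hF, ← hF]
    rfl
  -- hence finitely many non-zero coefficients
  have hfinsupp : ∀ c, ∃ s : Finset M, ∀ k ∉ s, a c k = 0 := by
    intro c
    let N : Submodule T (M → T) := Submodule.span T
      (((Coalgebra.Repr.arbitrary R c).index.image fun i => fun k' =>
        a ((Coalgebra.Repr.arbitrary R c).left i) k' : Finset (M → T)) : Set (M → T))
    haveI : IsNoetherian T N :=
      isNoetherian_of_fg_of_noetherian N (Submodule.fg_span (Finset.finite_toSet _))
    let g : M → (M → T) := fun k => Pi.single k (a c k)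
    have hg : ∀ k, g k ∈ N := fun k => by
      have h1 : g k = ∑ i ∈ (Coalgebra.Repr.arbitrary R c).index,
          a ((Coalgebra.Repr.arbitrary R c).right i) k •
            fun k' => a ((Coalgebra.Repr.arbitrary R c).left i) k' := by
        funext k'
        rw [Finset.sum_apply]
        simp only [Pi.smul_apply, smul_eq_mul, g, Pi.single_apply]
        rw [show (if k' = k then a c k else 0) = if k = k' then a c k else 0 by
          simp only [eq_comm], hdiag]
        exact Finset.sum_congr rfl fun i _ => mul_comm _ _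
      rw [h1]
      exact sum_mem fun i hi => Submodule.smul_mem _ _
        (Submodule.subset_span (Finset.mem_coe.2 (Finset.mem_image_of_mem _ hi)))
    let L : Submodule T (M → T) := Submodule.span T (Set.range g)
    have hL : L ≤ N := Submodule.span_le.2 (by rintro _ ⟨k, rfl⟩; exact hg k)
    have hLfg : L.FG := by
      have h1 : (L.comap N.subtype).FG := IsNoetherian.noetherian _
      have h2 := h1.map N.subtype
      rwa [Submodule.map_comap_subtype, inf_eq_right.2 hL] at h2
    obtain ⟨t, hts, ht⟩ := Submodule.fg_span_iff_fg_span_finset_subset _ |>.1 hLfg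
    choose pre hpre using fun x : t => hts x.2
    refine ⟨Finset.univ.image pre, fun k hk => ?_⟩
    have h1 : g k ∈ Submodule.span T (t : Set (M → T)) := ht ▸ Submodule.subset_span ⟨k, rfl⟩
    have h2 : Submodule.span T (t : Set (M → T)) ≤ LinearMap.ker (LinearMap.proj k) :=
      Submodule.span_le.2 fun x hx => by
        have hne : k ≠ pre ⟨x, hx⟩ := fun h => hk (Finset.mem_image.2 ⟨⟨x, hx⟩, Finset.mem_univ _, h.symm⟩)
        change x k = 0
        conv_lhs => rw [show x = g (pre ⟨x, hx⟩) from (hpre ⟨x, hx⟩).symm]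
        simp only [g, Pi.single_eq_of_ne hne]
    have h3 := h2 h1
    simpa [g] using h3
  choose sM hsM using hfinsupp
  -- coordinates over the base
  let s : C → Finset B := fun c => (sM c).biUnion fun k => (coordT ι₀ T (splitElem e k)).support
  choose a' ha' using fun (c : C) (i : B) => exists_limit I
    (fun n => coordT ι₀ (R ⧸ I ^ (n + 1)) (φ n ((1 : _) ⊗ₜ c)) i) (fun {m n} hle => by
      rw [← hφ hle c, mapT, ← rTensor_eq_mapT, coordT_rTensor, Finsupp.mapRange_apply]
      rfl)
  have ha'0 : ∀ c i, i ∉ s c → a' c i = 0 := by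
    intro c i hi
    refine FaithfulSMul.algebraMap_injective R T (Eq.trans ?_ (map_zero _).symm)
    refine hzero _ fun n => ?_
    have h1 : coordT ι₀ (T ⧸ J ^ (n + 1)) (mapT R B (ρ n) (φ n ((1 : _) ⊗ₜ c))) i = 0 := by
      rw [show mapT R B (ρ n) (φ n ((1 : _) ⊗ₜ c)) = splitEquiv e _ (b n c) from
        ((splitEquiv e _).apply_symm_apply _).symm, ← MonoidAlgebra.sum_coeff_single (b n c)]
      simp only [map_finsuppSum, Finsupp.sum, Finsupp.finsetSum_apply, map_sum]
      refine Finset.sum_eq_zero fun k _ => ?_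
      by_cases hk : k ∈ sM c
      · rw [show MonoidAlgebra.single k ((b n c).coeff k) =
          (b n c).coeff k • MonoidAlgebra.single k (1 : T ⧸ J ^ (n + 1)) by simp, map_smul, map_smul,
          Finsupp.smul_apply, splitEquiv_single, mapT, ← rTensor_eq_mapT, coordT_rTensor,
          Finsupp.mapRange_apply]
        have : coordT ι₀ T (splitElem e k) i = 0 := Finsupp.notMem_support_iff.1 fun h =>
          hi (Finset.mem_biUnion.2 ⟨k, hk, h⟩)
        rw [this, map_zero, smul_zero]
      · rw [← ha c k n, hsM c k hk, map_zero, MonoidAlgebra.single_zero, map_zero, map_zero,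
          Finsupp.zero_apply]
    rw [mapT, ← rTensor_eq_mapT, coordT_rTensor, Finsupp.mapRange_apply, ← ha' c i n] at h1
    exact h1
  let w : C → B := fun c => ∑ i ∈ s c, a' c i • i
  have hw : ∀ n c, φ n ((1 : _) ⊗ₜ c) = (1 : R ⧸ I ^ (n + 1)) ⊗ₜ w c := by
    intro n c
    conv_lhs => rw [eq_sum_coordT hι (R ⧸ I ^ (n + 1)) (φ n ((1 : _) ⊗ₜ c))]
    have hsub : (coordT ι₀ (R ⧸ I ^ (n + 1)) (φ n ((1 : _) ⊗ₜ c))).support ⊆ s c := fun i hi => by
      by_contra hns
      refine Finsupp.mem_support_iff.1 hi ?_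
      rw [← ha' c i n, ha'0 c i hns, map_zero]
    rw [Finsupp.sum_of_support_subset _ hsub
      (fun i r => r ⊗ₜ[R] Finsupp.linearCombination R id (Finsupp.single i 1))
      (fun i _ => TensorProduct.zero_tmul _ _), TensorProduct.tmul_sum]
    refine Finset.sum_congr rfl fun i _ => ?_
    rw [Finsupp.linearCombination_single, one_smul, ← ha', ← TensorProduct.smul_tmul,
      Algebra.smul_def, _root_.mul_one, Ideal.Quotient.algebraMap_eq]
    rfl
  -- it is a bialgebra map
  have hext : ∀ {x y : B}, (∀ n, (1 : R ⧸ I ^ (n + 1)) ⊗ₜ[R] x = (1 : R ⧸ I ^ (n + 1)) ⊗ₜ[R] y) →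
      x = y := fun h => eq_of_forall_one_tmul I h
  let ψ : C →ₐ[R] B :=
    { toFun := w
      map_one' := hext fun n => by
        rw [← hw, ← Algebra.TensorProduct.one_def, map_one, Algebra.TensorProduct.one_def]
      map_mul' := fun x y => hext fun n => by
        rw [← hw, ← _root_.one_mul (1 : R ⧸ I ^ (n + 1)), ← Algebra.TensorProduct.tmul_mul_tmul,
          map_mul, hw, hw, Algebra.TensorProduct.tmul_mul_tmul]
      map_zero' := hext fun n => by
        rw [← hw, TensorProduct.tmul_zero, map_zero, TensorProduct.tmul_zero]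
      map_add' := fun x y => hext fun n => by
        rw [← hw, TensorProduct.tmul_add, map_add, hw, hw, TensorProduct.tmul_add]
      commutes' := fun r => hext fun n => by
        rw [← hw, Algebra.algebraMap_eq_smul_one, Algebra.algebraMap_eq_smul_one,
          TensorProduct.tmul_smul, TensorProduct.tmul_smul, ← Algebra.TensorProduct.one_def,
          ← algebraMap_smul (R ⧸ I ^ (n + 1)) r, map_smul, map_one, algebraMap_smul,
          Algebra.TensorProduct.one_def] }
  refine ⟨BialgHom.ofAlgHom ψ (AlgHom.ext fun c => ?_) (AlgHom.ext fun c => ?_), fun n c => hw n c⟩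
  · change Coalgebra.counit (R := R) (w c) = Coalgebra.counit (R := R) c
    refine eq_of_forall_one_tmul I fun n => ?_
    have h1 := CoalgHomClass.counit_comp_apply (φ n) ((1 : R ⧸ I ^ (n + 1)) ⊗ₜ c)
    rw [hw, TensorProduct.counit_tmul, TensorProduct.counit_tmul, CommSemiring.counit_apply] at h1
    have h2 := congrArg (fun z : R ⧸ I ^ (n + 1) => z ⊗ₜ[R] (1 : R)) h1
    simpa [TensorProduct.smul_tmul] using h2
  · change TensorProduct.map ψ.toLinearMap ψ.toLinearMap (Coalgebra.comul (R := R) c) =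
      Coalgebra.comul (R := R) (w c)
    refine eq_of_forall_one_tmul I fun n => ?_
    let Rn := R ⧸ I ^ (n + 1)
    have h1 := congrArg (toFlat R B Rn) (CoalgHomClass.map_comp_comul_apply (φ n) ((1 : Rn) ⊗ₜ c))
    rw [hw, toFlat_comul] at h1
    have h2 : ∀ z : C ⊗[R] C, toFlat R B Rn (TensorProduct.map
        (φ n : Rn ⊗[R] C →ₐc[Rn] Rn ⊗[R] B).toLinearMap
        (φ n : Rn ⊗[R] C →ₐc[Rn] Rn ⊗[R] B).toLinearMap
        (AlgebraTensorModule.tensorTensorTensorComm R Rn R Rn Rn Rn C C
          (((1 : Rn) ⊗ₜ (1 : Rn)) ⊗ₜ z))) =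
        (1 : Rn) ⊗ₜ TensorProduct.map ψ.toLinearMap ψ.toLinearMap z := by
      intro z
      induction z using TensorProduct.induction_on with
      | zero => simp
      | add p q hp hq => simp only [TensorProduct.tmul_add, map_add, hp, hq]
      | tmul p q =>
        simp only [AlgebraTensorModule.tensorTensorTensorComm_tmul, TensorProduct.map_tmul]
        change toFlat R B Rn (φ n ((1 : Rn) ⊗ₜ p) ⊗ₜ φ n ((1 : Rn) ⊗ₜ q)) = _
        rw [hw, hw, toFlat_tmul]
        simp [inl, inr, Algebra.TensorProduct.tmul_mul_tmul]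
        rfl
    rw [TensorProduct.comul_tmul, CommSemiring.comul_apply] at h1
    refine ((h2 _).symm.trans h1).trans ?_
    simp [comulT]

end Groth.L25.Char
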