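import Groth.Agent.L25.Char.Coeff
import Groth.Agent.L25.MultType.Diag
import Mathlib.RingTheory.Flat.Basic
import Mathlib.RingTheory.Flat.FaithfullyFlat.Algebra

/-!
# Group-like elements of base changes of a Hopf algebra

`IsGL R A T x` says that `x ∈ T ⊗ A` is group-like, written so that functoriality in `T` is obvious.
-/

set_option autoImplicit false

universe u v

open TensorProduct

namespace Groth.L25.Char

open Groth.L25.MultType

variable (R A : Type u) [CommRing R] [CommRing A] [Bialgebra R A]

/-- The comultiplication on `T ⊗ A`, with values in `T ⊗ (A ⊗ A)`. -/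
noncomputable def comulT (T : Type v) [CommRing T] [Algebra R T] :
    T ⊗[R] A →ₐ[T] T ⊗[R] (A ⊗[R] A) :=
  Algebra.TensorProduct.map (AlgHom.id T T) (Bialgebra.comulAlgHom R A)

/-- The first inclusion. -/
noncomputable def inl (T : Type v) [CommRing T] [Algebra R T] :
    T ⊗[R] A →ₐ[T] T ⊗[R] (A ⊗[R] A) :=
  Algebra.TensorProduct.map (AlgHom.id T T) Algebra.TensorProduct.includeLeft

/-- The second inclusion. -/
noncomputable def inr (T : Type v) [CommRing T] [Algebra R T] :
    T ⊗[R] A →ₐ[T] T ⊗[R] (A ⊗[R] A) :=
  Algebra.TensorProduct.map (AlgHom.id T T) Algebra.TensorProduct.includeRight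

/-- `x ⊗ x`, with values in `T ⊗ (A ⊗ A)`. -/
noncomputable def sqT (T : Type v) [CommRing T] [Algebra R T] (x : T ⊗[R] A) :
    T ⊗[R] (A ⊗[R] A) := inl R A T x * inr R A T x

/-- Being group-like. -/
def IsGL (T : Type v) [CommRing T] [Algebra R T] (x : T ⊗[R] A) : Prop :=
  comulT R A T x = sqT R A T x ∧ Coalgebra.counit (R := T) x = 1

section compare

variable (T : Type v) [CommRing T] [Algebra R T]

/-- The comparison map. -/
noncomputable def toFlat : (T ⊗[R] A) ⊗[T] (T ⊗[R] A) →ₐ[T] T ⊗[R] (A ⊗[R] A) :=
  Algebra.TensorProduct.lift (inl R A T) (inr R A T) fun _ _ => Commute.all _ _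

theorem toFlat_tmul (x y : T ⊗[R] A) : toFlat R A T (x ⊗ₜ y) = inl R A T x * inr R A T y :=
  Algebra.TensorProduct.lift_tmul ..

/-- Its inverse. -/
noncomputable def ofFlat : T ⊗[R] (A ⊗[R] A) →ₐ[T] (T ⊗[R] A) ⊗[T] (T ⊗[R] A) :=
  Algebra.TensorProduct.lift (Algebra.ofId T _)
    (Algebra.TensorProduct.lift
      ((Algebra.TensorProduct.includeLeft (S := T) (R := T) (A := T ⊗[R] A)
        (B := T ⊗[R] A)).restrictScalars R |>.comp Algebra.TensorProduct.includeRight)
      ((Algebra.TensorProduct.includeRight (R := T) (A := T ⊗[R] A)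
        (B := T ⊗[R] A)).restrictScalars R |>.comp Algebra.TensorProduct.includeRight)
      fun _ _ => Commute.all _ _)
    fun _ _ => Commute.all _ _

theorem ofFlat_toFlat (z : (T ⊗[R] A) ⊗[T] (T ⊗[R] A)) : ofFlat R A T (toFlat R A T z) = z := by
  suffices (ofFlat R A T).comp (toFlat R A T) = AlgHom.id T _ from AlgHom.congr_fun this z
  refine Algebra.TensorProduct.ext (Algebra.TensorProduct.ext_ring (AlgHom.ext fun a => ?_))
    (Algebra.TensorProduct.ext_ring (AlgHom.ext fun a => ?_))
  · simp [ofFlat, toFlat, inl, inr, Algebra.TensorProduct.one_def]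
  · simp [ofFlat, toFlat, inl, inr, Algebra.TensorProduct.one_def]

theorem toFlat_injective : Function.Injective (toFlat R A T) :=
  Function.LeftInverse.injective (ofFlat_toFlat R A T)

theorem toFlat_comul (x : T ⊗[R] A) :
    toFlat R A T (Coalgebra.comul (R := T) x) = comulT R A T x := by
  suffices (toFlat R A T).comp (Bialgebra.comulAlgHom T (T ⊗[R] A)) = comulT R A T from
    AlgHom.congr_fun this x
  refine Algebra.TensorProduct.ext_ring (AlgHom.ext fun a => ?_)
  simp only [AlgHom.coe_comp, AlgHom.coe_restrictScalars', Function.comp_apply,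
    Algebra.TensorProduct.includeRight_apply, Bialgebra.comulAlgHom_apply, comulT,
    Algebra.TensorProduct.map_tmul, AlgHom.id_apply, TensorProduct.comul_tmul,
    CommSemiring.comul_apply]
  generalize Coalgebra.comul (R := R) a = w
  induction w using TensorProduct.induction_on with
  | zero => simp
  | tmul p q =>
    simp [toFlat, inl, inr, Algebra.TensorProduct.tmul_mul_tmul]
  | add p q hp hq =>
    simp only [TensorProduct.tmul_add, map_add, hp, hq]

theorem isGL_iff (x : T ⊗[R] A) : IsGL R A T x ↔ IsGroupLikeElem T x := by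
  constructor
  · rintro ⟨h1, h2⟩
    refine ⟨h2, toFlat_injective R A T ?_⟩
    rw [toFlat_comul, toFlat_tmul, h1, sqT]
  · intro h
    refine ⟨?_, h.counit_eq_one⟩
    rw [← toFlat_comul, h.comul_eq_tmul_self, toFlat_tmul, sqT]

end compare

variable {T T' : Type v} [CommRing T] [Algebra R T] [CommRing T'] [Algebra R T']

/-- Functoriality in the ring of coefficients. -/
noncomputable abbrev mapT (f : T →ₐ[R] T') : T ⊗[R] A →ₐ[R] T' ⊗[R] A :=
  Algebra.TensorProduct.map f (AlgHom.id R A)

theorem comulT_mapT (f : T →ₐ[R] T') (x : T ⊗[R] A) :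
    comulT R A T' (mapT R A f x) = mapT R (A ⊗[R] A) f (comulT R A T x) := by
  induction x using TensorProduct.induction_on with
  | zero => simp
  | tmul t a => simp [comulT]
  | add p q hp hq => simp only [map_add, hp, hq]

theorem inl_mapT (f : T →ₐ[R] T') (x : T ⊗[R] A) :
    inl R A T' (mapT R A f x) = mapT R (A ⊗[R] A) f (inl R A T x) := by
  induction x using TensorProduct.induction_on with
  | zero => simp
  | tmul t a => simp [inl]
  | add p q hp hq => simp only [map_add, hp, hq]

theorem inr_mapT (f : T →ₐ[R] T') (x : T ⊗[R] A) :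
    inr R A T' (mapT R A f x) = mapT R (A ⊗[R] A) f (inr R A T x) := by
  induction x using TensorProduct.induction_on with
  | zero => simp
  | tmul t a => simp [inr]
  | add p q hp hq => simp only [map_add, hp, hq]

theorem sqT_mapT (f : T →ₐ[R] T') (x : T ⊗[R] A) :
    sqT R A T' (mapT R A f x) = mapT R (A ⊗[R] A) f (sqT R A T x) := by
  rw [sqT, sqT, map_mul, inl_mapT, inr_mapT]

theorem counit_mapT (f : T →ₐ[R] T') (x : T ⊗[R] A) :
    Coalgebra.counit (R := T') (mapT R A f x) = f (Coalgebra.counit (R := T) x) := by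
  induction x using TensorProduct.induction_on with
  | zero => simp
  | tmul t a => simp [TensorProduct.counit_tmul]
  | add p q hp hq => simp only [map_add, hp, hq]

variable {R A}

theorem IsGL.map {x : T ⊗[R] A} (hx : IsGL R A T x) (f : T →ₐ[R] T') :
    IsGL R A T' (mapT R A f x) := by
  refine ⟨?_, ?_⟩
  · rw [comulT_mapT, sqT_mapT, hx.1]
  · rw [counit_mapT, hx.2, map_one]

theorem mapT_mapT {T'' : Type v} [CommRing T''] [Algebra R T''] (f : T →ₐ[R] T')
    (g : T' →ₐ[R] T'') (x : T ⊗[R] A) :
    mapT R A g (mapT R A f x) = mapT R A (g.comp f) x := by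
  induction x using TensorProduct.induction_on with
  | zero => simp
  | tmul t a => simp
  | add p q hp hq => simp only [map_add, hp, hq]

theorem mapT_smul (f : T →ₐ[R] T') (t : T) (x : T ⊗[R] A) :
    mapT R A f (t • x) = f t • mapT R A f x := by
  induction x using TensorProduct.induction_on with
  | zero => simp
  | tmul s a => simp [TensorProduct.smul_tmul']
  | add p q hp hq => simp only [smul_add, map_add, hp, hq]

theorem mapT_injective [Module.Flat R A] {f : T →ₐ[R] T'} (hf : Function.Injective f) :
    Function.Injective (mapT R A f) := by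
  have h := Module.Flat.rTensor_preserves_injective_linearMap (M := A) f.toLinearMap hf
  intro x y hxy
  apply h
  have : ∀ z, (f.toLinearMap.rTensor A) z = mapT R A f z := fun z => by
    induction z using TensorProduct.induction_on with
    | zero => simp
    | tmul t a => simp
    | add p q hp hq => simp only [map_add, hp, hq]
  rw [this, this, hxy]

variable (R A) in
/-- Base change of group-like elements. -/
noncomputable def glMap (f : T →ₐ[R] T') :
    GroupLike T (T ⊗[R] A) →* GroupLike T' (T' ⊗[R] A) where
  toFun g := ⟨mapT R A f g.1, (isGL_iff R A T' _).1 (((isGL_iff R A T _).2 g.2).map f)⟩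
  map_one' := GroupLike.ext (map_one (mapT R A f))
  map_mul' g h := GroupLike.ext (map_mul (mapT R A f) g.1 h.1)

theorem glMap_val (f : T →ₐ[R] T') (g : GroupLike T (T ⊗[R] A)) :
    (glMap R A f g).1 = mapT R A f g.1 := rfl

theorem glMap_injective [Module.Flat R A] {f : T →ₐ[R] T'} (hf : Function.Injective f) :
    Function.Injective (glMap R A f) := fun _ _ h =>
  GroupLike.ext (mapT_injective hf (congrArg GroupLike.val h))

end Groth.L25.Char
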