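import Groth.Agent.L25.Char.TorsionPiece
import Mathlib.RingTheory.AdicCompletion.LocalRing
import Mathlib.RingTheory.AdicCompletion.AsTensorProduct
import Mathlib.RingTheory.AdicCompletion.Completeness

/-!
# Homomorphisms from groups of multiplicative type and completion of a henselian base
-/

set_option autoImplicit false

universe u

open TensorProduct

namespace Groth.L25.Char.CompletionHom

open Groth.L25.MultType
open Descent (GoodHom red)

/-- Idempotents of algebras integral over an intermediate henselian ring lift. -/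
theorem goodHom_of_tower {A S U : Type u} [CommRing A] [CommRing S] [CommRing U] [Algebra A S]
    [Algebra S U] [Algebra A U] [IsScalarTower A S U] (I : Ideal A)
    [h : HenselianRing S (I.map (algebraMap A S))] [Algebra.IsIntegral S U] :
    GoodHom (red I U).toRingHom := by
  have hmap : I.map (algebraMap A U) = (I.map (algebraMap A S)).map (algebraMap S U) := by
    rw [Ideal.map_map, ← IsScalarTower.algebraMap_eq]
  refine ⟨Descent.red_surjective I U, fun x hx => ?_, fun e₀ he₀ => ?_⟩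
  · refine Groth.L05.map_le_jacobson_bot h.jac ?_
    rw [← hmap]
    exact (Descent.red_eq_zero_iff I x).1 hx
  · obtain ⟨u, rfl⟩ := Descent.red_surjective I U e₀
    obtain ⟨e, he, hev⟩ := Groth.L05.exists_idem_lift_of_integral (I.map (algebraMap A S)) u
      (by rw [← hmap]
          exact (Descent.red_eq_zero_iff I _).1 (by rw [map_sub, map_mul]; exact sub_eq_zero.2 he₀.eq))
    refine ⟨e, he, sub_eq_zero.1 ?_⟩
    change red I U e - red I U u = 0
    rw [← map_sub]
    rw [← hmap] at hev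
    exact (Descent.red_eq_zero_iff I _).2 hev

/-- Finitely many elements of a finitely generated group are separated by some power subgroup. -/
theorem exists_separating (M : Type u) [CommGroup M] [Group.FG M] (s : Finset M) :
    ∃ n : ℕ, 0 < n ∧ ∀ a ∈ s, ∀ b ∈ s, ∀ y : M, a = b * y ^ n → a = b := by
  classical
  obtain ⟨r, ι, _, p, hp, e, ⟨f⟩⟩ := AddCommGroup.equiv_free_prod_directSum_zmod (Additive M)
  have hsep : ∀ x : M, ∃ n : ℕ, 0 < n ∧ ∀ y : M, x = y ^ n → x = 1 := by
    intro x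
    let v := (f (Additive.ofMul x)).1
    let N := ∑ i ∈ v.support, (v i).natAbs + 1
    refine ⟨(∏ i, p i ^ e i) * N, Nat.mul_pos (Finset.prod_pos fun i _ => pow_pos (hp i).pos _)
      (Nat.succ_pos _), fun y hy => ?_⟩
    apply Additive.ofMul.injective
    apply f.injective
    have h1 : f (Additive.ofMul x) = ((∏ i, p i ^ e i) * N) • f (Additive.ofMul y) := by
      rw [← map_nsmul, ← ofMul_pow, ← hy]
    rw [ofMul_one, map_zero]
    refine Prod.ext ?_ ?_
    · refine Finsupp.ext fun i => ?_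
      by_contra hne
      have h2 : v i = (((∏ i, p i ^ e i) * N : ℕ) : ℤ) * (f (Additive.ofMul y)).1 i := by
        change (f (Additive.ofMul x)).1 i = _
        rw [h1, Prod.smul_fst, Finsupp.smul_apply, nsmul_eq_mul]
      have hi : i ∈ v.support := Finsupp.mem_support_iff.2 hne
      have h3 : ((∏ i, p i ^ e i) * N) ∣ (v i).natAbs := Int.natCast_dvd.1 ⟨_, h2⟩
      have h4 : (v i).natAbs < N :=
        Nat.lt_succ_of_le (Finset.single_le_sum (f := fun i => (v i).natAbs) (by simp) hi)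
      have hne' : v i ≠ 0 := by simpa using hne
      have h5 := Nat.le_of_dvd (Int.natAbs_pos.2 hne') ((Nat.dvd_mul_left N _).trans h3)
      omega
    · refine DFinsupp.ext fun i => ?_
      rw [h1, Prod.smul_snd]
      change ((∏ j, p j ^ e j) * N) • ((f (Additive.ofMul y)).2 i) = 0
      rw [nsmul_eq_mul, (ZMod.natCast_eq_zero_iff _ _).2
        (Dvd.dvd.mul_right (Finset.dvd_prod_of_mem _ (Finset.mem_univ i)) N), zero_mul]
  choose n hn hns using hsep
  refine ⟨∏ p ∈ s ×ˢ s, n (p.1 * p.2⁻¹), Finset.prod_pos fun p _ => hn _, fun a ha b hb y hy => ?_⟩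
  obtain ⟨c, hc⟩ := Finset.dvd_prod_of_mem (fun p : M × M => n (p.1 * p.2⁻¹))
    (Finset.mem_product.2 ⟨ha, hb⟩ : (a, b) ∈ s ×ˢ s)
  have h1 := hns (a * b⁻¹) (y ^ c) (by
    conv_lhs => rw [hy, hc, mul_comm b, mul_assoc, mul_inv_cancel, mul_one]
    rw [← pow_mul y c, mul_comm c])
  rwa [mul_inv_eq_one] at h1

section Separate

variable {A B : Type u} [CommRing A] [CommRing B] [HopfAlgebra A B] {T : Type u} [CommRing T]
  [Algebra A T] {M : Type u} [CommGroup M]

/-- The coordinates modulo `n`-th powers kill the `n`-th torsion ideal. -/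
theorem mapDomain_torsion (e : T ⊗[A] B ≃ₐc[T] MonoidAlgebra T M) {n : ℕ} {P : Type u} [CommGroup P]
    (p : M →* P) (hp : ∀ m, p (m ^ n) = 1) {b : B} (hb : b ∈ SGA3b.torsionIdeal A B n) :
    MonoidAlgebra.mapDomainBialgHom T p (e ((1 : T) ⊗ₜ b)) = 0 := by
  let g : T ⊗[A] B →ₐc[T] MonoidAlgebra T P :=
    (MonoidAlgebra.mapDomainBialgHom T p).comp (e : T ⊗[A] B →ₐc[T] MonoidAlgebra T M)
  have hle : SGA3b.torsionIdeal T (T ⊗[A] B) n ≤
      RingHom.ker (g : T ⊗[A] B →ₐ[T] MonoidAlgebra T P) := by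
    refine torsionIdeal_le_iff.2 fun a => ?_
    obtain ⟨z, rfl⟩ : ∃ z, e.symm z = a := ⟨e a, e.symm_apply_apply a⟩
    induction z using MonoidAlgebra.induction_linear with
    | zero => simp
    | add x y hx hy => rw [map_add, map_add, map_add, map_add, add_sub_add_comm]; exact add_mem hx hy
    | single m r =>
      rw [show MonoidAlgebra.single m r = r • MonoidAlgebra.single m (1 : T) by simp, map_smul,
        map_smul, map_smul, smul_eq_mul, map_mul (algebraMap T (T ⊗[A] B)), ← Algebra.smul_def,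
        ← smul_sub, RingHom.mem_ker, map_smul]
      have hgl : IsGroupLikeElem T (e.symm (MonoidAlgebra.single m (1 : T))) :=
        (MonoidAlgebra.isGroupLikeElem_single_one m).map e.symm
      rw [powConv_groupLike hgl, hgl.counit_eq_one, map_one]
      refine smul_eq_zero_of_right r ?_
      change g (e.symm (MonoidAlgebra.single m 1) ^ n - 1) = 0
      rw [map_sub, map_pow, map_one, sub_eq_zero]
      change MonoidAlgebra.mapDomainBialgHom T p (e (e.symm (MonoidAlgebra.single m 1))) ^ n = 1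
      rw [e.apply_symm_apply]
      simp [MonoidAlgebra.single_pow, ← map_pow, hp, MonoidAlgebra.one_def]
  exact hle (TorsionPiece.one_tmul_mem_torsion T hb)

/-- The torsion subgroups are jointly schematically dense, with any coefficients. -/
theorem eq_zero_of_torsion [Module.FaithfullyFlat A T] [Group.FG M]
    (e : T ⊗[A] B ≃ₐc[T] MonoidAlgebra T M) {Q : Type u} [AddCommGroup Q] [Module A Q] (w : Q ⊗[A] B)
    (h : ∀ n : ℕ, 0 < n →
      ((Ideal.Quotient.mkₐ A (SGA3b.torsionIdeal A B n)).toLinearMap).lTensor Q w = 0) : w = 0 := by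
  classical
  let ι : B →ₗ[A] MonoidAlgebra T M :=
    (e.toAlgEquiv.toLinearMap.restrictScalars A) ∘ₗ (TensorProduct.mk A T B 1)
  have hι : Function.Injective (ι.lTensor Q) := by
    have h1 : Function.Injective ((TensorProduct.mk A T B 1).lTensor Q) := by
      have h2 := Module.FaithfullyFlat.tensorProduct_mk_injective (A := A) (B := T) (Q ⊗[A] B)
      intro x y hxy
      apply h2
      have key : ∀ x, TensorProduct.leftComm A Q T B ((TensorProduct.mk A T B 1).lTensor Q x) =
          (1 : T) ⊗ₜ x := fun x => by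
        induction x using TensorProduct.induction_on with
        | zero => simp
        | add a b ha hb => simp only [map_add, TensorProduct.tmul_add, ha, hb]
        | tmul a b => simp
      change (1 : T) ⊗ₜ[A] x = (1 : T) ⊗ₜ[A] y
      rw [← key, ← key, hxy]
    rw [LinearMap.lTensor_comp, LinearMap.coe_comp]
    exact ((e.toAlgEquiv.toLinearEquiv.restrictScalars A).lTensor Q).injective.comp h1
  apply hι
  rw [map_zero]
  let incl : M → (T →ₗ[A] MonoidAlgebra T M) := fun m =>
    { toFun := MonoidAlgebra.single m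
      map_add' := fun a b => by simp
      map_smul' := fun a b => by simp }
  obtain ⟨s, f, hs⟩ : ∃ (s : Finset M) (f : M → Q ⊗[A] T),
      ι.lTensor Q w = ∑ m ∈ s, (incl m).lTensor Q (f m) := by
    generalize ι.lTensor Q w = y
    induction y using TensorProduct.induction_on with
    | zero => exact ⟨∅, 0, by simp⟩
    | tmul q z =>
      refine ⟨z.coeff.support, fun m => q ⊗ₜ z.coeff m, ?_⟩
      simp only [LinearMap.lTensor_tmul, ← TensorProduct.tmul_sum]
      exact congrArg (q ⊗ₜ[A] ·) (MonoidAlgebra.sum_coeff_single z).symm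
    | add y z hy hz =>
      obtain ⟨s, f, rfl⟩ := hy
      obtain ⟨t, g, rfl⟩ := hz
      refine ⟨s ∪ t, fun m => (if m ∈ s then f m else 0) + (if m ∈ t then g m else 0), ?_⟩
      simp only [map_add, Finset.sum_add_distrib, apply_ite ((incl _).lTensor Q), map_zero,
        Finset.sum_ite_mem, Finset.union_inter_cancel_left, Finset.union_inter_cancel_right]
  rw [hs]
  obtain ⟨n, hn, hsep⟩ := exists_separating M s
  let H : Subgroup M := (powMonoidHom n : M →* M).range
  let p : M →* M ⧸ H := QuotientGroup.mk' H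
  have hp : ∀ m : M, p (m ^ n) = 1 := fun m => (QuotientGroup.eq_one_iff _).2 ⟨m, rfl⟩
  refine Finset.sum_eq_zero fun m hm => ?_
  let L : MonoidAlgebra T M →ₗ[A] T :=
    { toFun := fun z => (MonoidAlgebra.mapDomainBialgHom T p z).coeff (p m)
      map_add' := fun a b => by simp
      map_smul' := fun a b => by
        rw [← algebraMap_smul T a b, map_smul, MonoidAlgebra.coeff_smul, Finsupp.smul_apply,
          algebraMap_smul]
        rfl }
  have hkill : ∀ b ∈ SGA3b.torsionIdeal A B n, (L ∘ₗ ι) b = 0 := fun b hb => by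
    change (MonoidAlgebra.mapDomainBialgHom T p (e ((1 : T) ⊗ₜ b))).coeff (p m) = 0
    rw [mapDomain_torsion e p hp hb]
    simp
  have h0 : L.lTensor Q (ι.lTensor Q w) = 0 := by
    let L' : (B ⧸ SGA3b.torsionIdeal A B n) →ₗ[A] T :=
      Submodule.liftQ ((SGA3b.torsionIdeal A B n).restrictScalars A) (L ∘ₗ ι) hkill
    have h1 : L'.lTensor Q
        ((Ideal.Quotient.mkₐ A (SGA3b.torsionIdeal A B n)).toLinearMap.lTensor Q w) = 0 := by
      rw [h n hn, map_zero]
    rw [← LinearMap.lTensor_comp_apply] at h1 ⊢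
    exact h1
  rw [hs, map_sum, Finset.sum_eq_single m ?_ (fun h => absurd hm h)] at h0
  · rw [← LinearMap.lTensor_comp_apply,
      show L ∘ₗ incl m = LinearMap.id from LinearMap.ext fun t => by
        simp [L, incl], LinearMap.lTensor_id] at h0
    rw [show f m = 0 from h0, map_zero]
  · intro m' hm' hne
    rw [← LinearMap.lTensor_comp_apply,
      show L ∘ₗ incl m' = 0 from LinearMap.ext fun t => by
        simp only [L, incl, LinearMap.comp_apply, LinearMap.coe_mk, AddHom.coe_mk,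
          LinearMap.zero_apply]
        rw [show MonoidAlgebra.mapDomainBialgHom T p (MonoidAlgebra.single m' t) =
          MonoidAlgebra.single (p m') t by simp, MonoidAlgebra.coeff_single,
          Finsupp.single_eq_of_ne]
        intro heq
        obtain ⟨y, hy⟩ : m⁻¹ * m' ∈ H := (QuotientGroup.eq (s := H)).1 heq
        exact hne (hsep m' hm' m hm y (by
          rw [show y ^ n = m⁻¹ * m' from hy, mul_inv_cancel_left])),
      LinearMap.lTensor_zero, LinearMap.zero_apply]

end Separate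

variable {A : Type u} [CommRing A] [IsNoetherianRing A] [HenselianLocalRing A]

local notation "𝔪" => IsLocalRing.maximalIdeal A
local notation "Â" => AdicCompletion (IsLocalRing.maximalIdeal A) A

/-- The completion of a Noetherian local ring is faithfully flat. -/
theorem faithfullyFlat_completion : Module.FaithfullyFlat A Â := by
  refine (Module.FaithfullyFlat.iff_flat_and_ideal_smul_eq_top A Â).2
    ⟨AdicCompletion.flat_of_isNoetherian _, fun m htop => by_contra fun hm => ?_⟩
  rw [Ideal.smul_top_eq_map, Submodule.restrictScalars_eq_top_iff] at htop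
  have h1 : (𝔪).map (algebraMap A Â) = ⊤ :=
    top_le_iff.1 (htop ▸ Ideal.map_mono (IsLocalRing.le_maximalIdeal hm))
  rw [← AdicCompletion.ker_evalOneₐ_eq_map 𝔪 (IsNoetherian.noetherian _)] at h1
  have h2 : (1 : Â) ∈ RingHom.ker (AdicCompletion.evalOneₐ 𝔪).toRingHom := by rw [h1]; trivial
  rw [RingHom.mem_ker, map_one] at h2
  exact (IsLocalRing.maximalIdeal.isMaximal A).ne_top
    ((Ideal.eq_top_iff_one _).2 (Ideal.Quotient.eq_zero_iff_mem.1 (by simpa using h2)))

variable {B : Type u} [CommRing B] [HopfAlgebra A B] [Algebra.FiniteType A B]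
  {C : Type u} [CommRing C] [HopfAlgebra A C] [Algebra.FiniteType A C]

/-- The restrictions to the torsion subgroups descend. -/
theorem exists_descend_torsion (hB : SGA3b.IsMultType A B)
    (hfl : ∀ (q : Ideal C) [q.IsPrime], Ideal.map (algebraMap A C) 𝔪 ≤ q →
      Module.Flat A (Localization.AtPrime q))
    (hs : SGA3b.IsMultType (A ⧸ 𝔪) ((A ⧸ 𝔪) ⊗[A] C))
    (φ' : Â ⊗[A] C →ₐc[Â] Â ⊗[A] B) {n : ℕ} (hn : 0 < n) (c : C) :
    ∃ b : B, Algebra.TensorProduct.map (AlgHom.id Â Â)
        (Ideal.Quotient.mkₐ A (SGA3b.torsionIdeal A B n)) (φ' ((1 : Â) ⊗ₜ c)) =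
      (1 : Â) ⊗ₜ Ideal.Quotient.mk (SGA3b.torsionIdeal A B n) b := by
  classical
  let k := A ⧸ 𝔪
  let TB := SGA3b.torsionIdeal A B n
  haveI := isCocomm hB
  let φn : B →ₐc[A] B := (WithConv.toConv (BialgHom.id A B) ^ n).ofConv
  have hφn : (φn : B →ₐ[A] B) = SGA3b.powConv A B n :=
    congrArg WithConv.ofConv (BialgHom.toAlgHom_convPow (WithConv.toConv (BialgHom.id A B)) n)
  haveI : TB.IsHopfIdeal A := isHopfIdeal_map_ker φn _ (by rw [hφn]; rfl)
  obtain ⟨hBn, hBnfin⟩ := isMultType_torsion hB hn TB rfl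
  let Bn := B ⧸ TB
  haveI : Module.Finite A Bn := hBnfin
  obtain ⟨F, _, _, π, i, hπ, hFfin, hF, hi, him, hker⟩ := TorsionPiece.exists_piece hfl hs hn
  haveI := hFfin
  let pB : B →ₐc[A] Bn := Bialgebra.Quotient.mkBialgHom (R := A) TB
  let PB : Â ⊗[A] B →ₐc[Â] Â ⊗[A] Bn := Bialgebra.TensorProduct.map (BialgHom.id Â Â) pB
  let Fn : Â ⊗[A] C →ₐc[Â] Â ⊗[A] Bn := PB.comp φ'
  -- the composite factors through the finite piece
  have hjac : (𝔪).map (algebraMap A Â) ≤ (⊥ : Ideal Â).jacobson := by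
    rw [IsLocalRing.jacobson_eq_maximalIdeal (⊥ : Ideal Â) bot_ne_top]
    refine IsLocalRing.le_maximalIdeal fun h1 => ?_
    haveI := faithfullyFlat_completion (A := A)
    exact (IsLocalRing.maximalIdeal.isMaximal A).ne_top (by
      rw [← Ideal.comap_map_eq_self_of_faithfullyFlat (B := Â) 𝔪, h1, Ideal.comap_top])
  have htors : ∀ x ∈ SGA3b.torsionIdeal A C n, Fn ((1 : Â) ⊗ₜ x) = 0 := by
    have hbot : SGA3b.torsionIdeal Â (Â ⊗[A] Bn) n = ⊥ := le_bot_iff.1 <|
      (TorsionPiece.torsion_baseChange_le Â (AlgHom.id Â (Â ⊗[A] Bn)) fun x hx => by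
        have h1 : SGA3b.torsionIdeal A Bn n = ⊥ := torsionIdeal_quotient le_rfl
        rw [h1, Ideal.mem_bot] at hx
        rw [hx, TensorProduct.tmul_zero, map_zero]).trans
        (fun y hy => (Ideal.mem_bot).2 hy)
    have hle : SGA3b.torsionIdeal Â (Â ⊗[A] C) n ≤
        RingHom.ker (Fn : Â ⊗[A] C →ₐ[Â] Â ⊗[A] Bn) := torsionIdeal_le_iff.2 fun a => by
      rw [RingHom.mem_ker, map_sub, AlgHom.commutes]
      change Fn (SGA3b.powConv Â (Â ⊗[A] C) n a) - _ = 0
      rw [map_powConv Fn, torsionIdeal_eq_bot_iff.1 hbot, CoalgHomClass.counit_comp_apply, sub_self]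
    exact fun x hx => hle (TorsionPiece.one_tmul_mem_torsion Â hx)
  have hzi : Fn ((1 : Â) ⊗ₜ i) = 0 := by
    let q : C →+* Â ⊗[A] Bn := (Fn : Â ⊗[A] C →ₐ[Â] Â ⊗[A] Bn).toRingHom.comp
      (Algebra.TensorProduct.includeRight : C →ₐ[A] Â ⊗[A] C).toRingHom
    have hq : ∀ x ∈ SGA3b.torsionIdeal A C n, q x = 0 := htors
    have hid : IsIdempotentElem (q i) := by
      have h1 := hq _ hi
      rwa [map_sub, map_mul, sub_eq_zero] at h1
    refine Descent.eq_zero_of_idem_of_mem_jacobson hid ?_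
    refine Groth.L05.map_le_jacobson_bot (A := Â) (C := Â ⊗[A] Bn) hjac ?_
    have hle : SGA3b.torsionIdeal A C n ⊔ (𝔪).map (algebraMap A C) ≤
        (((𝔪).map (algebraMap A Â)).map (algebraMap Â (Â ⊗[A] Bn))).comap q :=
      sup_le (fun x hx => by rw [Ideal.mem_comap, hq x hx]; exact zero_mem _)
        (Ideal.map_le_iff_le_comap.2 fun r hr => by
          rw [Ideal.mem_comap, Ideal.mem_comap]
          change Fn ((Algebra.TensorProduct.includeRight : C →ₐ[A] Â ⊗[A] C) (algebraMap A C r)) ∈ _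
          rw [AlgHom.commutes, IsScalarTower.algebraMap_apply A Â (Â ⊗[A] C), AlgHomClass.commutes]
          exact Ideal.mem_map_of_mem _ (Ideal.mem_map_of_mem _ hr))
    exact hle him
  let PF : Â ⊗[A] C →ₐc[Â] Â ⊗[A] F := Bialgebra.TensorProduct.map (BialgHom.id Â Â) π
  obtain ⟨ψ, hψ⟩ := TorsionPiece.exists_factor PF
    (LinearMap.lTensor_surjective Â (g := (π : C →ₐ[A] F).toLinearMap) hπ) Fn (fun z hz => by
      have h1 : z ∈ (RingHom.ker (π : C →ₐ[A] F)).map
          (Algebra.TensorProduct.includeRight : C →ₐ[A] Â ⊗[A] C) := by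
        rw [← Algebra.TensorProduct.lTensor_ker (A := Â) (π : C →ₐ[A] F) hπ]
        exact hz
      have h2 : (RingHom.ker (π : C →ₐ[A] F)).map
          (Algebra.TensorProduct.includeRight : C →ₐ[A] Â ⊗[A] C) ≤
          RingHom.ker (Fn : Â ⊗[A] C →ₐ[Â] Â ⊗[A] Bn) := Ideal.map_le_iff_le_comap.2 fun x hx => by
        obtain ⟨t, ht, s, hs', rfl⟩ := Submodule.mem_sup.1 ((hker x).1 hx)
        obtain ⟨d, rfl⟩ := Ideal.mem_span_singleton'.1 hs'
        rw [Ideal.mem_comap, RingHom.mem_ker, map_add, map_add, map_mul, map_mul]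
        change Fn ((1 : Â) ⊗ₜ t) + _ * Fn ((1 : Â) ⊗ₜ i) = 0
        rw [htors t ht, hzi, mul_zero, add_zero]
      exact h2 h1)
  -- lift the closed fibre over the henselian ring
  let ev : Â →ₐ[A] k := AdicCompletion.evalOneₐ 𝔪
  letI : Algebra Â k := ev.toRingHom.toAlgebra
  haveI : IsScalarTower A Â k := IsScalarTower.of_algebraMap_eq fun a => (ev.commutes a).symm
  obtain ⟨f, hf⟩ := (henselian_bijective hBn hF).2 (bcHom k ψ)
  -- compare over the completion
  obtain ⟨T₁, _, _, _, _, _, M, _, ⟨e₁⟩⟩ := Henselian.isIsotrivial_of_henselian hBn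
  obtain ⟨T₂, _, _, _, _, _, N, _, ⟨e₂⟩⟩ := Henselian.isIsotrivial_of_henselian hF
  let T := T₁ ⊗[A] T₂
  letI : Algebra T₂ T := Algebra.TensorProduct.rightAlgebra
  haveI : Module.FaithfullyFlat A T := Module.FaithfullyFlat.trans A T₁ T
  let U := Â ⊗[A] T
  letI : Algebra T U := Algebra.TensorProduct.rightAlgebra
  haveI : IsAdicComplete ((𝔪).map (algebraMap A Â)) Â :=
    (IsAdicComplete.map_algebraMap_iff 𝔪 Â).2
      (AdicCompletion.isAdicComplete (IsNoetherian.noetherian _))
  have hU : GoodHom (red 𝔪 U).toRingHom := goodHom_of_tower (S := Â) 𝔪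
  let il : Â →ₐ[A] U := Algebra.TensorProduct.includeLeft
  have hev : (red 𝔪 U).comp il =
      (Algebra.TensorProduct.includeLeft : k →ₐ[A] k ⊗[A] U).comp ev := by
    refine AlgHom.ext fun a' => ?_
    obtain ⟨a, ha⟩ := Ideal.Quotient.mk_surjective (ev a')
    have h1 : a' - algebraMap A Â a ∈ (𝔪).map (algebraMap A Â) := by
      rw [← AdicCompletion.ker_evalOneₐ_eq_map 𝔪 (IsNoetherian.noetherian _), RingHom.mem_ker,
        map_sub, sub_eq_zero]
      change ev a' = ev (algebraMap A Â a)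
      rw [AlgHom.commutes, ← ha]
      rfl
    have h2 : red 𝔪 U (il (a' - algebraMap A Â a)) = 0 := by
      refine (Descent.red_eq_zero_iff 𝔪 _).2 ?_
      rw [IsScalarTower.algebraMap_eq A Â U, ← Ideal.map_map]
      exact Ideal.mem_map_of_mem _ h1
    rw [map_sub, map_sub, AlgHom.commutes, AlgHom.commutes, sub_eq_zero] at h2
    refine h2.trans ?_
    change algebraMap A (k ⊗[A] U) a =
      (Algebra.TensorProduct.includeLeft : k →ₐ[A] k ⊗[A] U) (ev a')
    rw [← ha]
    exact ((Algebra.TensorProduct.includeLeft : k →ₐ[A] k ⊗[A] U).commutes a).symm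
  let Gl : U ⊗[A] F →ₐc[U] U ⊗[A] Bn := bcHom U ψ
  let Gr : U ⊗[A] F →ₐc[U] U ⊗[A] Bn := Bialgebra.TensorProduct.map (BialgHom.id U U) f
  have hred : ∀ y, mapT A Bn (red 𝔪 U) (Gl ((1 : U) ⊗ₜ y)) =
      mapT A Bn (red 𝔪 U) (Gr ((1 : U) ⊗ₜ y)) := by
    intro y
    have h1 : bcHom k ψ ((1 : k) ⊗ₜ y) = mapT A Bn ev (ψ ((1 : Â) ⊗ₜ y)) := by
      rw [bcHom_tmul]
      rfl
    have hy : bcHom k ψ ((1 : k) ⊗ₜ y) = (1 : k) ⊗ₜ f y := hf y
    rw [h1] at hy
    change mapT A Bn (red 𝔪 U) (bcHom U ψ ((1 : U) ⊗ₜ y)) =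
      mapT A Bn (red 𝔪 U) ((1 : U) ⊗ₜ f y)
    rw [bcHom_tmul, mapT_mapT, show IsScalarTower.toAlgHom A Â U = il from AlgHom.ext fun a => rfl,
      hev, ← mapT_mapT, hy]
    simp [mapT, Algebra.TensorProduct.one_def]
  have hG : Gl = Gr := Henselian.eq_of_red_eq (I := 𝔪) (S := T) (splitEquiv e₁ T).symm
    (splitEquiv e₂ T).symm hU Gl Gr hred
  have hψf : ∀ y, ψ ((1 : Â) ⊗ₜ y) = (1 : Â) ⊗ₜ f y := by
    intro y
    haveI := flat hBn
    refine mapT_injective (f := il) ?_ ?_
    · exact Algebra.TensorProduct.includeLeft_injective (FaithfulSMul.algebraMap_injective A T)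
    · have h1 := congrArg (fun G => G ((1 : U) ⊗ₜ[A] y)) hG
      change bcHom U ψ ((1 : U) ⊗ₜ y) = (1 : U) ⊗ₜ f y at h1
      rw [bcHom_tmul, show IsScalarTower.toAlgHom A Â U = il from AlgHom.ext fun a => rfl] at h1
      rw [h1]
      simp [mapT, il, Algebra.TensorProduct.one_def]
  obtain ⟨b, hb⟩ := Ideal.Quotient.mk_surjective (f (π c))
  refine ⟨b, ?_⟩
  have h1 := hψ ((1 : Â) ⊗ₜ c)
  change ψ ((1 : Â) ⊗ₜ π c) = PB (φ' ((1 : Â) ⊗ₜ c)) at h1
  rw [hψf, ← hb] at h1
  exact h1.symm

/-- **Base change to the completion is bijective on homomorphisms.** -/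
theorem bijective_completion (hB : SGA3b.IsMultType A B)
    (hfl : ∀ (q : Ideal C) [q.IsPrime], Ideal.map (algebraMap A C) 𝔪 ≤ q →
      Module.Flat A (Localization.AtPrime q))
    (hs : SGA3b.IsMultType (A ⧸ 𝔪) ((A ⧸ 𝔪) ⊗[A] C)) :
    (∀ φ ψ : C →ₐc[A] B, (∀ c : C, (1 : Â) ⊗ₜ[A] (φ c) = (1 : Â) ⊗ₜ[A] (ψ c)) → φ = ψ) ∧
    (∀ φ' : Â ⊗[A] C →ₐc[Â] Â ⊗[A] B, ∃ φ : C →ₐc[A] B, ∀ c : C,
      φ' ((1 : Â) ⊗ₜ[A] c) = (1 : Â) ⊗ₜ[A] (φ c)) := by
  haveI := faithfullyFlat_completion (A := A)
  haveI := flat hB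
  refine ⟨fun φ ψ h => BialgHom.ext fun c =>
    Module.FaithfullyFlat.tensorProduct_mk_injective (A := A) (B := Â) B (h c), fun φ' => ?_⟩
  obtain ⟨T, _, _, _, _, hffT, M, _, ⟨e⟩⟩ := Henselian.isIsotrivial_of_henselian hB
  haveI := hffT
  haveI : Nontrivial T :=
    (FaithfulSMul.algebraMap_injective A T).nontrivial
  haveI : Algebra.FiniteType T (MonoidAlgebra T M) :=
    Algebra.FiniteType.equiv (A := T ⊗[A] B) inferInstance e.toAlgEquiv
  haveI : Group.FG M :=
    MonoidAlgebra.finiteType_iff_group_fg.1 (inferInstance : Algebra.FiniteType T _)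
  let R₀ := LinearMap.range (Algebra.linearMap A Â)
  let q : Â →ₗ[A] Â ⧸ R₀ := R₀.mkQ
  have hex : ∀ c : C, ∃ b : B, (1 : Â) ⊗ₜ[A] b = φ' ((1 : Â) ⊗ₜ c) := by
    intro c
    have hw : q.rTensor B (φ' ((1 : Â) ⊗ₜ c)) = 0 := by
      refine eq_zero_of_torsion e _ fun n hn => ?_
      obtain ⟨b, hb⟩ := exists_descend_torsion hB hfl hs φ' hn c
      let mkn := Ideal.Quotient.mkₐ A (SGA3b.torsionIdeal A B n)
      have key : ∀ z : Â ⊗[A] B, mkn.toLinearMap.lTensor (Â ⧸ R₀) (q.rTensor B z) =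
          q.rTensor _ (Algebra.TensorProduct.map (AlgHom.id Â Â) mkn z) := fun z => by
        induction z using TensorProduct.induction_on with
        | zero => simp
        | add x y hx hy => simp only [map_add, hx, hy]
        | tmul x y => rfl
      rw [key, hb, LinearMap.rTensor_tmul,
        show q 1 = 0 from (Submodule.Quotient.mk_eq_zero R₀).2 ⟨1, map_one (algebraMap A Â)⟩,
        TensorProduct.zero_tmul]
    obtain ⟨w, hw'⟩ := ((rTensor_exact B (f := Algebra.linearMap A Â) (g := q)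
      (LinearMap.exact_iff.2 (Submodule.ker_mkQ R₀)) (Submodule.mkQ_surjective R₀)) _).1 hw
    refine ⟨TensorProduct.lid A B w, ?_⟩
    rw [← hw']
    clear hw'
    induction w using TensorProduct.induction_on with
    | zero => simp
    | add x y hx hy => simp only [map_add, TensorProduct.tmul_add, hx, hy]
    | tmul r b =>
      simp only [TensorProduct.lid_tmul, LinearMap.rTensor_tmul, Algebra.linearMap_apply,
        TensorProduct.tmul_smul]
      rw [TensorProduct.smul_tmul', Algebra.algebraMap_eq_smul_one]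
  obtain ⟨φ, hφ⟩ := Henselian.exists_descend φ' fun c => by
    obtain ⟨b, hb⟩ := hex c
    rw [← hb]
    simp [mapT, Algebra.TensorProduct.one_def]
  exact ⟨φ, hφ⟩

end Groth.L25.Char.CompletionHom
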