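import Groth.Agent.L25.Char.Coeff
import Mathlib.RingTheory.TensorProduct.MonoidAlgebra
import Mathlib.RingTheory.Flat.Equalizer
import Mathlib.LinearAlgebra.TensorProduct.Pi
import Mathlib.RingTheory.Flat.FaithfullyFlat.Algebra

/-!
# Descent data for families of group algebras

For a faithfully flat family `T i` of `R`-algebras and groups `M i`, a descent datum is given by
characters `χ i j : M i →* (T i ⊗ T j)[M j]` satisfying the cocycle condition.  The descended algebra
`D.Alg` becomes `T k [M k]` over `T k`.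
-/

set_option autoImplicit false

universe u

open TensorProduct MonoidAlgebra

namespace Groth.L25.Char.Descent

variable {R : Type u} [CommRing R]

section tr

variable {T₁ T₂ : Type u} [CommRing T₁] [Algebra R T₁] [CommRing T₂] [Algebra R T₂]
  {M N : Type u} [CommGroup M] [CommGroup N]

/-- The map out of a tensor product given by two maps. -/
noncomputable abbrev pull {U : Type u} [CommRing U] [Algebra R U] (g : T₁ →ₐ[R] U)
    (g' : T₂ →ₐ[R] U) : T₁ ⊗[R] T₂ →ₐ[R] U :=
  Algebra.TensorProduct.lift g g' fun _ _ => Commute.all _ _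

/-- The first inclusion. -/
noncomputable abbrev inL : T₁ →ₐ[R] T₁ ⊗[R] T₂ := Algebra.TensorProduct.includeLeft

/-- The second inclusion. -/
noncomputable abbrev inR : T₂ →ₐ[R] T₁ ⊗[R] T₂ := Algebra.TensorProduct.includeRight

variable (χ : M →* MonoidAlgebra (T₁ ⊗[R] T₂) N) {U U' : Type u} [CommRing U] [Algebra R U]
  [CommRing U'] [Algebra R U']

/-- The transition map over `U`. -/
noncomputable def tr (g : T₁ →ₐ[R] U) (g' : T₂ →ₐ[R] U) :
    MonoidAlgebra U M →ₐ[U] MonoidAlgebra U N :=
  MonoidAlgebra.lift U (MonoidAlgebra U N) M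
    ((mapAlgHom N (pull g g')).toRingHom.toMonoidHom.comp χ)

theorem tr_single (g : T₁ →ₐ[R] U) (g' : T₂ →ₐ[R] U) (m : M) (r : U) :
    tr χ g g' (single m r) = r • mapAlgHom N (pull g g') (χ m) := by
  rw [tr, MonoidAlgebra.lift_single]
  rfl

theorem pull_inL (g : T₁ →ₐ[R] U) (g' : T₂ →ₐ[R] U) : (pull g g').comp inL = g := by
  ext x; simp

theorem pull_inR (g : T₁ →ₐ[R] U) (g' : T₂ →ₐ[R] U) : (pull g g').comp inR = g' := by
  ext x; simp

theorem comp_pull (h : U →ₐ[R] U') (g : T₁ →ₐ[R] U) (g' : T₂ →ₐ[R] U) :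
    h.comp (pull g g') = pull (h.comp g) (h.comp g') := by
  ext x <;> simp

theorem map_map {A B C : Type u} [CommRing A] [Algebra R A] [CommRing B] [Algebra R B]
    [CommRing C] [Algebra R C] (f : A →ₐ[R] B) (g : B →ₐ[R] C) (x : MonoidAlgebra A M) :
    mapAlgHom M g (mapAlgHom M f x) = mapAlgHom M (g.comp f) x := by
  induction x using MonoidAlgebra.induction_linear with
  | zero => simp
  | add a b ha hb => simp only [map_add, ha, hb]
  | single m r => simp

theorem map_smul' (h : U →ₐ[R] U') (r : U) (x : MonoidAlgebra U M) :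
    mapAlgHom M h (r • x) = h r • mapAlgHom M h x := by
  induction x using MonoidAlgebra.induction_linear with
  | zero => simp
  | add a b ha hb => simp only [smul_add, map_add, ha, hb]
  | single m s => simp

theorem map_tr (h : U →ₐ[R] U') (g : T₁ →ₐ[R] U) (g' : T₂ →ₐ[R] U) (x : MonoidAlgebra U M) :
    mapAlgHom N h (tr χ g g' x) = tr χ (h.comp g) (h.comp g') (mapAlgHom M h x) := by
  induction x using MonoidAlgebra.induction_linear with
  | zero => simp
  | add a b ha hb => simp only [map_add, ha, hb]
  | single m r => rw [tr_single, map_smul', map_map, comp_pull, mapAlgHom_single, tr_single]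

end tr

variable {ι : Type u} (T : ι → Type u) [∀ i, CommRing (T i)] [∀ i, Algebra R (T i)]
  (M : ι → Type u) [∀ i, CommGroup (M i)]

variable (R) in
/-- A descent datum. -/
structure Datum where
  /-- The transition characters. -/
  χ : ∀ i j, M i →* MonoidAlgebra (T i ⊗[R] T j) (M j)
  gl : ∀ i j m, IsGroupLikeElem (T i ⊗[R] T j) (χ i j m)
  unit : ∀ k m, mapAlgHom (M k) (pull (AlgHom.id R (T k)) (AlgHom.id R (T k))) (χ k k m) =
    single m 1
  cocycle : ∀ i j k (U : Type u) [CommRing U] [Algebra R U] (g : T i →ₐ[R] U) (g' : T j →ₐ[R] U)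
    (g'' : T k →ₐ[R] U) (m : M i),
      tr (χ j k) g' g'' (mapAlgHom (M j) (pull g g') (χ i j m)) =
        mapAlgHom (M k) (pull g g'') (χ i k m)

variable {T M} (D : Datum R T M)

namespace Datum

theorem tr_tr {i j k : ι} {U : Type u} [CommRing U] [Algebra R U] (g : T i →ₐ[R] U)
    (g' : T j →ₐ[R] U) (g'' : T k →ₐ[R] U) (x : MonoidAlgebra U (M i)) :
    tr (D.χ j k) g' g'' (tr (D.χ i j) g g' x) = tr (D.χ i k) g g'' x := by
  induction x using MonoidAlgebra.induction_linear with
  | zero => simp
  | add a b ha hb => simp only [map_add, ha, hb]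
  | single m r => rw [tr_single, map_smul, D.cocycle, tr_single]

theorem tr_self {k : ι} {U : Type u} [CommRing U] [Algebra R U] (g : T k →ₐ[R] U)
    (x : MonoidAlgebra U (M k)) : tr (D.χ k k) g g x = x := by
  induction x using MonoidAlgebra.induction_linear with
  | zero => simp
  | add a b ha hb => simp only [map_add, ha, hb]
  | single m r =>
    rw [tr_single, show pull g g = g.comp (pull (AlgHom.id R (T k)) (AlgHom.id R (T k))) by
      rw [comp_pull]; simp, ← map_map, D.unit, mapAlgHom_single, map_one, smul_single',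
      mul_one]

/-- The source map of the descent condition. -/
noncomputable def src (i j : ι) :
    (∀ l, MonoidAlgebra (T l) (M l)) →ₐ[R] MonoidAlgebra (T i ⊗[R] T j) (M j) :=
  ((tr (D.χ i j) inL inR).restrictScalars R).comp
    ((mapAlgHom (M i) inL).comp (Pi.evalAlgHom R _ i))

/-- The target map of the descent condition. -/
noncomputable def tgt (D : Datum R T M) (i j : ι) :
    (∀ l, MonoidAlgebra (T l) (M l)) →ₐ[R] MonoidAlgebra (T i ⊗[R] T j) (M j) :=
  (mapAlgHom (M j) inR).comp (Pi.evalAlgHom R _ j)

theorem src_apply (i j : ι) (x : ∀ l, MonoidAlgebra (T l) (M l)) :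
    D.src i j x = tr (D.χ i j) inL inR (mapAlgHom (M i) inL (x i)) := rfl

theorem tgt_apply (i j : ι) (x : ∀ l, MonoidAlgebra (T l) (M l)) :
    D.tgt i j x = mapAlgHom (M j) inR (x j) := rfl

/-- All source maps. -/
noncomputable def srcAll :
    (∀ l, MonoidAlgebra (T l) (M l)) →ₐ[R] ∀ i j, MonoidAlgebra (T i ⊗[R] T j) (M j) :=
  AlgHom.pi fun i => AlgHom.pi fun j => D.src i j

/-- All target maps. -/
noncomputable def tgtAll :
    (∀ l, MonoidAlgebra (T l) (M l)) →ₐ[R] ∀ i j, MonoidAlgebra (T i ⊗[R] T j) (M j) :=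
  AlgHom.pi fun i => AlgHom.pi fun j => D.tgt i j

/-- The descended algebra. -/
noncomputable def Alg : Subalgebra R (∀ l, MonoidAlgebra (T l) (M l)) :=
  AlgHom.equalizer D.srcAll D.tgtAll

theorem mem_alg (x : ∀ l, MonoidAlgebra (T l) (M l)) :
    x ∈ D.Alg ↔ ∀ i j, tr (D.χ i j) inL inR (mapAlgHom (M i) inL (x i)) =
      mapAlgHom (M j) inR (x j) :=
  ⟨fun h i j => congrFun (congrFun h i) j, fun h => funext fun i => funext fun j => h i j⟩

/-- The components. -/
noncomputable def π (k : ι) : D.Alg →ₐ[R] MonoidAlgebra (T k) (M k) :=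
  (Pi.evalAlgHom R _ k).comp D.Alg.val

theorem π_apply (k : ι) (a : D.Alg) : D.π k a = (a : ∀ l, MonoidAlgebra (T l) (M l)) k := rfl

theorem alg_ext {a b : D.Alg} (h : ∀ k, D.π k a = D.π k b) : a = b := Subtype.ext (funext h)

theorem compat {i j : ι} {U : Type u} [CommRing U] [Algebra R U] (g : T i →ₐ[R] U)
    (g' : T j →ₐ[R] U) (a : D.Alg) :
    tr (D.χ i j) g g' (mapAlgHom (M i) g (D.π i a)) = mapAlgHom (M j) g' (D.π j a) := by
  have h := congrArg (mapAlgHom (M j) (pull g g')) ((D.mem_alg a.1).1 a.2 i j)
  rwa [map_tr, map_map, map_map, pull_inL, pull_inR] at h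

/-- The comparison map over `T k`. -/
noncomputable def φ (k : ι) : T k ⊗[R] D.Alg →ₐ[T k] MonoidAlgebra (T k) (M k) :=
  Algebra.TensorProduct.lift (Algebra.ofId (T k) _) (D.π k) fun _ _ => Commute.all _ _

theorem φ_tmul (k : ι) (s : T k) (a : D.Alg) : D.φ k (s ⊗ₜ a) = s • D.π k a := by
  simp [φ, Algebra.ofId_apply, Algebra.smul_def]

/-- The coefficient isomorphism. -/
noncomputable abbrev coefEquiv (k : ι) (S : Type u) [CommRing S] [Algebra R S] (N : Type u)
    [CommGroup N] : T k ⊗[R] MonoidAlgebra S N ≃ₐ[T k] MonoidAlgebra (T k ⊗[R] S) N :=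
  MonoidAlgebra.rTensorEquivAlgEquiv R (T k) (T k) S

theorem coefEquiv_tmul (k : ι) (S : Type u) [CommRing S] [Algebra R S] (N : Type u)
    [CommGroup N] (s : T k) (x : MonoidAlgebra S N) :
    coefEquiv (R := R) (T := T) k S N (s ⊗ₜ x) =
      (inL : T k →ₐ[R] T k ⊗[R] S) s • mapAlgHom N inR x := by
  rw [coefEquiv, MonoidAlgebra.rTensorEquiv_tmulAlgEquiv]
  exact (algebraMap_smul (T k ⊗[R] S) s _).symm

theorem key (k i : ι) (y : T k ⊗[R] D.Alg) :
    coefEquiv k (T i) (M i)
        (Algebra.TensorProduct.map (AlgHom.id (T k) (T k)) (D.π i) y) =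
      tr (D.χ k i) inL inR (mapAlgHom (M k) inL (D.φ k y)) := by
  induction y using TensorProduct.induction_on with
  | zero => simp
  | add a b ha hb => simp only [map_add, ha, hb]
  | tmul s a =>
    rw [Algebra.TensorProduct.map_tmul, coefEquiv_tmul, φ_tmul, map_smul', map_smul, D.compat]
    rfl

end Datum

section piExt

variable [Finite ι] {V : ι → Type u} [∀ i, AddCommGroup (V i)] [∀ i, Module R (V i)]
  {N : Type u} [AddCommGroup N] [Module R N]

theorem piRight_apply' [Fintype ι] [DecidableEq ι] (t : N ⊗[R] (∀ i, V i)) (i : ι) :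
    TensorProduct.piRight R R N V t i = (LinearMap.proj i).lTensor N t := by
  induction t using TensorProduct.induction_on with
  | zero => simp
  | tmul n v => simp
  | add a b ha hb => simp only [map_add, Pi.add_apply, ha, hb]

theorem tensor_pi_ext {t t' : N ⊗[R] (∀ i, V i)}
    (h : ∀ i, (LinearMap.proj i).lTensor N t = (LinearMap.proj i).lTensor N t') : t = t' := by
  classical
  haveI := Fintype.ofFinite ι
  refine (TensorProduct.piRight R R N V).injective (funext fun i => ?_)
  rw [piRight_apply', piRight_apply', h]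

end piExt

namespace Datum

theorem φ_injective [Finite ι] (k : ι) [Module.Flat R (T k)] :
    Function.Injective (D.φ k) := by
  rw [injective_iff_map_eq_zero]
  intro y hy
  have h1 : D.Alg.val.toLinearMap.lTensor (T k) y = 0 := by
    refine tensor_pi_ext fun i => ?_
    rw [map_zero, ← LinearMap.comp_apply, ← LinearMap.lTensor_comp]
    have h2 : ∀ z : T k ⊗[R] D.Alg,
        ((LinearMap.proj i).comp D.Alg.val.toLinearMap).lTensor (T k) z =
          Algebra.TensorProduct.map (AlgHom.id (T k) (T k)) (D.π i) z := by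
      intro z
      induction z using TensorProduct.induction_on with
      | zero => simp
      | add a b ha hb => simp only [map_add, ha, hb]
      | tmul s a => simp [π_apply]
    rw [h2]
    refine (coefEquiv (R := R) (T := T) k (T i) (M i)).injective ?_
    rw [D.key, hy, map_zero, map_zero, map_zero]
  exact Module.Flat.lTensor_preserves_injective_linearMap (M := T k) D.Alg.val.toLinearMap
    Subtype.val_injective (h1.trans (map_zero _).symm)

theorem φ_surjective [Finite ι] (k : ι) [Module.Flat R (T k)] :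
    Function.Surjective (D.φ k) := by
  classical
  haveI := Fintype.ofFinite ι
  intro x
  let z : ∀ i, MonoidAlgebra (T k ⊗[R] T i) (M i) := fun i =>
    tr (D.χ k i) inL inR (mapAlgHom (M k) inL x)
  obtain ⟨w, hw⟩ : ∃ w : T k ⊗[R] (∀ l, MonoidAlgebra (T l) (M l)), ∀ i,
      coefEquiv k (T i) (M i) ((LinearMap.proj i).lTensor (T k) w) = z i := by
    refine ⟨(TensorProduct.piRight R R (T k) fun l => MonoidAlgebra (T l) (M l)).symm
      fun i => (coefEquiv k (T i) (M i)).symm (z i), fun i => ?_⟩
    rw [← piRight_apply', LinearEquiv.apply_symm_apply, AlgEquiv.apply_symm_apply]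
  have hF : D.srcAll.toLinearMap.lTensor (T k) w = D.tgtAll.toLinearMap.lTensor (T k) w := by
    refine tensor_pi_ext fun i => tensor_pi_ext fun j => ?_
    refine (coefEquiv (R := R) (T := T) k (T i ⊗[R] T j) (M j)).injective ?_
    simp only [← LinearMap.comp_apply, ← LinearMap.lTensor_comp]
    let g₀ : T k →ₐ[R] T k ⊗[R] (T i ⊗[R] T j) := inL
    let g₁ : T i →ₐ[R] T k ⊗[R] (T i ⊗[R] T j) := inR.comp inL
    let g₂ : T j →ₐ[R] T k ⊗[R] (T i ⊗[R] T j) := inR.comp inR
    have hs : ∀ v : T k ⊗[R] (∀ l, MonoidAlgebra (T l) (M l)),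
        coefEquiv k (T i ⊗[R] T j) (M j) (((LinearMap.proj j).comp
          ((LinearMap.proj i).comp D.srcAll.toLinearMap)).lTensor (T k) v) =
        tr (D.χ i j) g₁ g₂ (mapAlgHom (M i) (pull g₀ g₁)
          (coefEquiv k (T i) (M i) ((LinearMap.proj i).lTensor (T k) v))) := by
      intro v
      induction v using TensorProduct.induction_on with
      | zero => simp
      | add a b ha hb => simp only [map_add, ha, hb]
      | tmul s e =>
        rw [LinearMap.lTensor_tmul, LinearMap.lTensor_tmul, coefEquiv_tmul, coefEquiv_tmul,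
          LinearMap.proj_apply, map_smul', map_map, pull_inR, map_smul]
        change _ • mapAlgHom (M j) _ (D.src i j e) = _
        rw [src_apply, map_tr, map_map]
        congr 1
        exact (AlgHom.congr_fun (pull_inL g₀ g₁) s).symm
    have ht : ∀ v : T k ⊗[R] (∀ l, MonoidAlgebra (T l) (M l)),
        coefEquiv k (T i ⊗[R] T j) (M j) (((LinearMap.proj j).comp
          ((LinearMap.proj i).comp D.tgtAll.toLinearMap)).lTensor (T k) v) =
        mapAlgHom (M j) (pull g₀ g₂)
          (coefEquiv k (T j) (M j) ((LinearMap.proj j).lTensor (T k) v)) := by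
      intro v
      induction v using TensorProduct.induction_on with
      | zero => simp
      | add a b ha hb => simp only [map_add, ha, hb]
      | tmul s e =>
        rw [LinearMap.lTensor_tmul, LinearMap.lTensor_tmul, coefEquiv_tmul, coefEquiv_tmul,
          LinearMap.proj_apply, map_smul', map_map, pull_inR]
        change _ • mapAlgHom (M j) _ (D.tgt i j e) = _
        rw [tgt_apply, map_map]
        congr 1
        exact (AlgHom.congr_fun (pull_inL g₀ g₂) s).symm
    rw [hs, ht, hw, hw]
    simp only [z, map_tr, map_map, pull_inL, pull_inR]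
    exact D.tr_tr g₀ g₁ g₂ _
  have hex : Function.Exact D.Alg.val.toLinearMap
      (D.srcAll.toLinearMap - D.tgtAll.toLinearMap) := fun b => by
    rw [LinearMap.sub_apply, sub_eq_zero]
    exact ⟨fun hb => ⟨⟨b, hb⟩, rfl⟩, fun ⟨a, ha⟩ => ha ▸ a.2⟩
  obtain ⟨y, hy⟩ := (Module.Flat.lTensor_exact (T k) hex w).1
    (by rw [LinearMap.lTensor_sub, LinearMap.sub_apply, hF, sub_self])
  refine ⟨y, ?_⟩
  have h1 := D.key k k y
  have h2 : Algebra.TensorProduct.map (AlgHom.id (T k) (T k)) (D.π k) y =
      (LinearMap.proj k).lTensor (T k) w := by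
    rw [← hy]
    clear hy h1
    induction y using TensorProduct.induction_on with
    | zero => simp
    | add a b ha hb => simp only [map_add, ha, hb]
    | tmul s a => simp [π_apply]
  rw [h2, hw] at h1
  have h3 := congrArg (mapAlgHom (M k) (pull (AlgHom.id R (T k)) (AlgHom.id R (T k)))) h1
  simp only [z, map_tr, map_map, pull_inL, pull_inR, tr_self, mapAlgHom_id, AlgHom.id_apply] at h3
  exact h3.symm

theorem φ_bijective [Finite ι] (k : ι) [Module.Flat R (T k)] : Function.Bijective (D.φ k) :=
  ⟨D.φ_injective k, D.φ_surjective k⟩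

end Datum

section faithful

variable [Fintype ι] [hff : Module.FaithfullyFlat R (∀ i, T i)]
include hff

theorem flat_apply (k : ι) : Module.Flat R (T k) := by
  classical
  exact Module.Flat.of_retract (LinearMap.single R T k) (LinearMap.proj k) (by ext x; simp)

theorem piLeft_lTensor {N N' : Type u} [AddCommGroup N] [Module R N] [AddCommGroup N']
    [Module R N'] [DecidableEq ι] (f : N →ₗ[R] N') (t : (∀ i, T i) ⊗[R] N) (i : ι) :
    TensorProduct.piLeft (R := R) (M := T) (N := N') (f.lTensor _ t) i =
      f.lTensor (T i) (TensorProduct.piLeft (R := R) (M := T) (N := N) t i) := by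
  induction t using TensorProduct.induction_on with
  | zero => simp
  | tmul x n => simp
  | add a b ha hb => simp only [map_add, Pi.add_apply, ha, hb]

/-- Bijectivity may be checked over the members of a faithfully flat family. -/
theorem bijective_of_forall {N N' : Type u} [AddCommGroup N] [Module R N] [AddCommGroup N']
    [Module R N'] (f : N →ₗ[R] N') (h : ∀ k, Function.Bijective (f.lTensor (T k))) :
    Function.Bijective f := by
  classical
  refine (Module.FaithfullyFlat.lTensor_bijective_iff_bijective R (∀ i, T i) f).1 ?_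
  refine ⟨fun a b hab => ?_, fun y => ?_⟩
  · refine (TensorProduct.piLeft (R := R) (M := T) (N := N)).injective (funext fun i => ?_)
    apply (h i).1
    rw [← piLeft_lTensor, ← piLeft_lTensor, hab]
  · choose x hx using fun i => (h i).2 (TensorProduct.piLeft (R := R) (M := T) (N := N') y i)
    refine ⟨(TensorProduct.piLeft (R := R) (M := T) (N := N)).symm x,
      (TensorProduct.piLeft (R := R) (M := T) (N := N')).injective (funext fun i => ?_)⟩
    rw [piLeft_lTensor, LinearEquiv.apply_symm_apply, hx]

/-- Elements agreeing over a faithfully flat family agree. -/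
theorem eq_of_forall {N : Type u} [AddCommGroup N] [Module R N] {x y : N}
    (h : ∀ k, (1 : T k) ⊗ₜ[R] x = (1 : T k) ⊗ₜ[R] y) : x = y := by
  classical
  refine Module.FaithfullyFlat.tensorProduct_mk_injective (A := R) (B := ∀ i, T i) N ?_
  refine (TensorProduct.piLeft (R := R) (M := T) (N := N)).injective (funext fun i => ?_)
  simpa using h i

end faithful

end Groth.L25.Char.Descent
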