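import Groth.Agent.L25.Char.Descent
import Mathlib.RingTheory.HopfAlgebra.MonoidAlgebra
import Mathlib.RingTheory.HopfAlgebra.TensorProduct
import Mathlib.RingTheory.Bialgebra.MonoidAlgebra
import Mathlib.RingTheory.Bialgebra.Equiv

/-!
# The Hopf algebra of a descent datum
-/

set_option autoImplicit false

universe u

open TensorProduct MonoidAlgebra

namespace Groth.L25.Char.Descent

variable {R : Type u} [CommRing R]

section md

variable {A B : Type u} [CommRing A] [Algebra R A] [CommRing B] [Algebra R B]
  {M N P : Type u} [CommGroup M] [CommGroup N] [CommGroup P]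

variable (R) in
/-- Change of group in a group algebra. -/
noncomputable abbrev md (f : M →* N) : MonoidAlgebra A M →ₐ[R] MonoidAlgebra A N :=
  MonoidAlgebra.mapDomainAlgHom R A f

theorem md_single (f : M →* N) (m : M) (r : A) : md R f (single m r) = single (f m) r := by
  simp [MonoidAlgebra.mapDomainAlgHom]

theorem md_md (f : M →* N) (g : N →* P) (x : MonoidAlgebra A M) :
    md R g (md R f x) = md R (g.comp f) x := by
  induction x using MonoidAlgebra.induction_linear with
  | zero => simp
  | add a b ha hb => simp only [map_add, ha, hb]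
  | single m r => simp only [md_single, MonoidHom.comp_apply]

theorem md_id (x : MonoidAlgebra A M) : md R (MonoidHom.id M) x = x := by
  induction x using MonoidAlgebra.induction_linear with
  | zero => simp
  | add a b ha hb => simp only [map_add, ha, hb]
  | single m r => simp only [md_single, MonoidHom.id_apply]

theorem md_smul (f : M →* N) (r : A) (x : MonoidAlgebra A M) :
    md R f (r • x) = r • md R f x := by
  induction x using MonoidAlgebra.induction_linear with
  | zero => simp
  | add a b ha hb => simp only [smul_add, map_add, ha, hb]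
  | single m s => simp only [smul_single', md_single]

theorem map_md (h : A →ₐ[R] B) (f : M →* N) (x : MonoidAlgebra A M) :
    mapAlgHom N h (md R f x) = md R f (mapAlgHom M h x) := by
  induction x using MonoidAlgebra.induction_linear with
  | zero => simp
  | add a b ha hb => simp only [map_add, ha, hb]
  | single m r => simp only [md_single, mapAlgHom_single]

theorem md_one_eq (x : MonoidAlgebra A M) :
    md R (1 : M →* N) x = single 1 (Coalgebra.counit (R := A) x) := by
  induction x using MonoidAlgebra.induction_linear with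
  | zero => simp
  | add a b ha hb => simp only [map_add, ha, hb, single_add]
  | single m r => simp [md_single]

variable (A M N) in
/-- The product map. -/
noncomputable def jMap :
    MonoidAlgebra A M ⊗[A] MonoidAlgebra A N →ₐ[A] MonoidAlgebra A (M × N) :=
  Algebra.TensorProduct.productMap
    (MonoidAlgebra.mapDomainAlgHom A A (MonoidHom.inl M N))
    (MonoidAlgebra.mapDomainAlgHom A A (MonoidHom.inr M N))

variable (R) in
theorem jMap_tmul (x : MonoidAlgebra A M) (y : MonoidAlgebra A N) :
    jMap A M N (x ⊗ₜ y) = md R (MonoidHom.inl M N) x * md R (MonoidHom.inr M N) y := rfl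

theorem jMap_bijective : Function.Bijective (jMap A M N) := by
  have h : ∀ z, jMap A M N z = MonoidAlgebra.tensorEquiv A z := by
    intro z
    induction z using TensorProduct.induction_on with
    | zero => simp
    | add a b ha hb => simp only [map_add, ha, hb]
    | tmul x y =>
      induction x using MonoidAlgebra.induction_linear with
      | zero => simp [TensorProduct.zero_tmul]
      | add a b ha hb => simp only [TensorProduct.add_tmul, map_add, ha, hb]
      | single m r =>
        induction y using MonoidAlgebra.induction_linear with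
        | zero => simp [TensorProduct.tmul_zero]
        | add a b ha hb => simp only [TensorProduct.tmul_add, map_add, ha, hb]
        | single n s =>
          rw [MonoidAlgebra.tensorEquiv_single_tmul_single, jMap,
            Algebra.TensorProduct.productMap_apply_tmul]
          simp [MonoidAlgebra.mapDomainAlgHom, single_mul_single]
  rw [show (jMap A M N : _ → _) = MonoidAlgebra.tensorEquiv A from funext h]
  exact (MonoidAlgebra.tensorEquiv A).bijective

variable (R) in
theorem jMap_comul (x : MonoidAlgebra A M) :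
    jMap A M M (Coalgebra.comul (R := A) x) =
      md R ((MonoidHom.id M).prod (MonoidHom.id M)) x := by
  induction x using MonoidAlgebra.induction_linear with
  | zero => simp
  | add a b ha hb => simp only [map_add, ha, hb]
  | single m r =>
    rw [md_single, show single m r = r • single m (1 : A) by simp, map_smul, map_smul,
      (MonoidAlgebra.isGroupLikeElem_single_one m).comul_eq_tmul_self, jMap_tmul R, md_single,
      md_single, single_mul_single, smul_single', mul_one]
    simp

theorem md_diag_groupLike {x : MonoidAlgebra A M} (hx : IsGroupLikeElem A x) :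
    md R ((MonoidHom.id M).prod (MonoidHom.id M)) x =
      md R (MonoidHom.inl M M) x * md R (MonoidHom.inr M M) x := by
  rw [← jMap_comul R, hx.comul_eq_tmul_self, jMap_tmul R]

theorem isGroupLikeElem_md (f : M →* N) {x : MonoidAlgebra A M} (hx : IsGroupLikeElem A x) :
    IsGroupLikeElem A (md R f x) :=
  hx.map (MonoidAlgebra.mapDomainBialgHom A f)

variable {T₁ T₂ : Type u} [CommRing T₁] [Algebra R T₁] [CommRing T₂] [Algebra R T₂]
  {M' N' : Type u} [CommGroup M'] [CommGroup N'] {U : Type u} [CommRing U] [Algebra R U]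

theorem tr_md {χ : M →* MonoidAlgebra (T₁ ⊗[R] T₂) N} {χ' : M' →* MonoidAlgebra (T₁ ⊗[R] T₂) N'}
    (f : M →* M') (f' : N →* N') (h : ∀ m, md R f' (χ m) = χ' (f m)) (g : T₁ →ₐ[R] U)
    (g' : T₂ →ₐ[R] U) (x : MonoidAlgebra U M) :
    tr χ' g g' (md R f x) = md R f' (tr χ g g' x) := by
  induction x using MonoidAlgebra.induction_linear with
  | zero => simp
  | add a b ha hb => simp only [map_add, ha, hb]
  | single m r => rw [md_single, tr_single, tr_single, md_smul, ← map_md, h]

end md

variable {ι : Type u} {T : ι → Type u} [∀ i, CommRing (T i)] [∀ i, Algebra R (T i)]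
  {M N : ι → Type u} [∀ i, CommGroup (M i)] [∀ i, CommGroup (N i)]

namespace Datum

variable (D : Datum R T M) (D' : Datum R T N)

/-- A morphism of descent data. -/
def Compat (f : ∀ i, M i →* N i) : Prop :=
  ∀ i j m, md R (f j) (D.χ i j m) = D'.χ i j (f i m)

variable {D D'}

/-- The descended map. -/
noncomputable def desc {f : ∀ i, M i →* N i} (hf : D.Compat D' f) : D.Alg →ₐ[R] D'.Alg :=
  AlgHom.codRestrict (AlgHom.pi fun k => (md R (f k)).comp (D.π k)) D'.Alg fun a => by
    rw [mem_alg]
    intro i j
    change tr (D'.χ i j) inL inR (mapAlgHom _ inL (md R (f i) (D.π i a))) =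
      mapAlgHom _ inR (md R (f j) (D.π j a))
    rw [map_md, map_md, tr_md (f i) (f j) (hf i j), D.compat]

theorem π_desc {f : ∀ i, M i →* N i} (hf : D.Compat D' f) (k : ι) (a : D.Alg) :
    D'.π k (desc hf a) = md R (f k) (D.π k a) := rfl

variable (D D')

/-- The characters of the product datum. -/
noncomputable def prodχ (i j : ι) :
    M i × N i →* MonoidAlgebra (T i ⊗[R] T j) (M j × N j) :=
  MonoidHom.coprod
    ((md R (MonoidHom.inl (M j) (N j))).toRingHom.toMonoidHom.comp (D.χ i j))
    ((md R (MonoidHom.inr (M j) (N j))).toRingHom.toMonoidHom.comp (D'.χ i j))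

theorem prodχ_apply (i j : ι) (p : M i × N i) :
    prodχ D D' i j p = md R (MonoidHom.inl (M j) (N j)) (D.χ i j p.1) *
      md R (MonoidHom.inr (M j) (N j)) (D'.χ i j p.2) := rfl

/-- The product datum. -/
noncomputable def prod : Datum R T fun i => M i × N i where
  χ := prodχ D D'
  gl i j p := by
    rw [prodχ_apply]
    exact (isGroupLikeElem_md _ (D.gl i j p.1)).mul (isGroupLikeElem_md _ (D'.gl i j p.2))
  unit k p := by
    rw [prodχ_apply, map_mul, map_md, map_md, D.unit, D'.unit, md_single, md_single,
      single_mul_single, one_mul]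
    simp
  cocycle i j k U _ _ g g' g'' p := by
    rw [prodχ_apply, prodχ_apply, map_mul, map_mul, map_mul, map_md, map_md, map_md, map_md,
      tr_md (χ := D.χ j k) (χ' := prodχ D D' j k) (MonoidHom.inl (M j) (N j))
        (MonoidHom.inl (M k) (N k)) (fun m => by simp [prodχ_apply]),
      tr_md (χ := D'.χ j k) (χ' := prodχ D D' j k) (MonoidHom.inr (M j) (N j))
        (MonoidHom.inr (M k) (N k)) (fun m => by simp [prodχ_apply]),
      D.cocycle, D'.cocycle]

theorem compat_inl : D.Compat (D.prod D') fun _ => MonoidHom.inl _ _ := fun i j m => by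
  simp [prod, prodχ_apply]

theorem compat_inr : D'.Compat (D.prod D') fun _ => MonoidHom.inr _ _ := fun i j m => by
  simp [prod, prodχ_apply]

theorem compat_diag :
    D.Compat (D.prod D) fun i => (MonoidHom.id (M i)).prod (MonoidHom.id (M i)) :=
  fun i j m => md_diag_groupLike (D.gl i j m)

theorem compat_inv : D.Compat D fun i => (invMonoidHom : M i →* M i) := by
  intro i j m
  let ν : M j × M j →* M j := MonoidHom.coprod invMonoidHom (MonoidHom.id _)
  have h1 := congrArg (md R ν) (md_diag_groupLike (R := R) (D.gl i j m))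
  rw [map_mul, md_md, md_md, md_md, MonoidHom.coprod_comp_inl, MonoidHom.coprod_comp_inr, md_id,
    show ν.comp ((MonoidHom.id _).prod (MonoidHom.id _)) = 1 by ext x; simp [ν],
    md_one_eq, (D.gl i j m).counit_eq_one, ← one_def] at h1
  refine left_inv_eq_right_inv h1.symm ?_
  change D.χ i j m * D.χ i j m⁻¹ = 1
  rw [← map_mul, mul_inv_cancel, map_one]

variable (R T) in
/-- The trivial datum. -/
noncomputable def one : Datum R T fun _ => PUnit.{u+1} where
  χ _ _ := 1
  gl _ _ _ := IsGroupLikeElem.one
  unit k m := by simp [one_def]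
  cocycle i j k U _ _ g g' g'' m := by simp

theorem compat_one : D.Compat (one R T) fun _ => 1 := fun i j m => by
  rw [md_one_eq, (D.gl i j m).counit_eq_one, ← one_def]
  rfl

section finite

variable [Fintype ι] [hff : Module.FaithfullyFlat R (∀ i, T i)]
include hff

/-- The comparison equivalence. -/
noncomputable def φEquiv (k : ι) : T k ⊗[R] D.Alg ≃ₐ[T k] MonoidAlgebra (T k) (M k) :=
  AlgEquiv.ofBijective (D.φ k) (haveI := flat_apply (R := R) (T := T) k; D.φ_bijective k)

theorem φEquiv_symm_π (k : ι) (a : D.Alg) : (D.φEquiv k).symm (D.π k a) = (1 : T k) ⊗ₜ a :=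
  (AlgEquiv.symm_apply_eq _).2 ((D.φ_tmul k 1 a).trans (one_smul _ _)).symm

/-- Products are tensor products. -/
noncomputable def μ : D.Alg ⊗[R] D'.Alg →ₐ[R] (D.prod D').Alg :=
  Algebra.TensorProduct.productMap (desc (D.compat_inl D')) (desc (D.compat_inr D'))

theorem π_μ_tmul (k : ι) (a : D.Alg) (b : D'.Alg) :
    (D.prod D').π k (D.μ D' (a ⊗ₜ b)) =
      md R (MonoidHom.inl (M k) (N k)) (D.π k a) * md R (MonoidHom.inr (M k) (N k)) (D'.π k b) :=
  rfl

theorem μ_bijective : Function.Bijective (D.μ D') := by
  refine bijective_of_forall (T := T) (N := D.Alg ⊗[R] D'.Alg) (N' := (D.prod D').Alg)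
    (D.μ D').toLinearMap fun k => ?_
  let fl : MonoidAlgebra (T k) (M k) →ₐ[T k]
      MonoidAlgebra (T k) (M k) ⊗[T k] MonoidAlgebra (T k) (N k) :=
    Algebra.TensorProduct.includeLeft
  let fr : MonoidAlgebra (T k) (N k) →ₐ[T k]
      MonoidAlgebra (T k) (M k) ⊗[T k] MonoidAlgebra (T k) (N k) :=
    Algebra.TensorProduct.includeRight
  let q : T k ⊗[R] (D.Alg ⊗[R] D'.Alg) →ₐ[T k]
      MonoidAlgebra (T k) (M k) ⊗[T k] MonoidAlgebra (T k) (N k) :=
    Algebra.TensorProduct.lift (Algebra.ofId (T k) _)
      (Algebra.TensorProduct.productMap ((fl.restrictScalars R).comp (D.π k))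
        ((fr.restrictScalars R).comp (D'.π k))) fun _ _ => Commute.all _ _
  let p : MonoidAlgebra (T k) (M k) ⊗[T k] MonoidAlgebra (T k) (N k) →ₐ[T k]
      T k ⊗[R] (D.Alg ⊗[R] D'.Alg) :=
    Algebra.TensorProduct.productMap (R := T k) (S := T k ⊗[R] (D.Alg ⊗[R] D'.Alg))
      ((Algebra.TensorProduct.map (AlgHom.id (T k) (T k))
        Algebra.TensorProduct.includeLeft).comp (D.φEquiv k).symm.toAlgHom)
      ((Algebra.TensorProduct.map (AlgHom.id (T k) (T k))
        Algebra.TensorProduct.includeRight).comp (D'.φEquiv k).symm.toAlgHom)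
  have hpq : p.comp q = AlgHom.id (T k) _ := by
    refine Algebra.TensorProduct.ext_ring ?_
    ext a <;> simp [p, q, fl, fr, φEquiv_symm_π, Algebra.TensorProduct.one_def, ← MonoidAlgebra.one_def]
  have hqp : q.comp p = AlgHom.id (T k) _ := by
    have hl : q.comp (Algebra.TensorProduct.map (AlgHom.id (T k) (T k))
        Algebra.TensorProduct.includeLeft) = fl.comp (D.φEquiv k).toAlgHom := by
      refine Algebra.TensorProduct.ext_ring (AlgHom.ext fun a => ?_)
      simp [q, fl, fr, φEquiv, φ_tmul, ← MonoidAlgebra.one_def]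
    have hr : q.comp (Algebra.TensorProduct.map (AlgHom.id (T k) (T k))
        Algebra.TensorProduct.includeRight) = fr.comp (D'.φEquiv k).toAlgHom := by
      refine Algebra.TensorProduct.ext_ring (AlgHom.ext fun a => ?_)
      simp [q, fl, fr, φEquiv, φ_tmul, ← MonoidAlgebra.one_def]
    refine Algebra.TensorProduct.ext (AlgHom.ext fun x => ?_) (AlgHom.ext fun x => ?_)
    · have := AlgHom.congr_fun hl ((D.φEquiv k).symm x)
      simpa [p, fl] using this
    · have := AlgHom.congr_fun hr ((D'.φEquiv k).symm x)
      simpa [p, fr] using this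
  have hq : Function.Bijective q := Function.bijective_iff_has_inverse.2
    ⟨p, fun x => AlgHom.congr_fun hpq x, fun x => AlgHom.congr_fun hqp x⟩
  have hcomp : ∀ t, (D.prod D').φ k ((D.μ D').toLinearMap.lTensor (T k) t) =
      jMap (T k) (M k) (N k) (q t) := by
    intro t
    induction t using TensorProduct.induction_on with
    | zero => simp
    | add a b ha hb => simp only [map_add, ha, hb]
    | tmul s v =>
      induction v using TensorProduct.induction_on with
      | zero => simp
      | add a b ha hb => simp only [TensorProduct.tmul_add, map_add, ha, hb]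
      | tmul a b =>
        rw [LinearMap.lTensor_tmul, AlgHom.toLinearMap_apply, φ_tmul, π_μ_tmul]
        have hq1 : q (s ⊗ₜ[R] (a ⊗ₜ[R] b)) = s • (D.π k a ⊗ₜ[T k] D'.π k b) := by
          change algebraMap (T k) _ s * (fl (D.π k a) * fr (D'.π k b)) = _
          rw [show fl (D.π k a) * fr (D'.π k b) = D.π k a ⊗ₜ[T k] D'.π k b by simp [fl, fr],
            ← Algebra.smul_def]
        rw [hq1, map_smul, jMap_tmul R]
  haveI := flat_apply (R := R) (T := T) k
  refine (Function.Bijective.of_comp_iff' ((D.prod D').φ_bijective k) _).1 ?_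
  rw [show (D.prod D').φ k ∘ (D.μ D').toLinearMap.lTensor (T k) = jMap (T k) (M k) (N k) ∘ q from
    funext hcomp]
  exact jMap_bijective.comp hq

/-- Products are tensor products, as an equivalence. -/
noncomputable def μEquiv : D.Alg ⊗[R] D'.Alg ≃ₐ[R] (D.prod D').Alg :=
  AlgEquiv.ofBijective (D.μ D') (D.μ_bijective D')

theorem algebraMap_one_bijective :
    Function.Bijective (algebraMap R (one R T).Alg) := by
  refine bijective_of_forall (T := T) (Algebra.linearMap R (one R T).Alg) fun k => ?_
  haveI := flat_apply (R := R) (T := T) k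
  have hcomp : ∀ t, (one R T).φ k ((Algebra.linearMap R (one R T).Alg).lTensor (T k) t) =
      single (1 : PUnit.{u+1}) (TensorProduct.rid R (T k) t) := by
    intro t
    induction t using TensorProduct.induction_on with
    | zero => simp
    | add a b ha hb => simp only [map_add, ha, hb, single_add]
    | tmul s r =>
      rw [LinearMap.lTensor_tmul, Algebra.linearMap_apply, φ_tmul, AlgHom.commutes,
        TensorProduct.rid_tmul, MonoidAlgebra.coe_algebraMap]
      simp [Algebra.smul_def, mul_comm]
  refine (Function.Bijective.of_comp_iff' ((one R T).φ_bijective k) _).1 ?_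
  rw [show (one R T).φ k ∘ (Algebra.linearMap R (one R T).Alg).lTensor (T k) =
    (fun s => single (1 : PUnit.{u+1}) s) ∘ TensorProduct.rid R (T k) from funext hcomp]
  refine Function.Bijective.comp ⟨fun a b h => single_right_injective h, fun x => ?_⟩
    (TensorProduct.rid R (T k)).bijective
  exact ⟨x.coeff 1, MonoidAlgebra.ext (Finsupp.ext fun m => by
    cases Subsingleton.elim m 1
    simp)⟩

/-- The counit. -/
noncomputable def εA : D.Alg →ₐ[R] R :=
  ((AlgEquiv.ofBijective (Algebra.ofId R (one R T).Alg)
    algebraMap_one_bijective).symm.toAlgHom).comp (desc D.compat_one)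

theorem π_εA (k : ι) (a : D.Alg) {P : Type u} [CommGroup P] :
    md R (1 : M k →* P) (D.π k a) = algebraMap R (MonoidAlgebra (T k) P) (D.εA a) := by
  have h1 : desc D.compat_one a = algebraMap R (one R T).Alg (D.εA a) :=
    ((AlgEquiv.ofBijective (Algebra.ofId R (one R T).Alg)
      algebraMap_one_bijective).apply_symm_apply _).symm
  have h2 := congrArg ((one R T).π k) h1
  rw [π_desc, AlgHom.commutes] at h2
  have h3 := congrArg (md R (1 : PUnit.{u+1} →* P)) h2
  rwa [md_md, AlgHom.commutes, MonoidHom.one_comp] at h3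

/-- The comultiplication. -/
noncomputable def ΔA : D.Alg →ₐ[R] D.Alg ⊗[R] D.Alg :=
  (D.μEquiv D).symm.toAlgHom.comp (desc D.compat_diag)

theorem π_μ_ΔA (k : ι) (a : D.Alg) :
    (D.prod D).π k (D.μ D (D.ΔA a)) =
      md R ((MonoidHom.id (M k)).prod (MonoidHom.id (M k))) (D.π k a) := by
  rw [show D.μ D (D.ΔA a) = desc D.compat_diag a from (D.μEquiv D).apply_symm_apply _]
  rfl

theorem rTensor_ax : (Algebra.TensorProduct.map D.εA (AlgHom.id R D.Alg)).comp D.ΔA =
    (Algebra.TensorProduct.lid R D.Alg).symm := by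
  refine AlgHom.ext fun a => ?_
  apply (Algebra.TensorProduct.lid R D.Alg).injective
  rw [AlgHom.comp_apply]
  refine Eq.trans (alg_ext D fun k => ?_) ((Algebra.TensorProduct.lid R D.Alg).apply_symm_apply a).symm
  have h : ∀ w, D.π k (Algebra.TensorProduct.lid R D.Alg
      (Algebra.TensorProduct.map D.εA (AlgHom.id R D.Alg) w)) =
      md R (MonoidHom.snd (M k) (M k)) ((D.prod D).π k (D.μ D w)) := by
    intro w
    induction w using TensorProduct.induction_on with
    | zero => simp
    | add x y hx hy => simp only [map_add, hx, hy]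
    | tmul x y =>
      rw [π_μ_tmul, map_mul, md_md, md_md, MonoidHom.snd_comp_inl, MonoidHom.snd_comp_inr, md_id,
        π_εA]
      simp [Algebra.smul_def]
  rw [h, π_μ_ΔA, md_md, MonoidHom.snd_comp_prod, md_id]

theorem lTensor_ax : (Algebra.TensorProduct.map (AlgHom.id R D.Alg) D.εA).comp D.ΔA =
    (Algebra.TensorProduct.rid R R D.Alg).symm := by
  refine AlgHom.ext fun a => ?_
  apply (Algebra.TensorProduct.rid R R D.Alg).injective
  rw [AlgHom.comp_apply]
  refine Eq.trans (alg_ext D fun k => ?_)
    ((Algebra.TensorProduct.rid R R D.Alg).apply_symm_apply a).symm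
  have h : ∀ w, D.π k (Algebra.TensorProduct.rid R R D.Alg
      (Algebra.TensorProduct.map (AlgHom.id R D.Alg) D.εA w)) =
      md R (MonoidHom.fst (M k) (M k)) ((D.prod D).π k (D.μ D w)) := by
    intro w
    induction w using TensorProduct.induction_on with
    | zero => simp
    | add x y hx hy => simp only [map_add, hx, hy]
    | tmul x y =>
      rw [π_μ_tmul, map_mul, md_md, md_md, MonoidHom.fst_comp_inl, MonoidHom.fst_comp_inr, md_id,
        π_εA]
      simp [Algebra.smul_def, mul_comm]
  rw [h, π_μ_ΔA, md_md, MonoidHom.fst_comp_prod, md_id]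

theorem coassoc_ax : (Algebra.TensorProduct.assoc R R R D.Alg D.Alg D.Alg).toAlgHom.comp
      ((Algebra.TensorProduct.map D.ΔA (AlgHom.id R D.Alg)).comp D.ΔA) =
    (Algebra.TensorProduct.map (AlgHom.id R D.Alg) D.ΔA).comp D.ΔA := by
  refine AlgHom.ext fun a => ?_
  let ν : D.Alg ⊗[R] (D.Alg ⊗[R] D.Alg) →ₐ[R] (D.prod (D.prod D)).Alg :=
    (D.μ (D.prod D)).comp (Algebra.TensorProduct.congr AlgEquiv.refl (D.μEquiv D)).toAlgHom
  have hν : Function.Injective ν := (D.μ_bijective (D.prod D)).1.comp
    (Algebra.TensorProduct.congr AlgEquiv.refl (D.μEquiv D)).injective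
  apply hν
  refine alg_ext _ fun k => ?_
  let d := (MonoidHom.id (M k)).prod (MonoidHom.id (M k))
  let as : (M k × M k) × M k →* M k × (M k × M k) := MulEquiv.prodAssoc.toMonoidHom
  have hν_tmul : ∀ (x : D.Alg) (w : D.Alg ⊗[R] D.Alg), (D.prod (D.prod D)).π k (ν (x ⊗ₜ w)) =
      md R (MonoidHom.inl _ _) (D.π k x) *
        md R (MonoidHom.inr _ _) ((D.prod D).π k (D.μ D w)) := fun x w => rfl
  have hassoc : ∀ (v : D.Alg ⊗[R] D.Alg) (y : D.Alg), (D.prod (D.prod D)).π k
      (ν (Algebra.TensorProduct.assoc R R R D.Alg D.Alg D.Alg (v ⊗ₜ y))) =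
      md R as (md R (MonoidHom.inl _ _) ((D.prod D).π k (D.μ D v)) *
        md R (MonoidHom.inr _ _) (D.π k y)) := by
    intro v y
    induction v using TensorProduct.induction_on with
    | zero => simp
    | add p q hp hq => simp only [TensorProduct.add_tmul, map_add, hp, hq, add_mul]
    | tmul p q =>
      rw [Algebra.TensorProduct.assoc_tmul, hν_tmul, π_μ_tmul, π_μ_tmul, map_mul, map_mul,
        map_mul, map_mul, mul_assoc]
      simp only [md_md]
      rfl
  have hl : ∀ w, (D.prod (D.prod D)).π k (ν (Algebra.TensorProduct.assoc R R R D.Alg D.Alg D.Alg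
      (Algebra.TensorProduct.map D.ΔA (AlgHom.id R D.Alg) w))) =
      md R (as.comp (d.prodMap (MonoidHom.id _))) ((D.prod D).π k (D.μ D w)) := by
    intro w
    induction w using TensorProduct.induction_on with
    | zero => simp
    | add p q hp hq => simp only [map_add, hp, hq]
    | tmul p q =>
      rw [Algebra.TensorProduct.map_tmul, AlgHom.id_apply, hassoc, π_μ_ΔA, π_μ_tmul, map_mul,
        map_mul]
      simp only [md_md]
      rfl
  have hr : ∀ w, (D.prod (D.prod D)).π k
      (ν (Algebra.TensorProduct.map (AlgHom.id R D.Alg) D.ΔA w)) =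
      md R ((MonoidHom.id _).prodMap d) ((D.prod D).π k (D.μ D w)) := by
    intro w
    induction w using TensorProduct.induction_on with
    | zero => simp
    | add p q hp hq => simp only [map_add, hp, hq]
    | tmul p q =>
      rw [Algebra.TensorProduct.map_tmul, AlgHom.id_apply, hν_tmul, π_μ_ΔA, π_μ_tmul, map_mul]
      simp only [md_md]
      congr 2
  change (D.prod (D.prod D)).π k (ν (Algebra.TensorProduct.assoc R R R D.Alg D.Alg D.Alg
      (Algebra.TensorProduct.map D.ΔA (AlgHom.id R D.Alg) (D.ΔA a)))) =
    (D.prod (D.prod D)).π k (ν (Algebra.TensorProduct.map (AlgHom.id R D.Alg) D.ΔA (D.ΔA a)))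
  rw [hl, hr, π_μ_ΔA, md_md, md_md]
  rfl

/-- The bialgebra structure. -/
noncomputable instance instBialgebra : Bialgebra R D.Alg :=
  Bialgebra.ofAlgHom D.ΔA D.εA D.coassoc_ax D.rTensor_ax D.lTensor_ax

theorem comul_apply (a : D.Alg) : Coalgebra.comul (R := R) a = D.ΔA a := rfl

theorem counit_apply (a : D.Alg) : Coalgebra.counit (R := R) a = D.εA a := rfl

/-- The antipode. -/
noncomputable def sA : D.Alg →ₐ[R] D.Alg := desc D.compat_inv

/-- The Hopf algebra structure. -/
noncomputable instance instHopf : HopfAlgebra R D.Alg :=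
  HopfAlgebra.ofAlgHom D.sA
    (by
      refine AlgHom.ext fun a => alg_ext D fun k => ?_
      let ν : M k × M k →* M k := MonoidHom.coprod invMonoidHom (MonoidHom.id _)
      have h : ∀ w, D.π k (Algebra.TensorProduct.lift D.sA (AlgHom.id R D.Alg)
          (fun _ _ => Commute.all _ _) w) = md R ν ((D.prod D).π k (D.μ D w)) := by
        intro w
        induction w using TensorProduct.induction_on with
        | zero => simp
        | add p q hp hq => simp only [map_add, hp, hq]
        | tmul p q =>
          rw [π_μ_tmul, map_mul, md_md, md_md, MonoidHom.coprod_comp_inl,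
            MonoidHom.coprod_comp_inr, md_id, Algebra.TensorProduct.lift_tmul, map_mul]
          rfl
      rw [AlgHom.comp_apply, AlgHom.comp_apply, h, Bialgebra.comulAlgHom_apply, comul_apply,
        π_μ_ΔA, md_md, show ν.comp ((MonoidHom.id _).prod (MonoidHom.id _)) = 1 by ext x; simp [ν],
        π_εA]
      exact ((D.π k).commutes (D.εA a)).symm)
    (by
      refine AlgHom.ext fun a => alg_ext D fun k => ?_
      let ν : M k × M k →* M k := MonoidHom.coprod (MonoidHom.id _) invMonoidHom
      have h : ∀ w, D.π k (Algebra.TensorProduct.lift (AlgHom.id R D.Alg) D.sA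
          (fun _ _ => Commute.all _ _) w) = md R ν ((D.prod D).π k (D.μ D w)) := by
        intro w
        induction w using TensorProduct.induction_on with
        | zero => simp
        | add p q hp hq => simp only [map_add, hp, hq]
        | tmul p q =>
          rw [π_μ_tmul, map_mul, md_md, md_md, MonoidHom.coprod_comp_inl,
            MonoidHom.coprod_comp_inr, md_id, Algebra.TensorProduct.lift_tmul, map_mul]
          rfl
      rw [AlgHom.comp_apply, AlgHom.comp_apply, h, Bialgebra.comulAlgHom_apply, comul_apply,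
        π_μ_ΔA, md_md, show ν.comp ((MonoidHom.id _).prod (MonoidHom.id _)) = 1 by ext x; simp [ν],
        π_εA]
      exact ((D.π k).commutes (D.εA a)).symm)

theorem counit_π (k : ι) (a : D.Alg) :
    Coalgebra.counit (R := T k) (D.π k a) = algebraMap R (T k) (D.εA a) := by
  have h := D.π_εA k a (P := PUnit.{u+1})
  rw [md_one_eq, MonoidAlgebra.coe_algebraMap] at h
  exact single_right_injective h

theorem π_μ_map {B : Type u} [CommRing B] [Algebra R B] (ψ : B →ₐ[R] D.Alg) (k : ι)
    (E : T k ⊗[R] B →ₐ[T k] MonoidAlgebra (T k) (M k))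
    (hE : ∀ b, E ((1 : T k) ⊗ₜ b) = D.π k (ψ b)) (w : B ⊗[R] B) :
    (D.prod D).π k (D.μ D (Algebra.TensorProduct.map ψ ψ w)) =
      jMap (T k) (M k) (M k) (Algebra.TensorProduct.map E E
        (Algebra.TensorProduct.productMap
          (((Algebra.TensorProduct.includeLeft : T k ⊗[R] B →ₐ[T k]
            (T k ⊗[R] B) ⊗[T k] (T k ⊗[R] B)).restrictScalars R).comp
              Algebra.TensorProduct.includeRight)
          (((Algebra.TensorProduct.includeRight : T k ⊗[R] B →ₐ[T k]
            (T k ⊗[R] B) ⊗[T k] (T k ⊗[R] B)).restrictScalars R).comp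
              Algebra.TensorProduct.includeRight) w)) := by
  induction w using TensorProduct.induction_on with
  | zero => simp
  | add p q hp hq => simp only [map_add, hp, hq]
  | tmul p q => simp [π_μ_tmul, jMap_tmul R, hE, Algebra.TensorProduct.tmul_mul_tmul]

omit hff in
theorem comul_one_tmul {B : Type u} [CommRing B] [Bialgebra R B] (k : ι) (b : B) :
    Coalgebra.comul (R := T k) ((1 : T k) ⊗ₜ[R] b) =
      Algebra.TensorProduct.productMap
          (((Algebra.TensorProduct.includeLeft : T k ⊗[R] B →ₐ[T k]
            (T k ⊗[R] B) ⊗[T k] (T k ⊗[R] B)).restrictScalars R).comp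
              Algebra.TensorProduct.includeRight)
          (((Algebra.TensorProduct.includeRight : T k ⊗[R] B →ₐ[T k]
            (T k ⊗[R] B) ⊗[T k] (T k ⊗[R] B)).restrictScalars R).comp
              Algebra.TensorProduct.includeRight) (Coalgebra.comul (R := R) b) := by
  simp only [TensorProduct.comul_tmul, CommSemiring.comul_apply]
  generalize Coalgebra.comul (R := R) b = w
  induction w using TensorProduct.induction_on with
  | zero => simp
  | add p q hp hq => simp only [TensorProduct.tmul_add, map_add, hp, hq]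
  | tmul p q => simp [Algebra.TensorProduct.tmul_mul_tmul]

/-- The comparison is an equivalence of bialgebras. -/
noncomputable def φBialg (k : ι) : T k ⊗[R] D.Alg ≃ₐc[T k] MonoidAlgebra (T k) (M k) :=
  BialgEquiv.ofAlgEquiv (D.φEquiv k)
    (by
      refine Algebra.TensorProduct.ext_ring (AlgHom.ext fun a => ?_)
      simp [φEquiv, φ_tmul, counit_π, TensorProduct.counit_tmul, counit_apply,
        Algebra.smul_def])
    (by
      refine Algebra.TensorProduct.ext_ring (AlgHom.ext fun a => ?_)
      apply (jMap_bijective (A := T k) (M := M k) (N := M k)).1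
      simp only [AlgHom.coe_comp, AlgHom.coe_restrictScalars', Function.comp_apply,
        Algebra.TensorProduct.includeRight_apply, Bialgebra.comulAlgHom_apply, AlgHom.coe_coe]
      rw [comul_one_tmul, comul_apply,
        show (D.φEquiv k).toAlgHom ((1 : T k) ⊗ₜ[R] a) = D.π k a from
          (D.φ_tmul k 1 a).trans (one_smul _ _),
        jMap_comul R, ← D.π_μ_ΔA k a]
      refine Eq.trans (D.π_μ_map (AlgHom.id R D.Alg) k (D.φEquiv k)
        (fun b => by change D.φ k _ = _; rw [φ_tmul, one_smul]; rfl) _).symm ?_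
      rw [Algebra.TensorProduct.map_id, AlgHom.id_apply])

theorem φBialg_tmul (k : ι) (s : T k) (a : D.Alg) : D.φBialg k (s ⊗ₜ a) = s • D.π k a :=
  D.φ_tmul k s a

/-- Recognition of the descended Hopf algebra. -/
theorem recognize {B : Type u} [CommRing B] [HopfAlgebra R B]
    (e : ∀ k, T k ⊗[R] B ≃ₐc[T k] MonoidAlgebra (T k) (M k))
    (he : ∀ i j (b : B), tr (D.χ i j) inL inR (mapAlgHom (M i) inL (e i ((1 : T i) ⊗ₜ b))) =
      mapAlgHom (M j) inR (e j ((1 : T j) ⊗ₜ b))) :
    ∃ ψ : B ≃ₐc[R] D.Alg, ∀ k b, D.π k (ψ b) = e k ((1 : T k) ⊗ₜ b) := by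
  let ψ : B →ₐ[R] D.Alg :=
    AlgHom.codRestrict (AlgHom.pi fun k =>
      ((e k : T k ⊗[R] B →ₐ[T k] MonoidAlgebra (T k) (M k)).restrictScalars R).comp
        Algebra.TensorProduct.includeRight) D.Alg fun b => (D.mem_alg _).2 fun i j => he i j b
  have hψ : ∀ k b, D.π k (ψ b) = e k ((1 : T k) ⊗ₜ b) := fun k b => rfl
  have hbij : Function.Bijective ψ := by
    refine bijective_of_forall (T := T) ψ.toLinearMap fun k => ?_
    haveI := flat_apply (R := R) (T := T) k
    have hcomp : ∀ t, D.φ k (ψ.toLinearMap.lTensor (T k) t) = e k t := by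
      intro t
      induction t using TensorProduct.induction_on with
      | zero => simp
      | add a b ha hb => simp only [map_add, ha, hb]
      | tmul s b =>
        rw [LinearMap.lTensor_tmul, AlgHom.toLinearMap_apply, φ_tmul, hψ, ← map_smul,
          TensorProduct.smul_tmul', smul_eq_mul, mul_one]
    refine (Function.Bijective.of_comp_iff' (D.φ_bijective k) _).1 ?_
    rw [show D.φ k ∘ ψ.toLinearMap.lTensor (T k) = e k from funext hcomp]
    exact (e k).bijective
  refine ⟨BialgEquiv.ofAlgEquiv (AlgEquiv.ofBijective ψ hbij) ?_ ?_, hψ⟩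
  · refine AlgHom.ext fun b => ?_
    apply (algebraMap_one_bijective (R := R) (T := T)).1
    refine alg_ext _ fun k => ?_
    rw [AlgHom.commutes, AlgHom.commutes]
    change algebraMap R _ (D.εA (ψ b)) = algebraMap R _ (Coalgebra.counit (R := R) b)
    rw [← π_εA, hψ, md_one_eq, MonoidAlgebra.coe_algebraMap]
    refine congrArg (single 1) ?_
    rw [CoalgHomClass.counit_comp_apply, TensorProduct.counit_tmul]
    simp [Algebra.smul_def]
  · refine AlgHom.ext fun b => ?_
    apply (D.μ_bijective D).1
    refine alg_ext _ fun k => ?_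
    change (D.prod D).π k (D.μ D (Algebra.TensorProduct.map ψ ψ (Coalgebra.comul (R := R) b))) =
      (D.prod D).π k (D.μ D (D.ΔA (ψ b)))
    rw [π_μ_ΔA, hψ, D.π_μ_map ψ k (e k : T k ⊗[R] B →ₐ[T k] MonoidAlgebra (T k) (M k))
      (fun b => (hψ k b).symm), ← comul_one_tmul, ← jMap_comul R]
    congr 1
    exact CoalgHomClass.map_comp_comul_apply (e k) _

/-- Two compatible Hopf algebras are isomorphic. -/
theorem nonempty_equiv {B B' : Type u} [CommRing B] [HopfAlgebra R B] [CommRing B']
    [HopfAlgebra R B'] (e : ∀ k, T k ⊗[R] B ≃ₐc[T k] MonoidAlgebra (T k) (M k))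
    (he : ∀ i j (b : B), tr (D.χ i j) inL inR (mapAlgHom (M i) inL (e i ((1 : T i) ⊗ₜ b))) =
      mapAlgHom (M j) inR (e j ((1 : T j) ⊗ₜ b)))
    (e' : ∀ k, T k ⊗[R] B' ≃ₐc[T k] MonoidAlgebra (T k) (M k))
    (he' : ∀ i j (b : B'), tr (D.χ i j) inL inR (mapAlgHom (M i) inL (e' i ((1 : T i) ⊗ₜ b))) =
      mapAlgHom (M j) inR (e' j ((1 : T j) ⊗ₜ b))) :
    Nonempty (B ≃ₐc[R] B') := by
  obtain ⟨ψ, -⟩ := D.recognize e he
  obtain ⟨ψ', -⟩ := D.recognize e' he'
  exact ⟨ψ.trans ψ'.symm⟩

end finite

end Datum

end Groth.L25.Char.Descent
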