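import Groth.Agent.L25.Char.Split
import Groth.Agent.L25.Char.DescentHopf

/-!
# The descent datum of a split Hopf algebra
-/

set_option autoImplicit false

universe u

open TensorProduct MonoidAlgebra

namespace Groth.L25.Char.Descent

variable {R : Type u} [CommRing R] {A : Type u} [CommRing A] [HopfAlgebra R A]

theorem splitEquiv_map {R' : Type u} [CommRing R'] [Algebra R R'] {N : Type u} [CommGroup N]
    (e : R' ⊗[R] A ≃ₐc[R'] MonoidAlgebra R' N) (S : Type u) [CommRing S] [Algebra R S]
    [Algebra R' S] [IsScalarTower R R' S] (x : MonoidAlgebra R' N) :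
    splitEquiv e S (mapAlgHom N (IsScalarTower.toAlgHom R R' S) x) =
      mapT R A (IsScalarTower.toAlgHom R R' S) (e.symm x) := by
  induction x using MonoidAlgebra.induction_linear with
  | zero => simp
  | add a b ha hb => simp only [map_add, ha, hb]
  | single m r =>
    rw [mapAlgHom_single, show single m (IsScalarTower.toAlgHom R R' S r) =
        IsScalarTower.toAlgHom R R' S r • single m (1 : S) by rw [smul_single', mul_one],
      show single m r = r • single m (1 : R') by simp, map_smul, map_smul, splitEquiv_single,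
      mapT_smul]
    rfl

variable {ι : Type u} {T : ι → Type u} [∀ i, CommRing (T i)] [∀ i, Algebra R (T i)]
  {M : ι → Type u} [∀ i, CommGroup (M i)]
  (e : ∀ i, T i ⊗[R] A ≃ₐc[T i] MonoidAlgebra (T i) (M i))

section

variable {U U' : Type u} [CommRing U] [Algebra R U] [CommRing U'] [Algebra R U']

/-- The comparison over the second factor. -/
noncomputable def push (j : ι) (g' : T j →ₐ[R] U) : A →ₐ[R] MonoidAlgebra U (M j) :=
  (mapAlgHom (M j) g').comp
    (((e j : T j ⊗[R] A →ₐ[T j] MonoidAlgebra (T j) (M j)).restrictScalars R).comp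
      Algebra.TensorProduct.includeRight)

theorem push_apply (j : ι) (g' : T j →ₐ[R] U) (a : A) :
    push e j g' a = mapAlgHom (M j) g' (e j ((1 : T j) ⊗ₜ a)) := rfl

/-- The comparison over `U`. -/
noncomputable def Ψ (i j : ι) (g : T i →ₐ[R] U) (g' : T j →ₐ[R] U) :
    T i ⊗[R] A →ₐ[R] MonoidAlgebra U (M j) :=
  Algebra.TensorProduct.lift ((IsScalarTower.toAlgHom R U _).comp g) (push e j g')
    fun _ _ => Commute.all _ _

theorem Ψ_tmul (i j : ι) (g : T i →ₐ[R] U) (g' : T j →ₐ[R] U) (t : T i) (a : A) :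
    Ψ e i j g g' (t ⊗ₜ a) = g t • push e j g' a := by
  rw [Algebra.smul_def]
  rfl

theorem Ψ_smul (i j : ι) (g : T i →ₐ[R] U) (g' : T j →ₐ[R] U) (r : T i) (y : T i ⊗[R] A) :
    Ψ e i j g g' (r • y) = g r • Ψ e i j g g' y := by
  induction y using TensorProduct.induction_on with
  | zero => simp
  | add a b ha hb => simp only [smul_add, map_add, ha, hb]
  | tmul t a => rw [TensorProduct.smul_tmul', Ψ_tmul, Ψ_tmul, smul_eq_mul, map_mul, mul_smul]

theorem map_Ψ (i j : ι) (h : U →ₐ[R] U') (g : T i →ₐ[R] U) (g' : T j →ₐ[R] U)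
    (y : T i ⊗[R] A) :
    mapAlgHom (M j) h (Ψ e i j g g' y) = Ψ e i j (h.comp g) (h.comp g') y := by
  induction y using TensorProduct.induction_on with
  | zero => simp
  | add a b ha hb => simp only [map_add, ha, hb]
  | tmul t a => rw [Ψ_tmul, Ψ_tmul, map_smul', push_apply, push_apply, map_map]; rfl

end

theorem isGroupLikeElem_Ψ (i j : ι) {y : T i ⊗[R] A} (hy : IsGL R A (T i) y) :
    IsGroupLikeElem (T i ⊗[R] T j) (Ψ e i j inL inR y) := by
  let S := T i ⊗[R] T j
  letI : Algebra (T j) S := (inR : T j →ₐ[R] T i ⊗[R] T j).toRingHom.toAlgebra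
  haveI : IsScalarTower R (T j) S :=
    IsScalarTower.of_algebraMap_eq fun r => ((inR : T j →ₐ[R] T i ⊗[R] T j).commutes r).symm
  have h : ∀ z : T i ⊗[R] A,
      splitEquiv (e j) S (Ψ e i j inL inR z) = mapT R A inL z := by
    intro z
    induction z using TensorProduct.induction_on with
    | zero => simp
    | add a b ha hb => simp only [map_add, ha, hb]
    | tmul t a =>
      rw [Ψ_tmul, map_smul, push_apply]
      change _ • splitEquiv (e j) S (mapAlgHom (M j) (IsScalarTower.toAlgHom R (T j) S) _) = _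
      rw [splitEquiv_map, BialgEquiv.symm_apply_apply]
      simp [TensorProduct.smul_tmul', S]
  have h1 := ((isGL_iff R A S _).1 (hy.map inL)).map (splitEquiv (e j) S).symm
  rwa [← h, BialgEquiv.symm_apply_apply] at h1

/-- The characters of a splitting. -/
noncomputable def splitχ (i j : ι) : M i →* MonoidAlgebra (T i ⊗[R] T j) (M j) :=
  (Ψ e i j inL inR).toRingHom.toMonoidHom.comp
    ((((e i).symm : MonoidAlgebra (T i) (M i) →ₐ[T i] T i ⊗[R] A).toRingHom.toMonoidHom).comp
      (MonoidAlgebra.of (T i) (M i)))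

theorem splitχ_apply (i j : ι) (m : M i) :
    splitχ e i j m = Ψ e i j inL inR (splitElem (e i) m) := rfl

theorem map_splitχ {i j : ι} {U : Type u} [CommRing U] [Algebra R U] (g : T i →ₐ[R] U)
    (g' : T j →ₐ[R] U) (m : M i) :
    mapAlgHom (M j) (pull g g') (splitχ e i j m) = Ψ e i j g g' (splitElem (e i) m) := by
  rw [splitχ_apply, map_Ψ, pull_inL, pull_inR]

theorem tr_splitχ {i j : ι} {U : Type u} [CommRing U] [Algebra R U] (g : T i →ₐ[R] U)
    (g' : T j →ₐ[R] U) (x : MonoidAlgebra (T i) (M i)) :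
    tr (splitχ e i j) g g' (mapAlgHom (M i) g x) = Ψ e i j g g' ((e i).symm x) := by
  induction x using MonoidAlgebra.induction_linear with
  | zero => simp
  | add a b ha hb => simp only [map_add, ha, hb]
  | single m r =>
    rw [mapAlgHom_single, tr_single, map_splitχ,
      show single m r = r • single m (1 : T i) by simp, map_smul, Ψ_smul]
    rfl

theorem tr_Ψ {i j k : ι} {U : Type u} [CommRing U] [Algebra R U] (g : T i →ₐ[R] U)
    (g' : T j →ₐ[R] U) (g'' : T k →ₐ[R] U) (y : T i ⊗[R] A) :
    tr (splitχ e j k) g' g'' (Ψ e i j g g' y) = Ψ e i k g g'' y := by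
  induction y using TensorProduct.induction_on with
  | zero => simp
  | add a b ha hb => simp only [map_add, ha, hb]
  | tmul t a =>
    rw [Ψ_tmul, map_smul, push_apply, tr_splitχ, BialgEquiv.symm_apply_apply, Ψ_tmul, Ψ_tmul,
      map_one, one_smul]

theorem Ψ_id (k : ι) (y : T k ⊗[R] A) :
    Ψ e k k (AlgHom.id R (T k)) (AlgHom.id R (T k)) y = e k y := by
  induction y using TensorProduct.induction_on with
  | zero => simp
  | add a b ha hb => simp only [map_add, ha, hb]
  | tmul t a =>
    rw [Ψ_tmul, push_apply, mapAlgHom_id, AlgHom.id_apply, AlgHom.id_apply, ← map_smul,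
      TensorProduct.smul_tmul', smul_eq_mul, mul_one]

/-- The datum of a splitting. -/
noncomputable def ofSplit : Datum R T M where
  χ := splitχ e
  gl i j m := isGroupLikeElem_Ψ e i j (isGL_splitElem (e i) m)
  unit k m := by
    rw [map_splitχ, Ψ_id]
    exact (e k).apply_symm_apply _
  cocycle i j k U _ _ g g' g'' m := by rw [map_splitχ, map_splitχ, tr_Ψ]

theorem ofSplit_compat (i j : ι) (a : A) :
    tr ((ofSplit e).χ i j) inL inR (mapAlgHom (M i) inL (e i ((1 : T i) ⊗ₜ a))) =
      mapAlgHom (M j) inR (e j ((1 : T j) ⊗ₜ a)) := by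
  change tr (splitχ e i j) _ _ _ = _
  rw [tr_splitχ, BialgEquiv.symm_apply_apply, Ψ_tmul, map_one, one_smul, push_apply]

end Groth.L25.Char.Descent
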