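import Groth.Agent.L25.Char.NilSplit
import Groth.Agent.L25.Char.DescentSplit

/-!
# Lifting descended Hopf algebras from a quotient
-/

set_option autoImplicit false

universe u

open TensorProduct MonoidAlgebra Groth.L25.MultType

namespace Groth.L25.Char.Descent

/-- A surjection along which idempotents lift uniquely. -/
structure GoodHom {U V : Type u} [CommRing U] [CommRing V] (q : U →+* V) : Prop where
  surj : Function.Surjective q
  ker_le : RingHom.ker q ≤ (⊥ : Ideal U).jacobson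
  lift : ∀ e₀ : V, IsIdempotentElem e₀ → ∃ e : U, IsIdempotentElem e ∧ q e = e₀

section groupLike

variable {U V : Type u} [CommRing U] [CommRing V] {q : U →+* V} (hq : GoodHom q)
  {N : Type u} [CommGroup N]

theorem eq_zero_of_idem_of_mem_jacobson {e : U} (he : IsIdempotentElem e)
    (h : e ∈ (⊥ : Ideal U).jacobson) : e = 0 := by
  have hu : IsUnit (e * (-1) + 1) := Ideal.mem_jacobson_bot.1 h (-1)
  have h1 : e * (e * (-1) + 1) = 0 := by
    linear_combination (norm := ring_nf) -he.eq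
  exact (hu.mul_left_eq_zero).1 h1

include hq in
theorem idem_ext {e e' : U} (he : IsIdempotentElem e) (he' : IsIdempotentElem e')
    (h : q e = q e') : e = e' := by
  have h1 : e * (1 - e') = 0 := by
    refine eq_zero_of_idem_of_mem_jacobson (he.mul he'.one_sub) (hq.ker_le ?_)
    rw [RingHom.mem_ker, map_mul, map_sub, map_one, h, mul_sub, mul_one, ← map_mul, he'.eq,
      sub_self]
  have h2 : e' * (1 - e) = 0 := by
    refine eq_zero_of_idem_of_mem_jacobson (he'.mul he.one_sub) (hq.ker_le ?_)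
    rw [RingHom.mem_ker, map_mul, map_sub, map_one, h, mul_sub, mul_one, ← map_mul, he'.eq,
      sub_self]
  linear_combination h1 - h2

include hq in
theorem groupLike_ext' {x y : MonoidAlgebra U N} (hx : IsGroupLikeElem U x)
    (hy : IsGroupLikeElem U y)
    (h : MonoidAlgebra.mapRingHom N q x = MonoidAlgebra.mapRingHom N q y) : x = y := by
  refine MonoidAlgebra.ext (Finsupp.ext fun m => idem_ext hq (isIdempotentElem_coeff hx m)
    (isIdempotentElem_coeff hy m) ?_)
  have := congrArg (fun z : MonoidAlgebra V N => z.coeff m) h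
  simpa using this

theorem completeOrthogonalIdempotents_coeff {x : MonoidAlgebra U N} (hx : IsGroupLikeElem U x) :
    CompleteOrthogonalIdempotents fun i : x.coeff.support => x.coeff i := by
  classical
  refine ⟨⟨fun i => isIdempotentElem_coeff hx _, fun i j hij => ?_⟩, ?_⟩
  · have := coeff_mul_coeff hx (i : N) j
    rwa [if_neg (fun h => hij (Subtype.ext h))] at this
  · have := sum_coeff hx
    rw [Finsupp.sum] at this
    rwa [← Finset.sum_coe_sort] at this

theorem sum_single_coeff (x : MonoidAlgebra U N) :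
    ∑ i : x.coeff.support, single (i : N) (x.coeff i) = x :=
  (Finset.sum_coe_sort x.coeff.support fun m => single m (x.coeff m)).trans
    (MonoidAlgebra.sum_coeff_single x)

theorem isGroupLikeElem_mapRingHom (f : U →+* V) {x : MonoidAlgebra U N}
    (hx : IsGroupLikeElem U x) : IsGroupLikeElem V (MonoidAlgebra.mapRingHom N f x) := by
  rw [← sum_single_coeff x, map_sum]
  simp_rw [MonoidAlgebra.mapRingHom_single]
  exact isGroupLikeElem_sum_single (fun i : x.coeff.support => (i : N)) _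
    ((completeOrthogonalIdempotents_coeff hx).map f)

include hq in
theorem exists_groupLike_lift' {x₀ : MonoidAlgebra V N} (hx : IsGroupLikeElem V x₀) :
    ∃ x : MonoidAlgebra U N, IsGroupLikeElem U x ∧ MonoidAlgebra.mapRingHom N q x = x₀ := by
  classical
  have he := completeOrthogonalIdempotents_coeff hx
  choose c hc hqc using fun i : x₀.coeff.support => hq.lift _ (he.idem i)
  have hortho : OrthogonalIdempotents c := ⟨hc, fun i j hij => by
    refine eq_zero_of_idem_of_mem_jacobson ((hc i).mul (hc j)) (hq.ker_le ?_)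
    rw [RingHom.mem_ker, map_mul, hqc, hqc]
    exact he.ortho hij⟩
  have hsum : ∑ i, c i = 1 := by
    have h1 : (1 : U) - ∑ i, c i = 0 := by
      refine eq_zero_of_idem_of_mem_jacobson hortho.isIdempotentElem_sum.one_sub (hq.ker_le ?_)
      rw [RingHom.mem_ker, map_sub, map_one, map_sum]
      simp_rw [hqc]
      rw [he.complete, sub_self]
    exact (sub_eq_zero.1 h1).symm
  refine ⟨∑ i : x₀.coeff.support, single (i : N) (c i), isGroupLikeElem_sum_single _ _ ⟨hortho, hsum⟩, ?_⟩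
  rw [map_sum]
  simp_rw [MonoidAlgebra.mapRingHom_single, hqc]
  exact sum_single_coeff x₀

end groupLike

variable {R : Type u} [CommRing R]

section trGL

variable {T₁ T₂ : Type u} [CommRing T₁] [Algebra R T₁] [CommRing T₂] [Algebra R T₂]
  {M N : Type u} [CommGroup M] [CommGroup N]
  (χ : M →* MonoidAlgebra (T₁ ⊗[R] T₂) N) {U : Type u} [CommRing U] [Algebra R U]

theorem isGroupLikeElem_tr (hχ : ∀ m, IsGroupLikeElem (T₁ ⊗[R] T₂) (χ m)) (g : T₁ →ₐ[R] U)
    (g' : T₂ →ₐ[R] U) {x : MonoidAlgebra U M} (hx : IsGroupLikeElem U x) :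
    IsGroupLikeElem U (tr χ g g' x) := by
  let θ : M →* GroupLike U (MonoidAlgebra U N) :=
    { toFun := fun m => ⟨mapAlgHom N (pull g g') (χ m),
        isGroupLikeElem_mapRingHom (pull g g').toRingHom (hχ m)⟩
      map_one' := GroupLike.ext (by simp)
      map_mul' := fun a b => GroupLike.ext (by simp) }
  let Φ : MonoidAlgebra U M →ₐc[U] MonoidAlgebra U N :=
    (MonoidAlgebra.liftGroupLikeBialgHom).comp (MonoidAlgebra.mapDomainBialgHom U θ)
  have : tr χ g g' x = Φ x := by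
    clear hx
    induction x using MonoidAlgebra.induction_linear with
    | zero => simp
    | add a b ha hb => simp only [map_add, ha, hb]
    | single m r => rw [tr_single]; simp [Φ, θ]
  rw [this]
  exact hx.map Φ

end trGL

variable (I : Ideal R)

/-- The reduction map of an algebra. -/
noncomputable abbrev red (U : Type u) [CommRing U] [Algebra R U] : U →ₐ[R] (R ⧸ I) ⊗[R] U :=
  Algebra.TensorProduct.includeRight

/-- Reduction of a map. -/
noncomputable abbrev bar {U V : Type u} [CommRing U] [Algebra R U] [CommRing V] [Algebra R V]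
    (g : U →ₐ[R] V) : (R ⧸ I) ⊗[R] U →ₐ[R ⧸ I] (R ⧸ I) ⊗[R] V :=
  Algebra.TensorProduct.map (AlgHom.id (R ⧸ I) (R ⧸ I)) g

theorem bar_comp {U V W : Type u} [CommRing U] [Algebra R U] [CommRing V] [Algebra R V]
    [CommRing W] [Algebra R W] (g : U →ₐ[R] V) (h : V →ₐ[R] W) :
    (bar I h).comp (bar I g) = bar I (h.comp g) :=
  Algebra.TensorProduct.ext_ring (AlgHom.ext fun a => by simp)

theorem bar_id (U : Type u) [CommRing U] [Algebra R U] :
    bar I (AlgHom.id R U) = AlgHom.id (R ⧸ I) _ :=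
  Algebra.TensorProduct.ext_ring (AlgHom.ext fun a => by simp)

theorem bar_red {U V : Type u} [CommRing U] [Algebra R U] [CommRing V] [Algebra R V]
    (g : U →ₐ[R] V) : ((bar I g).restrictScalars R).comp (red I U) = (red I V).comp g :=
  AlgHom.ext fun a => by simp

/-- Extension of a map to the reduction. -/
noncomputable def fromBar {U W : Type u} [CommRing U] [Algebra R U] [CommRing W] [Algebra R W]
    [Algebra (R ⧸ I) W] [IsScalarTower R (R ⧸ I) W] (h : U →ₐ[R] W) :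
    (R ⧸ I) ⊗[R] U →ₐ[R ⧸ I] W :=
  Algebra.TensorProduct.lift (Algebra.ofId (R ⧸ I) W) h fun _ _ => Commute.all _ _

theorem fromBar_tmul {U W : Type u} [CommRing U] [Algebra R U] [CommRing W] [Algebra R W]
    [Algebra (R ⧸ I) W] [IsScalarTower R (R ⧸ I) W] (h : U →ₐ[R] W) (u : U) :
    fromBar I h ((1 : R ⧸ I) ⊗ₜ[R] u) = h u := by
  simp [fromBar]

theorem mapAlgHom_restrict {U V N : Type u} [CommRing U] [Algebra R U] [Algebra (R ⧸ I) U]
    [IsScalarTower R (R ⧸ I) U] [CommRing V] [Algebra R V] [Algebra (R ⧸ I) V]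
    [IsScalarTower R (R ⧸ I) V] [CommGroup N] (f : U →ₐ[R ⧸ I] V) (x : MonoidAlgebra U N) :
    mapAlgHom N (f.restrictScalars R) x = mapAlgHom N f x := rfl

variable {ι : Type u} {T : ι → Type u} [∀ i, CommRing (T i)] [∀ i, Algebra R (T i)]
  {M : ι → Type u} [∀ i, CommGroup (M i)]
  (D₀ : Datum (R ⧸ I) (fun i => (R ⧸ I) ⊗[R] T i) M)

/-- The value to be lifted. -/
noncomputable def redχ (i j : ι) (m : M i) :
    MonoidAlgebra ((R ⧸ I) ⊗[R] (T i ⊗[R] T j)) (M j) :=
  mapAlgHom (M j) (pull (bar I inL) (bar I inR)) (D₀.χ i j m)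

theorem exists_χ (h₂ : ∀ i j, GoodHom (red I (T i ⊗[R] T j)).toRingHom) :
    ∃ χ : ∀ i j, M i →* MonoidAlgebra (T i ⊗[R] T j) (M j),
      (∀ i j m, IsGroupLikeElem (T i ⊗[R] T j) (χ i j m)) ∧
      ∀ i j m, mapAlgHom (M j) (red I (T i ⊗[R] T j)) (χ i j m) = redχ I D₀ i j m := by
  choose x hx hxq using fun i j (m : M i) => exists_groupLike_lift' (h₂ i j)
    (isGroupLikeElem_mapRingHom (pull (bar I inL) (bar I inR)).toRingHom (D₀.gl i j m))
  refine ⟨fun i j => ⟨⟨x i j, ?_⟩, fun a b => ?_⟩, hx, hxq⟩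
  · refine groupLike_ext' (h₂ i j) (hx i j 1) IsGroupLikeElem.one ?_
    rw [hxq, map_one, map_one, map_one]
  · refine groupLike_ext' (h₂ i j) (hx i j _) ((hx i j a).mul (hx i j b)) ?_
    rw [hxq, map_mul, map_mul, map_mul, hxq, hxq]

variable {I D₀}
  {χ : ∀ i j, M i →* MonoidAlgebra (T i ⊗[R] T j) (M j)}
  (hχ : ∀ i j m, mapAlgHom (M j) (red I (T i ⊗[R] T j)) (χ i j m) = redχ I D₀ i j m)

include hχ in
theorem red_map_χ {i j : ι} {U : Type u} [CommRing U] [Algebra R U] (g : T i →ₐ[R] U)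
    (g' : T j →ₐ[R] U) (m : M i) :
    mapAlgHom (M j) (red I U) (mapAlgHom (M j) (pull g g') (χ i j m)) =
      mapAlgHom (M j) (pull (bar I g) (bar I g')) (D₀.χ i j m) := by
  rw [map_map, ← bar_red, ← map_map, hχ, mapAlgHom_restrict, redχ, map_map, comp_pull,
    bar_comp, bar_comp, pull_inL, pull_inR]

include hχ in
theorem red_tr {i j : ι} {U : Type u} [CommRing U] [Algebra R U] (g : T i →ₐ[R] U)
    (g' : T j →ₐ[R] U) (y : MonoidAlgebra U (M i)) :
    mapAlgHom (M j) (red I U) (tr (χ i j) g g' y) =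
      tr (D₀.χ i j) (bar I g) (bar I g') (mapAlgHom (M i) (red I U) y) := by
  induction y using MonoidAlgebra.induction_linear with
  | zero => simp
  | add a b ha hb => simp only [map_add, ha, hb]
  | single m r =>
    rw [tr_single, map_smul', red_map_χ hχ, mapAlgHom_single, tr_single]

variable (I D₀) in
/-- The lifted datum. -/
theorem exists_datum (h₁ : ∀ i, GoodHom (red I (T i)).toRingHom)
    (h₂ : ∀ i j, GoodHom (red I (T i ⊗[R] T j)).toRingHom)
    (h₃ : ∀ i j k, GoodHom (red I (T i ⊗[R] (T j ⊗[R] T k))).toRingHom) :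
    ∃ D : Datum R T M, ∀ i j m,
      mapAlgHom (M j) (red I (T i ⊗[R] T j)) (D.χ i j m) = redχ I D₀ i j m := by
  obtain ⟨χ, hgl, hχ⟩ := exists_χ I D₀ h₂
  refine ⟨⟨χ, hgl, fun k m => ?_, fun i j k U _ _ g g' g'' m => ?_⟩, hχ⟩
  · refine groupLike_ext' (h₁ k) (isGroupLikeElem_mapRingHom
      (pull (AlgHom.id R (T k)) (AlgHom.id R (T k))).toRingHom (hgl k k m))
      (MonoidAlgebra.isGroupLikeElem_single_one m) ?_
    change mapAlgHom (M k) (red I (T k))
      (mapAlgHom (M k) (pull (AlgHom.id R (T k)) (AlgHom.id R (T k))) (χ k k m)) = _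
    rw [red_map_χ hχ, bar_id, D₀.unit]
    simp [Algebra.TensorProduct.one_def]
  · let V := T i ⊗[R] (T j ⊗[R] T k)
    let g₀ : T i →ₐ[R] V := inL
    let g₁ : T j →ₐ[R] V := inR.comp inL
    let g₂ : T k →ₐ[R] V := inR.comp inR
    have h : tr (χ j k) g₁ g₂ (mapAlgHom (M j) (pull g₀ g₁) (χ i j m)) =
        mapAlgHom (M k) (pull g₀ g₂) (χ i k m) := by
      refine groupLike_ext' (h₃ i j k) (isGroupLikeElem_tr _ (hgl j k) _ _
        (isGroupLikeElem_mapRingHom (pull g₀ g₁).toRingHom (hgl i j m)))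
        (isGroupLikeElem_mapRingHom (pull g₀ g₂).toRingHom (hgl i k m)) ?_
      change mapAlgHom (M k) (red I V)
          (tr (χ j k) g₁ g₂ (mapAlgHom (M j) (pull g₀ g₁) (χ i j m))) =
        mapAlgHom (M k) (red I V) (mapAlgHom (M k) (pull g₀ g₂) (χ i k m))
      rw [red_tr hχ, red_map_χ hχ, red_map_χ hχ, D₀.cocycle]
    let H : V →ₐ[R] U := pull g (pull g' g'')
    have e0 : H.comp g₀ = g := pull_inL _ _
    have e1 : H.comp g₁ = g' := by
      rw [← AlgHom.comp_assoc, pull_inR, pull_inL]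
    have e2 : H.comp g₂ = g'' := by
      rw [← AlgHom.comp_assoc, pull_inR, pull_inR]
    have h' := congrArg (mapAlgHom (M k) H) h
    rwa [map_tr, map_map, map_map, comp_pull, comp_pull, e0, e1, e2] at h'

theorem red_compat (D : Datum R T M)
    (hD : ∀ i j m, mapAlgHom (M j) (red I (T i ⊗[R] T j)) (D.χ i j m) = redχ I D₀ i j m)
    {i j : ι} {W : Type u} [CommRing W] [Algebra R W] [Algebra (R ⧸ I) W]
    [IsScalarTower R (R ⧸ I) W] (ρ : (R ⧸ I) ⊗[R] (T i ⊗[R] T j) →ₐ[R ⧸ I] W) (a : D.Alg) :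
    tr (D₀.χ i j) (ρ.comp (bar I inL)) (ρ.comp (bar I inR))
        (mapAlgHom (M i) (ρ.comp (bar I inL)) (mapAlgHom (M i) (red I (T i)) (D.π i a))) =
      mapAlgHom (M j) (ρ.comp (bar I inR)) (mapAlgHom (M j) (red I (T j)) (D.π j a)) := by
  have h := congrArg (fun z => mapAlgHom (M j) ρ (mapAlgHom (M j) (red I (T i ⊗[R] T j)) z))
    (D.compat (inL : T i →ₐ[R] T i ⊗[R] T j) inR a)
  simp only [red_tr hD, map_tr] at h
  have e : ∀ {k : ι} (f : T k →ₐ[R] T i ⊗[R] T j),
      mapAlgHom (M k) ρ (mapAlgHom (M k) (red I (T i ⊗[R] T j)) (mapAlgHom (M k) f (D.π k a))) =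
        mapAlgHom (M k) (ρ.comp (bar I f)) (mapAlgHom (M k) (red I (T k)) (D.π k a)) := fun f => by
    rw [map_map f, ← bar_red, ← map_map, mapAlgHom_restrict, map_map]
  rwa [e, e] at h

variable (I) in
theorem faithfullyFlat_bar [Fintype ι] [Module.FaithfullyFlat R (∀ i, T i)] :
    Module.FaithfullyFlat (R ⧸ I) (∀ i, (R ⧸ I) ⊗[R] T i) := by
  classical
  exact Module.FaithfullyFlat.of_linearEquiv _ ((R ⧸ I) ⊗[R] (∀ i, T i))
    (TensorProduct.piRight R (R ⧸ I) (R ⧸ I) T).symm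

/-- A Hopf algebra over a quotient which is split over liftable algebras lifts. -/
theorem exists_hopf_lift [Fintype ι] [Module.FaithfullyFlat R (∀ i, T i)]
    {B₀ : Type u} [CommRing B₀] [HopfAlgebra (R ⧸ I) B₀]
    (e₀ : ∀ i, ((R ⧸ I) ⊗[R] T i) ⊗[R ⧸ I] B₀ ≃ₐc[(R ⧸ I) ⊗[R] T i]
      MonoidAlgebra ((R ⧸ I) ⊗[R] T i) (M i))
    (h₁ : ∀ i, GoodHom (red I (T i)).toRingHom)
    (h₂ : ∀ i j, GoodHom (red I (T i ⊗[R] T j)).toRingHom)
    (h₃ : ∀ i j k, GoodHom (red I (T i ⊗[R] (T j ⊗[R] T k))).toRingHom) :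
    ∃ (A : Type u) (_ : CommRing A) (_ : HopfAlgebra R A),
      (∀ i, Nonempty (T i ⊗[R] A ≃ₐc[T i] MonoidAlgebra (T i) (M i))) ∧
      Nonempty ((R ⧸ I) ⊗[R] A ≃ₐc[R ⧸ I] B₀) := by
  obtain ⟨D, hD⟩ := exists_datum I (ofSplit e₀) h₁ h₂ h₃
  refine ⟨D.Alg, inferInstance, inferInstance, fun i => ⟨D.φBialg i⟩, ?_⟩
  haveI := faithfullyFlat_bar (T := T) I
  letI : ∀ i, Algebra (T i) ((R ⧸ I) ⊗[R] T i) := fun i => (red I (T i)).toRingHom.toAlgebra
  haveI : ∀ i, IsScalarTower R (T i) ((R ⧸ I) ⊗[R] T i) := fun i =>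
    IsScalarTower.of_algebraMap_eq fun r => ((red I (T i)).commutes r).symm
  let e : ∀ i, ((R ⧸ I) ⊗[R] T i) ⊗[(R ⧸ I)] ((R ⧸ I) ⊗[R] D.Alg) ≃ₐc[(R ⧸ I) ⊗[R] T i]
      MonoidAlgebra ((R ⧸ I) ⊗[R] T i) (M i) := fun i =>
    (cancelBialg R (R ⧸ I) ((R ⧸ I) ⊗[R] T i) D.Alg).trans (splitEquiv (D.φBialg i) ((R ⧸ I) ⊗[R] T i)).symm
  have he1 : ∀ i a, e i ((1 : (R ⧸ I) ⊗[R] T i) ⊗ₜ[(R ⧸ I)] ((1 : (R ⧸ I)) ⊗ₜ[R] a)) =
      mapAlgHom (M i) (red I (T i)) (D.π i a) := by
    intro i a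
    change (splitEquiv (D.φBialg i) ((R ⧸ I) ⊗[R] T i)).symm
      (cancelBialg R (R ⧸ I) ((R ⧸ I) ⊗[R] T i) D.Alg (1 ⊗ₜ (1 ⊗ₜ a))) = _
    rw [cancelBialg_tmul, one_smul]
    have key : splitEquiv (D.φBialg i) ((R ⧸ I) ⊗[R] T i)
        (mapAlgHom (M i) (red I (T i)) (D.π i a)) = (1 : (R ⧸ I) ⊗[R] T i) ⊗ₜ[R] a := by
      change splitEquiv (D.φBialg i) ((R ⧸ I) ⊗[R] T i)
        (mapAlgHom (M i) (IsScalarTower.toAlgHom R (T i) ((R ⧸ I) ⊗[R] T i)) (D.π i a)) = _
      rw [splitEquiv_map, show D.π i a = D.φBialg i ((1 : T i) ⊗ₜ a) by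
        rw [Datum.φBialg_tmul, one_smul], BialgEquiv.symm_apply_apply]
      simp
    rw [← key, BialgEquiv.symm_apply_apply]
  refine (ofSplit e₀).nonempty_equiv e (fun i j b => ?_) e₀ (ofSplit_compat e₀)
  induction b using TensorProduct.induction_on with
  | zero => simp
  | add a b ha hb => simp only [TensorProduct.tmul_add, map_add, ha, hb]
  | tmul r a =>
    obtain ⟨r, rfl⟩ := Ideal.Quotient.mk_surjective r
    have hr : (Ideal.Quotient.mk I r) ⊗ₜ[R] a = (1 : (R ⧸ I)) ⊗ₜ[R] (r • a) := by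
      rw [TensorProduct.tmul_smul, TensorProduct.smul_tmul', Algebra.smul_def, mul_one]
      rfl
    rw [hr, he1, he1]
    generalize r • a = a'
    let ρ : (R ⧸ I) ⊗[R] (T i ⊗[R] T j) →ₐ[(R ⧸ I)] ((R ⧸ I) ⊗[R] T i) ⊗[(R ⧸ I)] ((R ⧸ I) ⊗[R] T j) :=
      fromBar I
        (pull (((inL : (R ⧸ I) ⊗[R] T i →ₐ[(R ⧸ I)] ((R ⧸ I) ⊗[R] T i) ⊗[(R ⧸ I)] ((R ⧸ I) ⊗[R] T j)).restrictScalars R).comp
            (red I (T i)))
          (((inR : (R ⧸ I) ⊗[R] T j →ₐ[(R ⧸ I)] ((R ⧸ I) ⊗[R] T i) ⊗[(R ⧸ I)] ((R ⧸ I) ⊗[R] T j)).restrictScalars R).comp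
            (red I (T j))))
    have hρl : ρ.comp (bar I inL) = inL :=
      Algebra.TensorProduct.ext_ring (AlgHom.ext fun t => by
        simp only [ρ, AlgHom.coe_comp, AlgHom.coe_restrictScalars', Function.comp_apply,
          Algebra.TensorProduct.includeRight_apply, Algebra.TensorProduct.map_tmul,
          AlgHom.id_apply, fromBar_tmul]
        simp [Algebra.TensorProduct.one_def])
    have hρr : ρ.comp (bar I inR) = inR :=
      Algebra.TensorProduct.ext_ring (AlgHom.ext fun t => by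
        simp only [ρ, AlgHom.coe_comp, AlgHom.coe_restrictScalars', Function.comp_apply,
          Algebra.TensorProduct.includeRight_apply, Algebra.TensorProduct.map_tmul,
          AlgHom.id_apply, fromBar_tmul]
        simp [Algebra.TensorProduct.one_def])
    have h := red_compat (W := ((R ⧸ I) ⊗[R] T i) ⊗[R ⧸ I] ((R ⧸ I) ⊗[R] T j)) D hD ρ a'
    rw [hρl, hρr] at h
    exact h

end Groth.L25.Char.Descent
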