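import Groth.Agent.L25.Char.Scheme
import Groth.Agent.L06.FibreComp
import Groth.Agent.L20.FlatLocusOpen
import Mathlib.RingTheory.Smooth.Fiber
import Mathlib.RingTheory.Localization.Away.AdjoinRoot
import Mathlib.RingTheory.Flat.FaithfullyFlat.Algebra

/-!
# Characters extend to étale neighbourhoods

A character of a group of multiplicative type over a flat local algebra extends to an étale
neighbourhood of its image.
-/

set_option autoImplicit false

universe u

open TensorProduct

namespace Groth.L25.Char

variable {R A : Type u} [CommRing R] [CommRing A] [HopfAlgebra R A]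

/-- A group-like element over a flat local algebra with a splitting comes from an étale algebra. -/
theorem exists_etale_char [Module.Projective R A] {S : Type u} [CommRing S] [Algebra R S]
    [Module.FaithfullyFlat R S] {N : Type u} [CommGroup N]
    (eS : S ⊗[R] A ≃ₐc[S] MonoidAlgebra S N) {R' : Type u} [CommRing R'] [Algebra R R']
    [IsLocalRing R'] [Module.Flat R R'] {M : Type u} [CommGroup M]
    (e : R' ⊗[R] A ≃ₐc[R'] MonoidAlgebra R' M) (m : M) :
    ∃ (B : Type u) (_ : CommRing B) (_ : Algebra R B) (_ : Algebra.Etale R B) (ψ : B →ₐ[R] R')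
      (x : B ⊗[R] A), IsGL R A B x ∧ mapT R A ψ x = splitElem e m := by
  classical
  obtain ⟨ι, hι⟩ := Module.projective_def'.1 ‹Module.Projective R A›
  obtain ⟨ι₂, hι₂⟩ := Module.projective_def'.1
    (inferInstance : Module.Projective R (A ⊗[R] A))
  let π : (A →₀ R) →ₗ[R] A := Finsupp.linearCombination R id
  let s : Finset A := (coordT ι R' (splitElem e m)).support
  let B₀ := CharRing ι π ι₂ s
  let u := univChar ι π ι₂ s
  have hu : IsGL R A B₀ u := isGL_univChar hι₂
  obtain ⟨g, hg⟩ := exists_hom (ι₂ := ι₂) (π := π) (s := s) hι (isGL_splitElem e m) subset_rfl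
  haveI : Module.Flat R A := inferInstance
  haveI : Algebra.FormallyUnramified R B₀ := formallyUnramified hι₂ eS
  let q : Ideal B₀ := (IsLocalRing.maximalIdeal R').comap g.toRingHom
  haveI : q.IsPrime := Ideal.IsPrime.comap _
  -- the local ring of `B₀ ⊗ R'` at the section
  let W := B₀ ⊗[R] R'
  let sec : W →ₐ[R] R' := Algebra.TensorProduct.lift g (AlgHom.id R R') fun _ _ => Commute.all _ _
  let q' : @Ideal W CommSemiring.toSemiring := (IsLocalRing.maximalIdeal R').comap sec.toRingHom
  haveI : q'.IsPrime := Ideal.IsPrime.comap _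
  let T := Localization.AtPrime q'
  let i : B₀ →ₐ[R] T := (IsScalarTower.toAlgHom R W T).comp Algebra.TensorProduct.includeLeft
  let j : R' →ₐ[R] T := (IsScalarTower.toAlgHom R W T).comp Algebra.TensorProduct.includeRight
  have hunit : ∀ y : q'.primeCompl, IsUnit (sec y) := fun y => by
    by_contra hc
    exact y.2 hc
  let ψ : T →ₐ[R] R' := IsLocalization.liftAlgHom (M := q'.primeCompl) (S := T) (f := sec) hunit
  have hψ : ∀ w : W, ψ (algebraMap W T w) = sec w := fun w => IsLocalization.lift_eq _ w
  have hψi : ψ.comp i = g := AlgHom.ext fun b => by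
    refine (hψ _).trans ?_
    change g b * (1 : R') = g b
    exact _root_.mul_one _
  have hψj : ψ.comp j = AlgHom.id R R' := AlgHom.ext fun r => by
    refine (hψ _).trans ?_
    change g 1 * r = r
    rw [map_one, _root_.one_mul]
  have hij : i = j.comp g := by
    letI : Algebra R' T := j.toRingHom.toAlgebra
    haveI : IsScalarTower R R' T := IsScalarTower.of_algebraMap_eq fun r => (j.commutes r).symm
    have hji : IsScalarTower.toAlgHom R R' T = j := AlgHom.ext fun r => rfl
    obtain ⟨m', hm'⟩ := exists_eq_splitElem e (hu.map i)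
    rw [hji] at hm'
    have h1 := congrArg (mapT R A ψ) hm'
    rw [mapT_mapT, mapT_mapT, hψi, hψj, hg] at h1
    have h2 : splitElem e m = splitElem e m' := by
      rw [h1]
      exact AlgHom.congr_fun (Algebra.TensorProduct.map_id (R := R) (A := R') (B := A)) _
    have h3 := splitElem_injective e h2
    subst h3
    refine hom_ext (hm'.trans ?_)
    rw [← mapT_mapT g j, hg]
  have hψinj : ∀ z, j (ψ z) = z := by
    suffices j.comp ψ = AlgHom.id R T from fun z => AlgHom.congr_fun this z
    refine IsLocalization.algHom_ext q'.primeCompl (Algebra.TensorProduct.ext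
      (AlgHom.ext fun b => ?_) (AlgHom.ext fun r => ?_))
    · have h1 := AlgHom.congr_fun hψi b
      have h2 := AlgHom.congr_fun hij b
      simp only [AlgHom.comp_apply] at h1 h2
      change j (ψ (i b)) = i b
      rw [h1, ← h2]
    · have h1 := AlgHom.congr_fun hψj r
      simp only [AlgHom.comp_apply, AlgHom.id_apply] at h1
      change j (ψ (j r)) = j r
      rw [h1]
  -- `R'` is flat over `B₀`
  letI : Algebra B₀ R' := g.toRingHom.toAlgebra
  haveI : IsScalarTower R B₀ R' := IsScalarTower.of_algebraMap_eq fun r => (g.commutes r).symm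
  haveI : Module.Flat B₀ W := inferInstance
  haveI : Module.Flat W T := IsLocalization.flat _ q'.primeCompl
  haveI : Module.Flat B₀ T := Module.Flat.trans B₀ W T
  have hψlin : ∀ (b : B₀) (z : T), ψ (b • z) = b • ψ z := fun b z => by
    rw [Algebra.smul_def, map_mul, Algebra.smul_def]
    congr 1
    rw [IsScalarTower.algebraMap_apply B₀ W T, hψ]
    change g b * 1 = g b
    rw [_root_.mul_one]
  haveI : Module.Flat B₀ R' := Module.Flat.of_linearEquiv
    (LinearEquiv.ofBijective ({ toFun := ψ, map_add' := map_add ψ, map_smul' := hψlin } : T →ₗ[B₀] R')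
      ⟨Function.LeftInverse.injective hψinj, fun r => ⟨j r, AlgHom.congr_fun hψj r⟩⟩).symm
  -- hence the local ring at `q` is flat over `R`
  let Bq := Localization.AtPrime q
  have hunit' : ∀ y : q.primeCompl, IsUnit (g y) := fun y => by
    by_contra hc
    exact y.2 hc
  letI : Algebra Bq R' := (IsLocalization.lift (g := g.toRingHom) hunit').toAlgebra
  haveI : IsScalarTower B₀ Bq R' := IsScalarTower.of_algebraMap_eq fun b =>
    (IsLocalization.lift_eq hunit' b).symm
  haveI : IsScalarTower R Bq R' := IsScalarTower.of_algebraMap_eq fun r => by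
    rw [IsScalarTower.algebraMap_apply R B₀ Bq, ← IsScalarTower.algebraMap_apply B₀ Bq R',
      ← IsScalarTower.algebraMap_apply R B₀ R']
  haveI : Module.Flat Bq R' := (Module.flat_iff_of_isLocalization Bq q.primeCompl R').2 inferInstance
  haveI : IsLocalHom (algebraMap Bq R') := by
    constructor
    intro z hz
    obtain ⟨b, y, rfl⟩ := IsLocalization.exists_mk'_eq q.primeCompl z
    rw [RingHom.algebraMap_toAlgebra, IsLocalization.lift_mk'] at hz
    rw [IsLocalization.AtPrime.isUnit_mk'_iff]
    intro hb
    exact hb (isUnit_of_mul_isUnit_left hz)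
  haveI : Module.FaithfullyFlat Bq R' := Module.FaithfullyFlat.of_flat_of_isLocalHom
  haveI : Module.Flat R Bq := Groth.L06.FibreComp.flat_of_comp R Bq R'
  haveI : Module.Flat R (LocalizedModule q.primeCompl B₀) := Module.Flat.of_linearEquiv
    ((IsLocalizedModule.linearEquiv q.primeCompl (LocalizedModule.mkLinearMap q.primeCompl B₀)
      (Algebra.linearMap B₀ Bq)).restrictScalars R)
  obtain ⟨h, hh, hflat⟩ := Groth.L20.exists_flat_away (R := R) (M := B₀) q.primeCompl
  let B := Localization.Away h
  haveI : Module.Flat R B := Module.Flat.of_linearEquiv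
    ((IsLocalizedModule.linearEquiv (Submonoid.powers h)
      (Algebra.linearMap B₀ B) (LocalizedModule.mkLinearMap (Submonoid.powers h) B₀)).restrictScalars R)
  haveI : Algebra.FinitePresentation R B :=
    Algebra.FinitePresentation.of_isLocalizationAway (R := R) (S := B₀) h
  haveI : Algebra.Etale R B := Algebra.Etale.of_formallyUnramified_of_flat
  have hh' : IsUnit (g h) := hunit' ⟨h, hh⟩
  let ψB : B →ₐ[R] R' := IsLocalization.liftAlgHom (f := g)
    (M := Submonoid.powers h) (by
      rintro ⟨_, n, rfl⟩
      simpa using hh'.pow n)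
  refine ⟨B, inferInstance, inferInstance, inferInstance, ψB,
    mapT R A (IsScalarTower.toAlgHom R B₀ B) u, hu.map _, ?_⟩
  rw [mapT_mapT]
  have : ψB.comp (IsScalarTower.toAlgHom R B₀ B) = g := AlgHom.ext fun b => IsLocalization.lift_eq _ b
  rw [this, hg]

end Groth.L25.Char
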