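import Groth.Agent.L25.Char.LocalKill
import Groth.Agent.L25.Char.DescentApply
import Groth.Agent.L25.Char.HomLift

/-!
# Homomorphisms between groups of multiplicative type over a henselian base

Reduction is fully faithful on groups of multiplicative type over a henselian pair, as soon as both
groups are split by one finite faithfully flat algebra; over a henselian local ring every group of
multiplicative type and finite type is isotrivial.
-/

set_option autoImplicit false

universe u

open TensorProduct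

namespace Groth.L25.Char

open Groth.L25.MultType
open Descent (GoodHom red)

namespace Henselian

variable {A B C : Type u} [CommRing A] [CommRing B] [HopfAlgebra A B] [CommRing C] [HopfAlgebra A C]
  (I : Ideal A)

/-- `F` reduces to `f₀`. -/
def Cong (f₀ : (A ⧸ I) ⊗[A] C →ₐc[A ⧸ I] (A ⧸ I) ⊗[A] B) (U : Type u) [CommRing U] [Algebra A U]
    (F : U ⊗[A] C →ₐc[U] U ⊗[A] B) : Prop :=
  ∀ c, mapT A B (red I U) (F ((1 : U) ⊗ₜ c)) =
    mapT A B (Algebra.TensorProduct.includeLeft : A ⧸ I →ₐ[A] (A ⧸ I) ⊗[A] U)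
      (f₀ ((1 : A ⧸ I) ⊗ₜ c))

variable {I}

/-- Homomorphisms of split groups are determined by their reduction. -/
theorem eq_of_red_eq {S U : Type u} [CommRing S] [Algebra A S] [CommRing U] [Algebra A U]
    [Algebra S U] [IsScalarTower A S U] {M N : Type u} [CommGroup M] [CommGroup N]
    (eB : S ⊗[A] B ≃ₐc[S] MonoidAlgebra S M) (eC : S ⊗[A] C ≃ₐc[S] MonoidAlgebra S N)
    (hU : GoodHom (red I U).toRingHom) (F G : U ⊗[A] C →ₐc[U] U ⊗[A] B)
    (h : ∀ c, mapT A B (red I U) (F ((1 : U) ⊗ₜ c)) = mapT A B (red I U) (G ((1 : U) ⊗ₜ c))) :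
    F = G := by
  let q : U →ₐ[A] (A ⧸ I) ⊗[A] U := red I U
  letI : Algebra S ((A ⧸ I) ⊗[A] U) := (q.toRingHom.comp (algebraMap S U)).toAlgebra
  haveI : IsScalarTower A S ((A ⧸ I) ⊗[A] U) := IsScalarTower.of_algebraMap_eq fun a => by
    change algebraMap A _ a = q (algebraMap S U (algebraMap A S a))
    rw [← IsScalarTower.algebraMap_apply A S U, q.commutes]
  have hz : ∀ z : U ⊗[A] C, mapT A B q (F z) = mapT A B q (G z) := by
    intro z
    induction z using TensorProduct.induction_on with
    | zero => simp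
    | add a b ha hb => simp only [map_add, ha, hb]
    | tmul r c =>
      rw [show r ⊗ₜ[A] c = r • ((1 : U) ⊗ₜ[A] c) by
        rw [TensorProduct.smul_tmul', smul_eq_mul, _root_.mul_one], map_smul F, map_smul G,
        mapT_smul, mapT_smul, h c]
  have hn : ∀ n : N, F (splitEquiv eC U (MonoidAlgebra.single n 1)) =
      G (splitEquiv eC U (MonoidAlgebra.single n 1)) := by
    intro n
    have hgl : IsGroupLikeElem U (splitEquiv eC U (MonoidAlgebra.single n 1)) :=
      (MonoidAlgebra.isGroupLikeElem_single_one n).map (splitEquiv eC U)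
    refine (splitEquiv eB U).symm.injective (Descent.groupLike_ext' hU
      ((hgl.map F).map (splitEquiv eB U).symm) ((hgl.map G).map (splitEquiv eB U).symm)
      ((splitEquiv eB ((A ⧸ I) ⊗[A] U)).injective ?_))
    refine (splitEquiv_natural eB q (fun r => rfl) _).symm.trans
      (Eq.trans ?_ (splitEquiv_natural eB q (fun r => rfl) _))
    exact ((congrArg (mapT A B q) ((splitEquiv eB U).apply_symm_apply _)).trans (hz _)).trans
      (congrArg (mapT A B q) ((splitEquiv eB U).apply_symm_apply _)).symm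
  refine BialgHom.ext fun z => ?_
  obtain ⟨w, rfl⟩ : ∃ w, splitEquiv eC U w = z :=
    ⟨(splitEquiv eC U).symm z, (splitEquiv eC U).apply_symm_apply z⟩
  induction w using MonoidAlgebra.induction_linear with
  | zero => simp
  | add a b ha hb => simp only [map_add, ha, hb]
  | single n r =>
    rw [show MonoidAlgebra.single n r = r • MonoidAlgebra.single n (1 : U) by simp, map_smul,
      map_smul, map_smul, hn]

/-- Homomorphisms of split groups lift. -/
theorem exists_lift_of_split {T : Type u} [CommRing T] [Algebra A T] {M N : Type u} [CommGroup M]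
    [CommGroup N] (eB : T ⊗[A] B ≃ₐc[T] MonoidAlgebra T M)
    (eC : T ⊗[A] C ≃ₐc[T] MonoidAlgebra T N) (hT : GoodHom (red I T).toRingHom)
    (f₀ : (A ⧸ I) ⊗[A] C →ₐc[A ⧸ I] (A ⧸ I) ⊗[A] B) :
    ∃ F, Cong I f₀ T F := by
  let V := (A ⧸ I) ⊗[A] T
  let q : T →ₐ[A] V := red I T
  letI : Algebra T V := q.toRingHom.toAlgebra
  haveI : IsScalarTower A T V := IsScalarTower.of_algebraMap_eq fun a => (q.commutes a).symm
  let H := bcHom (B := B) V f₀
  have hx₀ : ∀ n, IsGroupLikeElem V
      ((splitEquiv eB V).symm (H (mapT A C q (splitElem eC n)))) := fun n =>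
    ((((isGL_iff A C _ _).1 ((isGL_splitElem eC n).map q)).map H).map (splitEquiv eB V).symm)
  choose x hx hxq using fun n => Descent.exists_groupLike_lift' hT (hx₀ n)
  have hnat : ∀ w : MonoidAlgebra T M, mapT A B q (splitEquiv eB T w) =
      splitEquiv eB V (MonoidAlgebra.mapRingHom M (q : T →+* V) w) :=
    splitEquiv_natural eB q fun r => rfl
  have hq : ∀ n, mapT A B q (splitEquiv eB T (x n)) = H (mapT A C q (splitElem eC n)) := fun n => by
    rw [hnat]
    refine Eq.trans ?_ ((splitEquiv eB V).apply_symm_apply _)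
    exact congrArg (splitEquiv eB V) (hxq n)
  let θ₀ : N →* GroupLike T (MonoidAlgebra T M) :=
    { toFun := fun n => ⟨x n, hx n⟩
      map_one' := GroupLike.ext (Descent.groupLike_ext' hT (hx 1) IsGroupLikeElem.one (by
        refine (hxq 1).trans (Eq.trans ?_ (map_one _).symm)
        rw [show splitElem eC (1 : N) = 1 from (splitChar eC).map_one, map_one, map_one, map_one]))
      map_mul' := fun a b => GroupLike.ext (Descent.groupLike_ext' hT (hx _) ((hx a).mul (hx b)) (by
        refine (hxq _).trans (Eq.trans ?_ (map_mul _ _ _).symm)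
        rw [hxq, hxq, ← map_mul, ← map_mul, ← map_mul]
        exact congrArg (fun z => (splitEquiv eB V).symm (H (mapT A C q z)))
          ((splitChar eC).map_mul a b))) }
  let θ : N →* GroupLike T (T ⊗[A] B) :=
    { toFun := fun n => ⟨splitEquiv eB T (θ₀ n).1, ((θ₀ n).2).map (splitEquiv eB T)⟩
      map_one' := GroupLike.ext (by
        change splitEquiv eB T (θ₀ 1).1 = 1
        rw [map_one θ₀]
        exact map_one _)
      map_mul' := fun a b => GroupLike.ext (by
        change splitEquiv eB T (θ₀ (a * b)).1 = splitEquiv eB T (θ₀ a).1 * splitEquiv eB T (θ₀ b).1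
        rw [map_mul θ₀]
        exact map_mul _ _ _) }
  refine ⟨(charMap θ).comp (eC : T ⊗[A] C →ₐc[T] MonoidAlgebra T N), fun c => ?_⟩
  have key : ∀ z : MonoidAlgebra T N,
      mapT A B q (charMap θ z) = H (mapT A C q (eC.symm z)) := by
    intro z
    induction z using MonoidAlgebra.induction_linear with
    | zero => simp
    | add p p' hp hp' => simp only [map_add, hp, hp']
    | single k r =>
      rw [charMap_single, mapT_smul,
        show MonoidAlgebra.single k r = r • MonoidAlgebra.single k (1 : T) by simp,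
        map_smul, mapT_smul, map_smul]
      exact congrArg (q r • ·) (hq k)
  refine (key (eC ((1 : T) ⊗ₜ c))).trans ?_
  rw [eC.symm_apply_apply, show mapT A C q ((1 : T) ⊗ₜ c) = (1 : V) ⊗ₜ c by
    simp [mapT, q, Algebra.TensorProduct.one_def]]
  refine (bcHom_tmul V f₀ c).trans ?_
  rw [show IsScalarTower.toAlgHom A (A ⧸ I) V =
    (Algebra.TensorProduct.includeLeft : A ⧸ I →ₐ[A] V) from AlgHom.ext fun r => rfl]

/-- Lifts can be pushed along algebra maps. -/
theorem exists_push {T U : Type u} [CommRing T] [Algebra A T] [CommRing U] [Algebra A U]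
    (g : T →ₐ[A] U) {f₀ : (A ⧸ I) ⊗[A] C →ₐc[A ⧸ I] (A ⧸ I) ⊗[A] B}
    {F : T ⊗[A] C →ₐc[T] T ⊗[A] B} (hF : Cong I f₀ T F) :
    ∃ G : U ⊗[A] C →ₐc[U] U ⊗[A] B,
      (∀ c, G ((1 : U) ⊗ₜ c) = mapT A B g (F ((1 : T) ⊗ₜ c))) ∧ Cong I f₀ U G := by
  letI : Algebra T U := g.toRingHom.toAlgebra
  haveI : IsScalarTower A T U := IsScalarTower.of_algebraMap_eq fun a => (g.commutes a).symm
  have hG : ∀ c, bcHom U F ((1 : U) ⊗ₜ c) = mapT A B g (F ((1 : T) ⊗ₜ c)) := fun c => by
    rw [bcHom_tmul]
    rfl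
  refine ⟨bcHom U F, hG, fun c => ?_⟩
  let gb : (A ⧸ I) ⊗[A] T →ₐ[A] (A ⧸ I) ⊗[A] U :=
    Algebra.TensorProduct.map (AlgHom.id A (A ⧸ I)) g
  rw [hG, mapT_mapT, show (red I U).comp g = gb.comp (red I T) from
    AlgHom.ext fun t => by simp [gb], ← mapT_mapT, hF c, mapT_mapT,
    show gb.comp (Algebra.TensorProduct.includeLeft : A ⧸ I →ₐ[A] (A ⧸ I) ⊗[A] T) =
      Algebra.TensorProduct.includeLeft from AlgHom.ext fun t => by simp [gb]]

/-- Homomorphisms with a descent datum descend. -/
theorem exists_descend [Module.Flat A B] {T : Type u} [CommRing T] [Algebra A T]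
    [Module.FaithfullyFlat A T] (F : T ⊗[A] C →ₐc[T] T ⊗[A] B)
    (h : ∀ c, mapT A B (Algebra.TensorProduct.includeLeft : T →ₐ[A] T ⊗[A] T) (F ((1 : T) ⊗ₜ c)) =
      mapT A B (Algebra.TensorProduct.includeRight : T →ₐ[A] T ⊗[A] T) (F ((1 : T) ⊗ₜ c))) :
    ∃ f : C →ₐc[A] B, ∀ c, F ((1 : T) ⊗ₜ c) = (1 : T) ⊗ₜ f c := by
  have hex : ∀ c, ∃ w : B, (1 : T) ⊗ₜ[A] w = F ((1 : T) ⊗ₜ c) := by
    intro c
    have hexact := Module.Flat.rTensor_exact (M := B) (Algebra.IsEffective.of_faithfullyFlat A T)
    obtain ⟨w, hw⟩ := (hexact (F ((1 : T) ⊗ₜ c))).1 (by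
      rw [Algebra.TensorProduct.includeLeftSubRight, LinearMap.rTensor_sub, LinearMap.sub_apply,
        rTensor_eq_mapT (Algebra.TensorProduct.includeLeft : T →ₐ[A] T ⊗[A] T),
        rTensor_eq_mapT (Algebra.TensorProduct.includeRight : T →ₐ[A] T ⊗[A] T)]
      exact sub_eq_zero.2 (h c))
    refine ⟨TensorProduct.lid A B w, ?_⟩
    rw [← hw]
    clear hw
    induction w using TensorProduct.induction_on with
    | zero => simp
    | add p q hp hq => simp only [map_add, TensorProduct.tmul_add, hp, hq]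
    | tmul r b =>
      simp only [TensorProduct.lid_tmul, LinearMap.rTensor_tmul, Algebra.linearMap_apply,
        TensorProduct.tmul_smul]
      rw [TensorProduct.smul_tmul', Algebra.algebraMap_eq_smul_one]
  choose w hw using hex
  have hext : ∀ {N : Type u} [CommRing N] [Algebra A N] {x y : N},
      (1 : T) ⊗ₜ[A] x = (1 : T) ⊗ₜ[A] y → x = y := fun {N} _ _ {x y} h =>
    Module.FaithfullyFlat.tensorProduct_mk_injective (A := A) (B := T) N h
  let ψ : C →ₐ[A] B :=
    { toFun := w
      map_one' := hext (by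
        rw [hw, ← Algebra.TensorProduct.one_def, map_one, Algebra.TensorProduct.one_def])
      map_mul' := fun x y => hext (by
        rw [hw, ← _root_.one_mul (1 : T), ← Algebra.TensorProduct.tmul_mul_tmul,
          map_mul, ← hw, ← hw, Algebra.TensorProduct.tmul_mul_tmul])
      map_zero' := hext (by rw [hw, TensorProduct.tmul_zero, map_zero, TensorProduct.tmul_zero])
      map_add' := fun x y => hext (by
        rw [hw, TensorProduct.tmul_add, map_add, ← hw, ← hw, TensorProduct.tmul_add])
      commutes' := fun r => hext (by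
        rw [hw, Algebra.algebraMap_eq_smul_one, Algebra.algebraMap_eq_smul_one,
          TensorProduct.tmul_smul, TensorProduct.tmul_smul, ← Algebra.TensorProduct.one_def,
          ← algebraMap_smul T r, map_smul, map_one, algebraMap_smul,
          Algebra.TensorProduct.one_def]) }
  refine ⟨BialgHom.ofAlgHom ψ (AlgHom.ext fun c => ?_) (AlgHom.ext fun c => ?_),
    fun c => (hw c).symm⟩
  · change Coalgebra.counit (R := A) (w c) = Coalgebra.counit (R := A) c
    refine FaithfulSMul.algebraMap_injective A T ?_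
    have h1 := CoalgHomClass.counit_comp_apply F ((1 : T) ⊗ₜ c)
    rw [← hw, TensorProduct.counit_tmul, TensorProduct.counit_tmul, CommSemiring.counit_apply] at h1
    simpa [Algebra.smul_def] using h1
  · change TensorProduct.map ψ.toLinearMap ψ.toLinearMap (Coalgebra.comul (R := A) c) =
      Coalgebra.comul (R := A) (w c)
    refine hext ?_
    have h1 := congrArg (toFlat A B T) (CoalgHomClass.map_comp_comul_apply F ((1 : T) ⊗ₜ c))
    rw [← hw, toFlat_comul] at h1
    have h2 : ∀ y : C ⊗[A] C, toFlat A B T (TensorProduct.map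
        (F : T ⊗[A] C →ₐc[T] T ⊗[A] B).toLinearMap
        (F : T ⊗[A] C →ₐc[T] T ⊗[A] B).toLinearMap
        (AlgebraTensorModule.tensorTensorTensorComm A T A T T T C C
          (((1 : T) ⊗ₜ (1 : T)) ⊗ₜ y))) =
        (1 : T) ⊗ₜ TensorProduct.map ψ.toLinearMap ψ.toLinearMap y := by
      intro y
      induction y using TensorProduct.induction_on with
      | zero => simp
      | add p q hp hq => simp only [TensorProduct.tmul_add, map_add, hp, hq]
      | tmul p q =>
        simp only [AlgebraTensorModule.tensorTensorTensorComm_tmul, TensorProduct.map_tmul]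
        change toFlat A B T (F ((1 : T) ⊗ₜ p) ⊗ₜ F ((1 : T) ⊗ₜ q)) = _
        rw [← hw, ← hw, toFlat_tmul]
        simp [inl, inr, Algebra.TensorProduct.tmul_mul_tmul]
        rfl
    rw [TensorProduct.comul_tmul, CommSemiring.comul_apply] at h1
    refine ((h2 _).symm.trans h1).trans ?_
    simp [comulT]

/-- Reduction is bijective on homomorphisms between groups split by a finite faithfully flat
algebra over a henselian pair. -/
theorem bijective_of_split [HenselianRing A I] [Module.Flat A B] (T : Type u) [CommRing T]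
    [Algebra A T] [Module.Finite A T] [Module.FaithfullyFlat A T] {M N : Type u} [CommGroup M]
    [CommGroup N] (eB : T ⊗[A] B ≃ₐc[T] MonoidAlgebra T M)
    (eC : T ⊗[A] C ≃ₐc[T] MonoidAlgebra T N) :
    (∀ φ ψ : C →ₐc[A] B, (∀ c : C, (1 : A ⧸ I) ⊗ₜ[A] (φ c) = (1 : A ⧸ I) ⊗ₜ[A] (ψ c)) → φ = ψ) ∧
    (∀ φ₀ : ((A ⧸ I) ⊗[A] C) →ₐc[A ⧸ I] ((A ⧸ I) ⊗[A] B),
      ∃ φ : C →ₐc[A] B, ∀ c : C, φ₀ ((1 : A ⧸ I) ⊗ₜ[A] c) = (1 : A ⧸ I) ⊗ₜ[A] (φ c)) := by
  let k := A ⧸ I
  have hT : GoodHom (red I T).toRingHom := Descent.goodHom_of_henselian I T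
  have hTT : GoodHom (red I (T ⊗[A] T)).toRingHom := Descent.goodHom_of_henselian I (T ⊗[A] T)
  have hred : ∀ b : B, mapT A B (red I T) ((1 : T) ⊗ₜ b) =
      mapT A B (Algebra.TensorProduct.includeLeft : k →ₐ[A] k ⊗[A] T) ((1 : k) ⊗ₜ b) := fun b => by
    simp [mapT, Algebra.TensorProduct.one_def]
  refine ⟨fun φ ψ h => BialgHom.ext fun c => ?_, fun φ₀ => ?_⟩
  · have h1 : Bialgebra.TensorProduct.map (BialgHom.id T T) φ =
        Bialgebra.TensorProduct.map (BialgHom.id T T) ψ :=
      eq_of_red_eq (I := I) eB eC hT _ _ fun d => by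
        change mapT A B (red I T) ((1 : T) ⊗ₜ φ d) = mapT A B (red I T) ((1 : T) ⊗ₜ ψ d)
        rw [hred, hred, h d]
    exact Module.FaithfullyFlat.tensorProduct_mk_injective (A := A) (B := T) B
      (congrArg (fun G => G ((1 : T) ⊗ₜ[A] c)) h1)
  · obtain ⟨F, hF⟩ := exists_lift_of_split eB eC hT φ₀
    obtain ⟨G₁, hG₁, hc₁⟩ :=
      exists_push (Algebra.TensorProduct.includeLeft : T →ₐ[A] T ⊗[A] T) hF
    obtain ⟨G₂, hG₂, hc₂⟩ :=
      exists_push (Algebra.TensorProduct.includeRight : T →ₐ[A] T ⊗[A] T) hF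
    have h12 : G₁ = G₂ := eq_of_red_eq (I := I) (S := T) eB eC hTT _ _ fun c =>
      (hc₁ c).trans (hc₂ c).symm
    obtain ⟨f, hf⟩ := exists_descend F fun c => by rw [← hG₁, ← hG₂, h12]
    refine ⟨f, fun c => mapT_injective (f :=
      (Algebra.TensorProduct.includeLeft : k →ₐ[A] k ⊗[A] T)) ?_ ?_⟩
    · exact fun x y h => Module.FaithfullyFlat.tensorProduct_mk_injective (A := A) (B := T) k
        (by simpa using congrArg (TensorProduct.comm A k T) h)
    · rw [← hred, ← hf]
      exact (hF c).symm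

/-- Over a henselian local ring a group of multiplicative type and finite type is isotrivial. -/
theorem isIsotrivial_of_henselian [HenselianLocalRing A] [Algebra.FiniteType A B]
    (hB : SGA3b.IsMultType A B) : SGA3b.IsIsotrivial A B := by
  obtain ⟨E, _, _, _, q, hq, hqp, M, hM, -, ⟨e⟩⟩ :=
    exists_etale_split hB (IsLocalRing.maximalIdeal A)
  haveI := hq
  obtain ⟨i, hi, hfin, hqf⟩ := Groth.L05.exists_idem_finiteType (A := A) (S := E)
  haveI : q.LiesOver (IsLocalRing.maximalIdeal A) := ⟨hqp.symm⟩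
  have hiq : i ∉ q := fun h => hqf q h inferInstance inferInstance
  let T := E ⧸ Ideal.span ({1 - i} : Set E)
  haveI : Module.Finite A T := hfin
  haveI : IsLocalization.Away i T := IsLocalization.Away.quotient_of_isIdempotentElem hi
  haveI : Algebra.Etale E T := Algebra.Etale.of_isLocalizationAway i
  haveI : Algebra.Etale A T := Algebra.Etale.comp A E T
  haveI : Module.FaithfullyFlat A T := by
    haveI : Module.Flat A T := inferInstance
    refine (Module.FaithfullyFlat.iff_flat_and_ideal_smul_eq_top A T).2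
      ⟨inferInstance, fun m htop => by_contra fun hm => ?_⟩
    rw [Ideal.smul_top_eq_map, Submodule.restrictScalars_eq_top_iff] at htop
    replace htop : (IsLocalRing.maximalIdeal A).map (algebraMap A T) = ⊤ :=
      top_le_iff.1 (htop ▸ Ideal.map_mono (IsLocalRing.le_maximalIdeal hm))
    have hle : Ideal.span ({1 - i} : Set E) ≤ q := (Ideal.span_singleton_le_iff_mem _).2
      ((hq.mem_or_mem (show i * (1 - i) ∈ q by
        rw [mul_sub, mul_one, hi.eq, sub_self]; exact q.zero_mem)).resolve_left hiq)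
    have h1 : (IsLocalRing.maximalIdeal A).map (algebraMap A T) ≤
        q.map (Ideal.Quotient.mk (Ideal.span ({1 - i} : Set E))) :=
      Ideal.map_le_iff_le_comap.2 fun a ha => by
        rw [Ideal.mem_comap]
        refine Ideal.mem_map_of_mem _ ?_
        rw [← hqp, Ideal.mem_comap] at ha
        exact ha
    rw [htop] at h1
    have h2 := congrArg (Ideal.comap (Ideal.Quotient.mk _)) (top_le_iff.1 h1)
    rw [Ideal.comap_map_of_surjective _ Ideal.Quotient.mk_surjective, Ideal.comap_top,
      ← RingHom.ker_eq_comap_bot, Ideal.mk_ker, sup_eq_left.2 hle] at h2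
    exact hq.ne_top h2
  exact ⟨T, inferInstance, inferInstance, inferInstance, inferInstance, inferInstance,
    M, inferInstance, ⟨(splitEquiv e T).symm⟩⟩

end Henselian

/-- Reduction is bijective on homomorphisms between groups of multiplicative type over a henselian
local ring. -/
theorem henselian_bijective {A B C : Type u} [CommRing A] [HenselianLocalRing A] [CommRing B]
    [HopfAlgebra A B] [CommRing C] [HopfAlgebra A C] [Algebra.FiniteType A B]
    [Algebra.FiniteType A C] (hB : SGA3b.IsMultType A B) (hC : SGA3b.IsMultType A C) :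
    (∀ φ ψ : C →ₐc[A] B, (∀ c : C, (1 : IsLocalRing.ResidueField A) ⊗ₜ[A] (φ c) =
        (1 : IsLocalRing.ResidueField A) ⊗ₜ[A] (ψ c)) → φ = ψ) ∧
    (∀ φ₀ : (IsLocalRing.ResidueField A ⊗[A] C) →ₐc[IsLocalRing.ResidueField A]
        (IsLocalRing.ResidueField A ⊗[A] B),
      ∃ φ : C →ₐc[A] B, ∀ c : C, φ₀ ((1 : IsLocalRing.ResidueField A) ⊗ₜ[A] c) =
        (1 : IsLocalRing.ResidueField A) ⊗ₜ[A] (φ c)) := by
  obtain ⟨T₁, _, _, _, _, _, M, _, ⟨e₁⟩⟩ := Henselian.isIsotrivial_of_henselian hB
  obtain ⟨T₂, _, _, _, _, _, N, _, ⟨e₂⟩⟩ := Henselian.isIsotrivial_of_henselian hC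
  haveI := flat hB
  let T := T₁ ⊗[A] T₂
  letI : Algebra T₂ T := Algebra.TensorProduct.rightAlgebra
  haveI : Module.FaithfullyFlat A T := Module.FaithfullyFlat.trans A T₁ T
  exact Henselian.bijective_of_split (I := IsLocalRing.maximalIdeal A) T
    (splitEquiv e₁ T).symm (splitEquiv e₂ T).symm

end Groth.L25.Char
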