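import Groth.Agent.L25.Char.NilLift
import Groth.Agent.L25.MultType.Idem
import Groth.Agent.L25.MultType.Torsion

/-!
# The invariant integral of a group of multiplicative type
-/

set_option autoImplicit false

universe u

open TensorProduct

namespace Groth.L25.Char

open Groth.L25.MultType

variable {R : Type u} [CommRing R] {A : Type u} [CommRing A] [HopfAlgebra R A]

/-- `x ⊗ y ↦ l y ⊗ x`. -/
noncomputable def intMap {S : Type u} [CommRing S] [Algebra R S] (l : A →ₗ[R] S) :
    A ⊗[R] A →ₗ[R] S ⊗[R] A :=
  l.rTensor A ∘ₗ (TensorProduct.comm R A A).toLinearMap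

theorem intMap_tmul {S : Type u} [CommRing S] [Algebra R S] (l : A →ₗ[R] S) (x y : A) :
    intMap l (x ⊗ₜ y) = l y ⊗ₜ x := rfl

/-- An invariant integral with values in `S`. -/
def IsInt {S : Type u} [CommRing S] [Algebra R S] (l : A →ₗ[R] S) : Prop :=
  l 1 = 1 ∧ ∀ a, intMap l (Coalgebra.comul a) = l a ⊗ₜ[R] (1 : A)

theorem IsInt.comp {S T : Type u} [CommRing S] [Algebra R S] [CommRing T] [Algebra R T]
    {l : A →ₗ[R] S} (hl : IsInt l) (g : S →ₐ[R] T) : IsInt (g.toLinearMap ∘ₗ l) := by
  refine ⟨by simp [hl.1], fun a => ?_⟩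
  have key : ∀ z, intMap (g.toLinearMap ∘ₗ l) z = mapT R A g (intMap l z) := by
    intro z
    induction z using TensorProduct.induction_on with
    | zero => simp
    | add p q hp hq => simp only [map_add, hp, hq]
    | tmul x y => simp [intMap_tmul, mapT]
  rw [key, hl.2]
  simp [mapT]

/-- Invariant integrals are unique. -/
theorem IsInt.unique [Coalgebra.IsCocomm R A] {S : Type u} [CommRing S] [Algebra R S]
    {l l' : A →ₗ[R] S} (hl : IsInt l) (hl' : IsInt l') : l = l' := by
  refine LinearMap.ext fun a => ?_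
  let ev : (A →ₗ[R] S) → (S ⊗[R] A →ₗ[R] S) := fun k => LinearMap.mul' R S ∘ₗ k.lTensor S
  have h1 := congrArg (ev l') (hl.2 a)
  have h2 := congrArg (ev l) (hl'.2 a)
  have hswap : ∀ z, ev l' (intMap l z) = ev l (intMap l' (TensorProduct.comm R A A z)) := by
    intro z
    induction z using TensorProduct.induction_on with
    | zero => simp
    | add p q hp hq => simp only [map_add, hp, hq]
    | tmul x y => simp [intMap_tmul, ev, mul_comm]
  rw [hswap, Coalgebra.comm_comul, h2] at h1
  simpa [ev, hl.1, hl'.1] using h1.symm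

theorem isInt_of_split {S : Type u} [CommRing S] [Algebra R S] {M : Type u} [CommGroup M]
    (e : S ⊗[R] A ≃ₐc[S] MonoidAlgebra S M) :
    ∃ l : A →ₗ[R] S, IsInt l := by
  classical
  let L : S ⊗[R] A →ₗ[S] S :=
    coefL (1 : M) ∘ₗ (e : S ⊗[R] A ≃ₐ[S] MonoidAlgebra S M).toLinearMap
  let l : A →ₗ[R] S := L.restrictScalars R ∘ₗ
    (Algebra.TensorProduct.includeRight : A →ₐ[R] S ⊗[R] A).toLinearMap
  refine ⟨l, ?_, fun a => ?_⟩
  · change coefL (1 : M) (e ((1 : S) ⊗ₜ (1 : A))) = 1
    rw [← Algebra.TensorProduct.one_def, map_one, MonoidAlgebra.one_def, coefL_single, if_pos rfl]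
  let Ψ : (S ⊗[R] A) ⊗[S] (S ⊗[R] A) →ₗ[S] S ⊗[R] A :=
    TensorProduct.lift ((LinearMap.lsmul S (S ⊗[R] A)).comp L).flip
  have hΨ : ∀ x y, Ψ (x ⊗ₜ y) = L y • x := fun x y => rfl
  have key : ∀ z, Ψ (Coalgebra.comul z) = L z • (1 : S ⊗[R] A) := by
    intro z
    obtain ⟨w, rfl⟩ : ∃ w, e.symm w = z := ⟨e z, e.symm_apply_apply z⟩
    rw [← CoalgHomClass.map_comp_comul_apply e.symm w]
    have hL : ∀ w, L (e.symm w) = coefL (1 : M) w := fun w =>
      congrArg (coefL (1 : M)) (e.apply_symm_apply w)
    induction w using MonoidAlgebra.induction_linear with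
    | zero => simp
    | add p q hp hq => simp only [map_add, hp, hq, add_smul]
    | single m r =>
      rw [MonoidAlgebra.comul_single, CommSemiring.comul_apply, TensorProduct.map_tmul,
        MonoidAlgebra.lsingle_apply, MonoidAlgebra.lsingle_apply, TensorProduct.map_tmul, hΨ]
      change L (e.symm (MonoidAlgebra.single m r)) • e.symm (MonoidAlgebra.single m 1) =
        L (e.symm (MonoidAlgebra.single m r)) • (1 : S ⊗[R] A)
      rw [hL, coefL_single]
      split_ifs with h
      · rw [h, ← MonoidAlgebra.one_def, map_one]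
      · simp
  have h2 := key ((1 : S) ⊗ₜ a)
  rw [TensorProduct.comul_tmul, CommSemiring.comul_apply] at h2
  have h3 : ∀ y : A ⊗[R] A, Ψ (AlgebraTensorModule.tensorTensorTensorComm R S R S S S A A
      (((1 : S) ⊗ₜ (1 : S)) ⊗ₜ y)) = intMap l y := by
    intro y
    induction y using TensorProduct.induction_on with
    | zero => simp
    | add p q hp hq => simp only [TensorProduct.tmul_add, map_add, hp, hq]
    | tmul p q =>
      rw [AlgebraTensorModule.tensorTensorTensorComm_tmul, hΨ, intMap_tmul,
        TensorProduct.smul_tmul', smul_eq_mul, _root_.mul_one]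
      rfl
  rw [← h3, h2, Algebra.TensorProduct.one_def, TensorProduct.smul_tmul', smul_eq_mul,
    _root_.mul_one]
  rfl

/-- A group of multiplicative type has an invariant integral. -/
theorem exists_integral (hA : SGA3b.IsMultType R A) : ∃ l : A →ₗ[R] R, IsInt l := by
  classical
  haveI := MultType.isCocomm hA
  haveI := flat hA
  obtain ⟨ι, _, S, _, _, hff, hd⟩ := exists_split_family hA
  haveI := hff
  choose M hM he using hd
  choose l hl using fun i => isInt_of_split (he i).some
  let P := ∀ i, S i
  let z : A →ₗ[R] P := LinearMap.pi l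
  have hz : IsInt z := by
    refine ⟨funext fun i => (hl i).1, fun a => pi_ext fun i => ?_⟩
    have key : ∀ w, Algebra.TensorProduct.map (Pi.evalAlgHom R S i) (AlgHom.id R A) (intMap z w) =
        intMap (l i) w := by
      intro w
      induction w using TensorProduct.induction_on with
      | zero => simp
      | add p q hp hq => simp only [map_add, hp, hq]
      | tmul x y =>
        simp only [intMap_tmul, Algebra.TensorProduct.map_tmul, AlgHom.id_apply]
        rfl
    rw [key, (hl i).2, Algebra.TensorProduct.map_tmul, AlgHom.id_apply]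
    rfl
  let i₁ : P →ₐ[R] P ⊗[R] P := Algebra.TensorProduct.includeLeft
  let i₂ : P →ₐ[R] P ⊗[R] P := Algebra.TensorProduct.includeRight
  have huniq := (hz.comp i₁).unique (hz.comp i₂)
  have hex : ∀ a, ∃ r : R, algebraMap R P r = z a := fun a => by
    obtain ⟨r, hr⟩ := ((Algebra.IsEffective.of_faithfullyFlat R P) (z a)).1 (by
      rw [Algebra.TensorProduct.includeLeftSubRight_apply]
      exact sub_eq_zero.2 (LinearMap.congr_fun huniq a))
    exact ⟨r, hr⟩
  choose r hr using hex
  have hinj : Function.Injective (algebraMap R P) := FaithfulSMul.algebraMap_injective R P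
  let l₀ : A →ₗ[R] R :=
    { toFun := r
      map_add' := fun x y => hinj (by rw [hr, map_add, map_add, hr, hr])
      map_smul' := fun c x => hinj (by
        rw [hr, map_smul, RingHom.id_apply, smul_eq_mul, map_mul, hr, Algebra.smul_def]) }
  have hlz : (Algebra.ofId R P).toLinearMap ∘ₗ l₀ = z := LinearMap.ext hr
  refine ⟨l₀, hinj ((hr 1).trans (hz.1.trans (map_one _).symm)), fun a => ?_⟩
  apply mapT_injective (f := Algebra.ofId R P) hinj
  have key : ∀ w, mapT R A (Algebra.ofId R P) (intMap l₀ w) = intMap z w := by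
    intro w
    induction w using TensorProduct.induction_on with
    | zero => simp
    | add p q hp hq => simp only [map_add, hp, hq]
    | tmul x y => simp [intMap_tmul, mapT, ← hlz]
  rw [key, hz.2]
  simp [mapT, ← hlz]

end Groth.L25.Char
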