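import Groth.Agent.L25.Char.ModelStage
import Mathlib.RingTheory.Extension.Presentation.Core
import Mathlib.RingTheory.Bialgebra.TensorProduct
import Mathlib.RingTheory.HopfAlgebra.Convolution
import Mathlib.RingTheory.Polynomial.Basic

/-!
# Noetherian models of finitely presented Hopf algebras

A finitely presented Hopf algebra over a ring `R` comes by base change from a finitely presented
Hopf algebra over a ring of finite type over `ℤ` mapping to `R`.
-/

set_option autoImplicit false

universe u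

open TensorProduct Algebra.TensorProduct

namespace Groth.L25.Char.Model

theorem Commute.all' {X : Type u} [inst : CommRing X] (a b : X) :
    @Commute X (inst.toMul) a b := mul_comm a b

section axioms

variable {R C : Type u} [CommRing R] [CommRing C] [HopfAlgebra R C]

theorem map_id_rTensor {X Y : Type u} [CommRing X] [Algebra R X] [CommRing Y] [Algebra R Y]
    (f : X →ₐ[R] Y) {P : Type u} [CommRing P] [Algebra R P] (w : X ⊗[R] P) :
    Algebra.TensorProduct.map f (AlgHom.id R P) w = f.toLinearMap.rTensor P w := by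
  induction w using TensorProduct.induction_on with
  | zero => simp
  | add a b ha hb => simp only [map_add, ha, hb]
  | tmul a b => simp

theorem map_id_lTensor {X Y : Type u} [CommRing X] [Algebra R X] [CommRing Y] [Algebra R Y]
    (f : X →ₐ[R] Y) {P : Type u} [CommRing P] [Algebra R P] (w : P ⊗[R] X) :
    Algebra.TensorProduct.map (AlgHom.id R P) f w = f.toLinearMap.lTensor P w := by
  induction w using TensorProduct.induction_on with
  | zero => simp
  | add a b ha hb => simp only [map_add, ha, hb]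
  | tmul a b => simp

theorem coL_eq_coR (x : C) :
    coL (Bialgebra.comulAlgHom R C) x = coR (Bialgebra.comulAlgHom R C) x := by
  simp only [coL, coR, AlgHom.comp_apply, map_id_rTensor, map_id_lTensor]
  exact Coalgebra.coassoc_apply x

theorem unL_eq (x : C) :
    unL (Bialgebra.comulAlgHom R C) (Bialgebra.counitAlgHom R C) x = x := by
  simp only [unL, AlgHom.comp_apply, map_id_rTensor]
  change TensorProduct.lid R C
    ((Coalgebra.counit (R := R)).rTensor C (Coalgebra.comul (R := R) x)) = x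
  rw [Coalgebra.rTensor_counit_comul, TensorProduct.lid_tmul, one_smul]

theorem unR_eq (x : C) :
    unR (Bialgebra.comulAlgHom R C) (Bialgebra.counitAlgHom R C) x = x := by
  simp only [unR, AlgHom.comp_apply, map_id_lTensor]
  change TensorProduct.rid R C
    ((Coalgebra.counit (R := R)).lTensor C (Coalgebra.comul (R := R) x)) = x
  rw [Coalgebra.lTensor_counit_comul, TensorProduct.rid_tmul, one_smul]

theorem anL_eq (x : C) :
    anL (Bialgebra.comulAlgHom R C) (HopfAlgebra.antipodeAlgHom R C) x =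
      algebraMap R C (Bialgebra.counitAlgHom R C x) := by
  refine Eq.trans ?_ (HopfAlgebra.mul_antipode_rTensor_comul_apply (R := R) x)
  simp only [anL, anR, AlgHom.comp_apply, Bialgebra.comulAlgHom_apply]
  induction Coalgebra.comul (R := R) x using TensorProduct.induction_on with
  | zero => simp
  | add a b ha hb => simp only [map_add, ha, hb]
  | tmul a b => simp

theorem anR_eq (x : C) :
    anR (Bialgebra.comulAlgHom R C) (HopfAlgebra.antipodeAlgHom R C) x =
      algebraMap R C (Bialgebra.counitAlgHom R C x) := by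
  refine Eq.trans ?_ (HopfAlgebra.mul_antipode_lTensor_comul_apply (R := R) x)
  simp only [anL, anR, AlgHom.comp_apply, Bialgebra.comulAlgHom_apply]
  induction Coalgebra.comul (R := R) x using TensorProduct.induction_on with
  | zero => simp
  | add a b ha hb => simp only [map_add, ha, hb]
  | tmul a b => simp

end axioms

section steps

/-- The map out of a tensor product given by two maps. -/
noncomputable def liftC {A : Type u} [CommRing A] {P Q X : Type u} [CommRing P] [Algebra A P]
    [CommRing Q] [Algebra A Q] [CommRing X] [Algebra A X] (f : P →ₐ[A] X) (g : Q →ₐ[A] X) :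
    P ⊗[A] Q →ₐ[A] X :=
  Algebra.TensorProduct.productMap f g

theorem liftC_tmul {A : Type u} [CommRing A] {P Q X : Type u} [CommRing P] [Algebra A P]
    [CommRing Q] [Algebra A Q] [CommRing X] [Algebra A X] (f : P →ₐ[A] X) (g : Q →ₐ[A] X)
    (p : P) (q : Q) : liftC f g (p ⊗ₜ q) = f p * g q := rfl

variable {A : Type u} [CommRing A] {R : Type u} [CommRing R] [Algebra A R]
  {C₀ : Type u} [CommRing C₀] [Algebra A C₀] {C : Type u} [CommRing C] [HopfAlgebra R C]
  [Algebra A C] [IsScalarTower A R C]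

/-- The extension of scalars of a map. -/
noncomputable def extC {A S P Y : Type u} [CommRing A] [CommRing S] [Algebra A S] [CommRing P]
    [Algebra A P] [CommRing Y] [Algebra S Y] [Algebra A Y] [IsScalarTower A S Y]
    (g : P →ₐ[A] Y) : S ⊗[A] P →ₐ[S] Y :=
  Algebra.TensorProduct.lift (Algebra.ofId S Y) g fun _ _ => Commute.all _ _

theorem extC_one {A S P Y : Type u} [CommRing A] [CommRing S] [Algebra A S] [CommRing P]
    [Algebra A P] [CommRing Y] [Algebra S Y] [Algebra A Y] [IsScalarTower A S Y]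
    (g : P →ₐ[A] Y) (p : P) : extC (S := S) g ((1 : S) ⊗ₜ p) = g p := by
  simp [extC]

/-- A homomorphism into `R ⊗ X` lifts to all large enough stages. -/
theorem exists_lift_hom {B : Type u} [CommRing B] [Algebra A B] [Algebra.FinitePresentation A B]
    (X : Type u) [CommRing X] [Algebra A X] (φ : B →ₐ[A] R ⊗[A] X) :
    ∃ (S : Subalgebra A R), S.FG ∧ ∀ T : Subalgebra A R, S ≤ T → ∃ χ : B →ₐ[A] T ⊗[A] X,
      ∀ b, Algebra.TensorProduct.map T.val (AlgHom.id A X) (χ b) = φ b := by
  obtain ⟨S, hS, χ, hχ⟩ := exists_hom X ((Algebra.TensorProduct.comm A R X).toAlgHom.comp φ)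
  refine ⟨S, hS, fun T hT => ⟨((Algebra.TensorProduct.map (Subalgebra.inclusion hT)
    (AlgHom.id A X)).comp (Algebra.TensorProduct.comm A X S).toAlgHom).comp χ, fun b => ?_⟩⟩
  apply (Algebra.TensorProduct.comm A R X).injective
  refine Eq.trans ?_ (hχ b)
  simp only [AlgHom.comp_apply]
  induction χ b using TensorProduct.induction_on with
  | zero => simp
  | add p q hp hq => simp only [map_add, hp, hq]
  | tmul p q => simp

/-- The structure maps lift to a stage. -/
theorem exists_data [Algebra.FinitePresentation A C₀] (θ : C₀ →ₐ[A] C)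
    (hθ : Function.Bijective (tot (R := R) θ)) :
    ∃ (S : Subalgebra A R) (_ : S.FG) (δ : S ⊗[A] C₀ →ₐ[S] (S ⊗[A] C₀) ⊗[S] (S ⊗[A] C₀))
      (ε : S ⊗[A] C₀ →ₐ[S] S) (σ : S ⊗[A] C₀ →ₐ[S] S ⊗[A] C₀),
      Compat (S := R) δ ε σ
        (Algebra.TensorProduct.lift (Algebra.ofId S C) θ fun _ _ => Commute.all _ _)
        (Bialgebra.comulAlgHom R C) (Bialgebra.counitAlgHom R C)
        (HopfAlgebra.antipodeAlgHom R C) := by
  classical
  let e := AlgEquiv.ofBijective (tot (R := R) θ) hθ
  let j : C →ₐ[R] R ⊗[A] C₀ := e.symm.toAlgHom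
  have hj : ∀ x, tot (R := R) θ (j x) = x := fun x => e.apply_symm_apply x
  let X2 := C₀ ⊗[A] C₀
  let K : R ⊗[A] X2 →ₐ[R] C ⊗[R] C :=
    Algebra.TensorProduct.lift (Algebra.ofId R _) (sq R θ) fun _ _ => Commute.all _ _
  let J : C ⊗[R] C →ₐ[R] R ⊗[A] X2 :=
    Algebra.TensorProduct.lift ((Algebra.TensorProduct.map (AlgHom.id R R) includeLeft).comp j)
      ((Algebra.TensorProduct.map (AlgHom.id R R) includeRight).comp j)
      fun _ _ => Commute.all' _ _
  have hKl : K.comp (Algebra.TensorProduct.map (AlgHom.id R R) includeLeft) =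
      (includeLeft : C →ₐ[R] C ⊗[R] C).comp (tot (R := R) θ) :=
    hom_ext fun c => by simp [K, X2, tot, sq_tmul, Algebra.ofId_apply]
  have hKr : K.comp (Algebra.TensorProduct.map (AlgHom.id R R) includeRight) =
      (includeRight : C →ₐ[R] C ⊗[R] C).comp (tot (R := R) θ) :=
    hom_ext fun c => by simp [K, X2, tot, sq_tmul, Algebra.ofId_apply]
  have hKJ : ∀ z, K (J z) = z := by
    intro z
    induction z using TensorProduct.induction_on with
    | zero => simp
    | add a b ha hb => simp only [map_add, ha, hb]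
    | tmul a b =>
      have h1 := DFunLike.congr_fun hKl (j a)
      have h2 := DFunLike.congr_fun hKr (j b)
      simp only [AlgHom.comp_apply, hj] at h1 h2
      change K ((Algebra.TensorProduct.map (AlgHom.id R R) includeLeft (j a)) *
        (Algebra.TensorProduct.map (AlgHom.id R R) includeRight (j b))) = _
      rw [map_mul, h1, h2]
      simp
  obtain ⟨S₁, hS₁, h₁⟩ := exists_lift_hom X2
    (((J.comp (Bialgebra.comulAlgHom R C)).restrictScalars A).comp θ)
  obtain ⟨S₂, hS₂, h₂⟩ := exists_lift_hom A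
    ((((includeLeft : R →ₐ[R] R ⊗[A] A).comp (Bialgebra.counitAlgHom R C)).restrictScalars A).comp θ)
  obtain ⟨S₃, hS₃, h₃⟩ := exists_lift_hom C₀
    (((j.comp (HopfAlgebra.antipodeAlgHom R C)).restrictScalars A).comp θ)
  let S := S₁ ⊔ S₂ ⊔ S₃
  obtain ⟨χ₁, hχ₁⟩ := h₁ S (le_sup_left.trans le_sup_left)
  obtain ⟨χ₂, hχ₂⟩ := h₂ S (le_sup_right.trans le_sup_left)
  obtain ⟨χ₃, hχ₃⟩ := h₃ S le_sup_right
  let θ₁ : S ⊗[A] C₀ →ₐ[S] C :=
    Algebra.TensorProduct.lift (Algebra.ofId S C) θ fun _ _ => Commute.all _ _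
  let D2 := (S ⊗[A] C₀) ⊗[S] (S ⊗[A] C₀)
  let T : S ⊗[A] X2 →ₐ[A] D2 :=
    liftC (X := (S ⊗[A] C₀) ⊗[S] (S ⊗[A] C₀)) ((Algebra.ofId S D2).restrictScalars A)
      (sq S (includeRight : C₀ →ₐ[A] S ⊗[A] C₀))
  refine ⟨S, (hS₁.sup hS₂).sup hS₃,
    extC (Y := (S ⊗[A] C₀) ⊗[S] (S ⊗[A] C₀)) (T.comp χ₁),
    Algebra.TensorProduct.lift (Algebra.ofId S S)
      ((Algebra.TensorProduct.rid A A S).toAlgHom.comp χ₂) fun _ _ => Commute.all' _ _,
    Algebra.TensorProduct.lift (Algebra.ofId S _) χ₃ fun _ _ => Commute.all' _ _,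
    fun z => ?_, fun z => ?_, fun z => ?_⟩
  · refine DFunLike.congr_fun (f := ((Bialgebra.comulAlgHom R C).restrictScalars S).comp θ₁)
      (g := (sq R θ₁).comp
        (extC (Y := (S ⊗[A] C₀) ⊗[S] (S ⊗[A] C₀)) (T.comp χ₁)))
      (hom_ext fun c => ?_) z
    have key : ∀ w, sq R θ₁ (T w) = K (Algebra.TensorProduct.map S.val (AlgHom.id A X2) w) := by
      intro w
      induction w using TensorProduct.induction_on with
      | zero => simp
      | add a b ha hb => simp only [map_add, ha, hb]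
      | tmul s x =>
        induction x using TensorProduct.induction_on with
        | zero => simp
        | add a b ha hb => simp only [map_add, TensorProduct.tmul_add, ha, hb]
        | tmul a b =>
          simp only [T, K, X2, D2, θ₁, liftC_tmul, Algebra.TensorProduct.lift_tmul, Algebra.TensorProduct.map_tmul,
            AlgHom.restrictScalars_apply, Algebra.ofId_apply, map_mul, sq_tmul, AlgHom.commutes,
            includeRight_apply, AlgHom.id_apply, map_one, one_mul]
          rfl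
    have hc : Bialgebra.comulAlgHom R C (θ c) = sq R θ₁ (T (χ₁ c)) := by
      rw [key, hχ₁]
      exact (hKJ _).symm
    change Bialgebra.comulAlgHom R C (θ₁ ((1 : S) ⊗ₜ c)) = sq R θ₁ (extC (T.comp χ₁) ((1 : S) ⊗ₜ c))
    rw [extC_one, AlgHom.comp_apply, ← hc]
    simp [θ₁]
  · refine DFunLike.congr_fun (f := ((Bialgebra.counitAlgHom R C).restrictScalars S).comp θ₁)
      (g := (Algebra.ofId S R).comp (Algebra.TensorProduct.lift (Algebra.ofId S S)
        ((Algebra.TensorProduct.rid A A S).toAlgHom.comp χ₂) fun _ _ => Commute.all' _ _))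
      (hom_ext fun c => ?_) z
    have key : ∀ w : S ⊗[A] A, algebraMap S R (Algebra.TensorProduct.rid A A S w) =
        Algebra.TensorProduct.rid A A R (Algebra.TensorProduct.map S.val (AlgHom.id A A) w) := by
      intro w
      induction w using TensorProduct.induction_on with
      | zero => simp
      | add a b ha hb => simp only [map_add, ha, hb]
      | tmul s a => simp
    have hc : Bialgebra.counitAlgHom R C (θ c) =
        algebraMap S R (Algebra.TensorProduct.rid A A S (χ₂ c)) := by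
      rw [key, hχ₂]
      simp
    simpa [θ₁, Algebra.ofId_apply] using hc
  · refine DFunLike.congr_fun (f := ((HopfAlgebra.antipodeAlgHom R C).restrictScalars S).comp θ₁)
      (g := θ₁.comp (Algebra.TensorProduct.lift (Algebra.ofId S _) χ₃ fun _ _ => Commute.all' _ _))
      (hom_ext fun c => ?_) z
    have key : ∀ w, θ₁ w = tot (R := R) θ (Algebra.TensorProduct.map S.val (AlgHom.id A C₀) w) := by
      intro w
      induction w using TensorProduct.induction_on with
      | zero => simp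
      | add a b ha hb => simp only [map_add, ha, hb]
      | tmul s a => simp [θ₁, tot, Algebra.ofId_apply]; rfl
    have hc : HopfAlgebra.antipodeAlgHom R C (θ c) = θ₁ (χ₃ c) := by
      rw [key, hχ₃]
      exact (hj _).symm
    simpa [θ₁, Algebra.ofId_apply] using hc

/-- The axioms hold at a stage. -/
theorem exists_hopf [Algebra.FiniteType A C₀] {δ : C₀ →ₐ[A] C₀ ⊗[A] C₀} {ε : C₀ →ₐ[A] A}
    {σ : C₀ →ₐ[A] C₀} (θ : C₀ →ₐ[A] C) (hθ : Function.Bijective (tot (R := R) θ))
    (hc : Compat (S := R) δ ε σ θ (Bialgebra.comulAlgHom R C) (Bialgebra.counitAlgHom R C)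
      (HopfAlgebra.antipodeAlgHom R C)) :
    ∃ (S : Subalgebra A R) (_ : S.FG) (C₁ : Type u) (_ : CommRing C₁) (_ : HopfAlgebra S C₁),
      (Algebra.FinitePresentation A C₀ → Algebra.FinitePresentation S C₁) ∧
      Nonempty (R ⊗[S] C₁ ≃ₐc[R] C) := by
  classical
  have hinc : ∀ x y : C₀, θ x = θ y → (1 : R) ⊗ₜ[A] x = (1 : R) ⊗ₜ[A] y :=
    fun x y h => incl_injective hθ h
  have hco : ∀ c, (1 : R) ⊗ₜ[A] coL δ c = (1 : R) ⊗ₜ[A] coR δ c := fun c =>
    cube_injective hθ (by rw [← nat_coL hc, ← nat_coR hc, coL_eq_coR])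
  have hul : ∀ c, (1 : R) ⊗ₜ[A] unL δ ε c = (1 : R) ⊗ₜ[A] c := fun c =>
    hinc _ _ (by rw [← nat_unL hc, unL_eq])
  have hur : ∀ c, (1 : R) ⊗ₜ[A] unR δ ε c = (1 : R) ⊗ₜ[A] c := fun c =>
    hinc _ _ (by rw [← nat_unR hc, unR_eq])
  have hal : ∀ c, (1 : R) ⊗ₜ[A] anL δ σ c = (1 : R) ⊗ₜ[A] algebraMap A C₀ (ε c) := fun c =>
    hinc _ _ (by
      rw [← nat_anL hc, anL_eq, AlgHom.commutes, IsScalarTower.algebraMap_apply A R C, hc.counit])
  have har : ∀ c, (1 : R) ⊗ₜ[A] anR δ σ c = (1 : R) ⊗ₜ[A] algebraMap A C₀ (ε c) := fun c =>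
    hinc _ _ (by
      rw [← nat_anR hc, anR_eq, AlgHom.commutes, IsScalarTower.algebraMap_apply A R C, hc.counit])
  obtain ⟨S₁, f₁, k₁⟩ := exists_eq (R := R) (C₀ ⊗[A] (C₀ ⊗[A] C₀)) (coL δ) (coR δ) hco
  obtain ⟨S₂, f₂, k₂⟩ := exists_eq (R := R) C₀ (unL δ ε) (AlgHom.id A C₀) hul
  obtain ⟨S₃, f₃, k₃⟩ := exists_eq (R := R) C₀ (unR δ ε) (AlgHom.id A C₀) hur
  obtain ⟨S₄, f₄, k₄⟩ := exists_eq (R := R) C₀ (anL δ σ) ((Algebra.ofId A C₀).comp ε) hal
  obtain ⟨S₅, f₅, k₅⟩ := exists_eq (R := R) C₀ (anR δ σ) ((Algebra.ofId A C₀).comp ε) har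
  let S := S₁ ⊔ S₂ ⊔ S₃ ⊔ S₄ ⊔ S₅
  have hS : AxiomsAt δ ε σ S :=
    { co := k₁ S (le_sup_left.trans (le_sup_left.trans (le_sup_left.trans le_sup_left)))
      unl := k₂ S (le_sup_right.trans (le_sup_left.trans (le_sup_left.trans le_sup_left)))
      unr := k₃ S (le_sup_right.trans (le_sup_left.trans le_sup_left))
      anl := k₄ S (le_sup_right.trans le_sup_left)
      anr := k₅ S le_sup_right }
  letI := hopfOf hS
  refine ⟨S, (((f₁.sup f₂).sup f₃).sup f₄).sup f₅, S ⊗[A] C₀, inferInstance, hopfOf hS,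
    fun h => by haveI := h; exact Algebra.FinitePresentation.baseChange S, ?_⟩
  let θ₁ : S ⊗[A] C₀ →ₐ[S] C :=
    Algebra.TensorProduct.lift (Algebra.ofId S C) θ fun _ _ => Commute.all _ _
  let e : R ⊗[S] (S ⊗[A] C₀) ≃ₐ[R] C := AlgEquiv.ofBijective (tot (R := R) θ₁) (tot_bijective_step hθ)
  have hθ₁ : ∀ c, θ₁ ((1 : S) ⊗ₜ c) = θ c := fun c => by simp [θ₁]
  refine ⟨BialgEquiv.ofAlgEquiv e (hom_ext fun z => ?_) (hom_ext fun z => ?_)⟩
  · have h1 : ∀ w, Bialgebra.counitAlgHom R C (θ₁ w) = algebraMap S R (bcε ε S w) := by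
      intro w
      refine DFunLike.congr_fun (f := ((Bialgebra.counitAlgHom R C).restrictScalars S).comp θ₁)
        (g := (Algebra.ofId S R).comp (bcε ε S)) (hom_ext fun c => ?_) w
      simp only [AlgHom.comp_apply, AlgHom.restrictScalars_apply, hθ₁, hc.counit, Algebra.ofId_apply,
        ← IsScalarTower.algebraMap_apply, (compat_bc δ ε σ S).counit c]
      rw [show bcε ε S ((1 : S) ⊗ₜ c) = algebraMap A S (ε c) from (compat_bc δ ε σ S).counit c,
        ← IsScalarTower.algebraMap_apply]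
    change Bialgebra.counitAlgHom R C (tot (R := R) θ₁ ((1 : R) ⊗ₜ z)) = _
    rw [tot_one, h1]
    change _ = Coalgebra.counit (R := R) ((1 : R) ⊗ₜ[S] z)
    rw [TensorProduct.counit_tmul]
    simp [Algebra.smul_def]
    rfl
  · have h1 : ∀ w, sq R θ₁ (bcδ δ S w) = Bialgebra.comulAlgHom R C (θ₁ w) := by
      intro w
      refine DFunLike.congr_fun (f := (sq R θ₁).comp (bcδ δ S))
        (g := ((Bialgebra.comulAlgHom R C).restrictScalars S).comp θ₁) (hom_ext fun c => ?_) w
      change sq R θ₁ (bcδ δ S ((1 : S) ⊗ₜ c)) = Bialgebra.comulAlgHom R C (θ₁ ((1 : S) ⊗ₜ c))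
      rw [hθ₁, hc.comul]
      rw [show bcδ δ S ((1 : S) ⊗ₜ c) = sq S includeRight (δ c) from (compat_bc δ ε σ S).comul c]
      induction δ c using TensorProduct.induction_on with
      | zero => simp
      | add a b ha hb => simp only [map_add, ha, hb]
      | tmul a b => simp [sq_tmul, hθ₁]
    simp only [AlgHom.comp_apply, Bialgebra.comulAlgHom_apply]
    rw [show (e : R ⊗[S] (S ⊗[A] C₀) →ₐ[R] C) ((1 : R) ⊗ₜ z) = θ₁ z from tot_one θ₁ z]
    change _ = Bialgebra.comulAlgHom R C (θ₁ z)
    rw [← h1, TensorProduct.comul_tmul, Bialgebra.comul_one, Algebra.TensorProduct.one_def]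
    change Algebra.TensorProduct.map (e : _ →ₐ[R] C) (e : _ →ₐ[R] C)
      (TensorProduct.AlgebraTensorModule.tensorTensorTensorComm S R S R R R _ _
        ((1 ⊗ₜ[R] 1) ⊗ₜ[S] bcδ δ S z)) = _
    induction bcδ δ S z using TensorProduct.induction_on with
    | zero => simp
    | add a b ha hb => simp only [map_add, TensorProduct.tmul_add, ha, hb]
    | tmul a b => simp [sq_tmul, e, tot_one]

end steps

/-- A finitely presented Hopf algebra has a model over a ring of finite type over `ℤ`. -/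
theorem exists_hopf_model {R : Type u} [CommRing R] (C : Type u) [CommRing C] [HopfAlgebra R C]
    (hfp : Algebra.FinitePresentation R C) :
    ∃ (R₀ : Type u) (_ : CommRing R₀) (_ : IsNoetherianRing R₀) (_ : Algebra R₀ R) (C₀ : Type u)
      (_ : CommRing C₀) (_ : HopfAlgebra R₀ C₀), Algebra.FinitePresentation R₀ C₀ ∧
      Nonempty (R ⊗[R₀] C₀ ≃ₐc[R] C) := by
  classical
  haveI := hfp
  let P := Algebra.Presentation.ofFinitePresentation R C
  let A : Subalgebra ℤ R := Algebra.adjoin ℤ P.coeffs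
  haveI : P.HasCoeffs A := ⟨fun x hx => ⟨⟨x, Algebra.subset_adjoin hx⟩, rfl⟩⟩
  let C₁ := P.ModelOfHasCoeffs A
  let eB : R ⊗[A] C₁ ≃ₐ[R] C := P.tensorModelOfHasCoeffsEquiv A
  have hA : A.FG := Subalgebra.fg_def.2 ⟨P.coeffs, P.finite_coeffs, rfl⟩
  haveI : Algebra.FiniteType ℤ A := A.fg_iff_finiteType.mp hA
  haveI : IsNoetherianRing A := Algebra.FiniteType.isNoetherianRing ℤ A
  let θ : C₁ →ₐ[A] C := (eB.toAlgHom.restrictScalars A).comp includeRight
  have hθ : Function.Bijective (tot (R := R) θ) := by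
    have : tot (R := R) θ = eB.toAlgHom := hom_ext fun c => by rw [tot_one]; rfl
    rw [this]
    exact eB.bijective
  obtain ⟨S, hS, δ, ε, σ, hc⟩ := exists_data θ hθ
  haveI : Algebra.FiniteType A S := S.fg_iff_finiteType.mp hS
  haveI : IsNoetherianRing S := Algebra.FiniteType.isNoetherianRing A S
  obtain ⟨T, hT, C₂, _, hopf, hfp₂, ⟨e⟩⟩ := exists_hopf _ (tot_bijective_step hθ) hc
  haveI : Algebra.FiniteType S T := T.fg_iff_finiteType.mp hT
  haveI : IsNoetherianRing T := Algebra.FiniteType.isNoetherianRing S T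
  exact ⟨T, inferInstance, inferInstance, inferInstance, C₂, inferInstance, hopf,
    hfp₂ inferInstance, ⟨e⟩⟩

end Groth.L25.Char.Model
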