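import Groth.Agent.L03.ColimTensor
import Mathlib.RingTheory.Bialgebra.Equiv
import Mathlib.RingTheory.HopfAlgebra.Basic
import Mathlib.RingTheory.HopfAlgebra.TensorProduct
import Mathlib.RingTheory.Adjoin.FG
import Mathlib.RingTheory.FinitePresentation

/-!
# Lifting Hopf structures to a stage of a filtered colimit of rings

Data of algebra maps `δ ε σ` on `C₀` over `A` compatible with a Hopf algebra `C` over `R`
satisfying `R ⊗[A] C₀ ≅ C` gives a Hopf algebra over a finitely generated `A`-subalgebra of `R`.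
-/

set_option autoImplicit false

universe u

open TensorProduct Algebra.TensorProduct

namespace Groth.L25.Char.Model

section Data

variable {A : Type u} [CommRing A] {C₀ : Type u} [CommRing C₀] [Algebra A C₀]
  {S : Type u} [CommRing S] [Algebra A S] {D : Type u} [CommRing D] [Algebra S D] [Algebra A D]
  [IsScalarTower A S D]

variable (S) in
/-- `C₀ ⊗ C₀ → D ⊗ D` -/
noncomputable def sq (θ : C₀ →ₐ[A] D) : C₀ ⊗[A] C₀ →ₐ[A] D ⊗[S] D :=
  Algebra.TensorProduct.lift ((includeLeft : D →ₐ[A] D ⊗[S] D).comp θ)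
    (((includeRight : D →ₐ[S] D ⊗[S] D).restrictScalars A).comp θ) fun _ _ => Commute.all _ _

theorem sq_tmul (θ : C₀ →ₐ[A] D) (a b : C₀) : sq S θ (a ⊗ₜ b) = θ a ⊗ₜ[S] θ b := by
  simp [sq]

variable (S) in
/-- `C₀ ⊗ C₀ ⊗ C₀ → D ⊗ D ⊗ D` -/
noncomputable def cube (θ : C₀ →ₐ[A] D) : C₀ ⊗[A] (C₀ ⊗[A] C₀) →ₐ[A] D ⊗[S] (D ⊗[S] D) :=
  Algebra.TensorProduct.lift ((includeLeft : D →ₐ[A] D ⊗[S] (D ⊗[S] D)).comp θ)
    (((includeRight : D ⊗[S] D →ₐ[S] D ⊗[S] (D ⊗[S] D)).restrictScalars A).comp (sq S θ))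
    fun _ _ => Commute.all _ _

theorem cube_tmul (θ : C₀ →ₐ[A] D) (a b c : C₀) :
    cube S θ (a ⊗ₜ (b ⊗ₜ c)) = θ a ⊗ₜ[S] (θ b ⊗ₜ[S] θ c) := by
  simp [cube, sq_tmul]

/-- The maps are compatible along `θ`. -/
structure Compat (δ : C₀ →ₐ[A] C₀ ⊗[A] C₀) (ε : C₀ →ₐ[A] A) (σ : C₀ →ₐ[A] C₀)
    (θ : C₀ →ₐ[A] D) (δD : D →ₐ[S] D ⊗[S] D) (εD : D →ₐ[S] S) (σD : D →ₐ[S] D) : Prop where
  comul : ∀ c, δD (θ c) = sq S θ (δ c)
  counit : ∀ c, εD (θ c) = algebraMap A S (ε c)
  anti : ∀ c, σD (θ c) = θ (σ c)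

variable (δ : C₀ →ₐ[A] C₀ ⊗[A] C₀) (ε : C₀ →ₐ[A] A) (σ : C₀ →ₐ[A] C₀)

/-- left side of coassociativity -/
noncomputable def coL : C₀ →ₐ[A] C₀ ⊗[A] (C₀ ⊗[A] C₀) :=
  (Algebra.TensorProduct.assoc A A A C₀ C₀ C₀).toAlgHom.comp
    ((Algebra.TensorProduct.map δ (.id A C₀)).comp δ)

/-- right side of coassociativity -/
noncomputable def coR : C₀ →ₐ[A] C₀ ⊗[A] (C₀ ⊗[A] C₀) :=
  (Algebra.TensorProduct.map (.id A C₀) δ).comp δ

/-- left counit composite -/
noncomputable def unL : C₀ →ₐ[A] C₀ :=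
  (Algebra.TensorProduct.lid A C₀).toAlgHom.comp ((Algebra.TensorProduct.map ε (.id A C₀)).comp δ)

/-- right counit composite -/
noncomputable def unR : C₀ →ₐ[A] C₀ :=
  (Algebra.TensorProduct.rid A A C₀).toAlgHom.comp ((Algebra.TensorProduct.map (.id A C₀) ε).comp δ)

/-- left antipode composite -/
noncomputable def anL : C₀ →ₐ[A] C₀ :=
  (Algebra.TensorProduct.lift σ (.id A C₀) fun _ _ => Commute.all _ _).comp δ

/-- right antipode composite -/
noncomputable def anR : C₀ →ₐ[A] C₀ :=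
  (Algebra.TensorProduct.lift (.id A C₀) σ fun _ _ => Commute.all _ _).comp δ

variable {δ ε σ} {θ : C₀ →ₐ[A] D} {δD : D →ₐ[S] D ⊗[S] D} {εD : D →ₐ[S] S} {σD : D →ₐ[S] D}
  (h : Compat δ ε σ θ δD εD σD)
include h

theorem nat_coL (c : C₀) : coL δD (θ c) = cube S θ (coL δ c) := by
  simp only [coL, AlgHom.comp_apply, h.comul]
  induction δ c using TensorProduct.induction_on with
  | zero => simp
  | add a b ha hb => simp only [map_add, ha, hb]
  | tmul a b =>
    rw [sq_tmul, Algebra.TensorProduct.map_tmul, Algebra.TensorProduct.map_tmul, h.comul]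
    simp only [AlgHom.id_apply]
    induction δ a using TensorProduct.induction_on with
    | zero => simp
    | add x y hx hy => simp only [map_add, TensorProduct.add_tmul, hx, hy]
    | tmul x y => simp [sq_tmul, cube_tmul]

theorem nat_coR (c : C₀) : coR δD (θ c) = cube S θ (coR δ c) := by
  simp only [coR, AlgHom.comp_apply, h.comul]
  induction δ c using TensorProduct.induction_on with
  | zero => simp
  | add a b ha hb => simp only [map_add, ha, hb]
  | tmul a b =>
    rw [sq_tmul, Algebra.TensorProduct.map_tmul, Algebra.TensorProduct.map_tmul, h.comul]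
    simp only [AlgHom.id_apply]
    induction δ b using TensorProduct.induction_on with
    | zero => simp
    | add x y hx hy => simp only [map_add, TensorProduct.tmul_add, hx, hy]
    | tmul x y => simp [sq_tmul, cube_tmul]

theorem nat_unL (c : C₀) : unL δD εD (θ c) = θ (unL δ ε c) := by
  simp only [unL, AlgHom.comp_apply, h.comul]
  induction δ c using TensorProduct.induction_on with
  | zero => simp
  | add a b ha hb => simp only [map_add, ha, hb]
  | tmul a b => simp [sq_tmul, h.counit, map_smul, algebraMap_smul]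

theorem nat_unR (c : C₀) : unR δD εD (θ c) = θ (unR δ ε c) := by
  simp only [unR, AlgHom.comp_apply, h.comul]
  induction δ c using TensorProduct.induction_on with
  | zero => simp
  | add a b ha hb => simp only [map_add, ha, hb]
  | tmul a b => simp [sq_tmul, h.counit, map_smul, algebraMap_smul]

theorem nat_anL (c : C₀) : anL δD σD (θ c) = θ (anL δ σ c) := by
  simp only [anL, AlgHom.comp_apply, h.comul]
  induction δ c using TensorProduct.induction_on with
  | zero => simp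
  | add a b ha hb => simp only [map_add, ha, hb]
  | tmul a b => simp [sq_tmul, h.anti]

theorem nat_anR (c : C₀) : anR δD σD (θ c) = θ (anR δ σ c) := by
  simp only [anR, AlgHom.comp_apply, h.comul]
  induction δ c using TensorProduct.induction_on with
  | zero => simp
  | add a b ha hb => simp only [map_add, ha, hb]
  | tmul a b => simp [sq_tmul, h.anti]

end Data

section BaseChange

variable {A : Type u} [CommRing A] {C₀ : Type u} [CommRing C₀] [Algebra A C₀]

theorem hom_ext {S : Type u} [CommRing S] [Algebra A S] {Y : Type u} [CommRing Y] [Algebra S Y]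
    {f g : S ⊗[A] C₀ →ₐ[S] Y} (h : ∀ c, f ((1 : S) ⊗ₜ c) = g ((1 : S) ⊗ₜ c)) : f = g := by
  refine AlgHom.ext fun z => ?_
  induction z using TensorProduct.induction_on with
  | zero => simp
  | add a b ha hb => simp only [map_add, ha, hb]
  | tmul s c =>
    rw [show s ⊗ₜ[A] c = s • ((1 : S) ⊗ₜ[A] c) by rw [TensorProduct.smul_tmul', smul_eq_mul, mul_one],
      map_smul, map_smul, h]

variable (δ : C₀ →ₐ[A] C₀ ⊗[A] C₀) (ε : C₀ →ₐ[A] A) (σ : C₀ →ₐ[A] C₀)
  (S : Type u) [CommRing S] [Algebra A S]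

/-- base change of `δ` -/
noncomputable def bcδ : S ⊗[A] C₀ →ₐ[S] (S ⊗[A] C₀) ⊗[S] (S ⊗[A] C₀) :=
  Algebra.TensorProduct.lift (Algebra.ofId S _)
    ((sq S (includeRight : C₀ →ₐ[A] S ⊗[A] C₀)).comp δ) fun _ _ => Commute.all _ _

/-- base change of `ε` -/
noncomputable def bcε : S ⊗[A] C₀ →ₐ[S] S :=
  Algebra.TensorProduct.lift (Algebra.ofId S S) ((Algebra.ofId A S).comp ε)
    fun _ _ => Commute.all _ _

/-- base change of `σ` -/
noncomputable def bcσ : S ⊗[A] C₀ →ₐ[S] S ⊗[A] C₀ :=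
  Algebra.TensorProduct.lift (Algebra.ofId S _)
    ((includeRight : C₀ →ₐ[A] S ⊗[A] C₀).comp σ) fun _ _ => Commute.all _ _

theorem compat_bc : Compat δ ε σ (includeRight : C₀ →ₐ[A] S ⊗[A] C₀) (bcδ δ S) (bcε ε S)
    (bcσ σ S) := by
  refine ⟨fun c => ?_, fun c => ?_, fun c => ?_⟩ <;>
    simp [bcδ, bcε, bcσ, Algebra.ofId_apply, ← Algebra.TensorProduct.one_def]

variable {δ ε σ}

/-- A map to an algebra over `S` only sees the image in the base change. -/
theorem factor {X : Type u} [CommRing X] [Algebra A X] {Y : Type u} [CommRing Y] [Algebra S Y]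
    [Algebra A Y] [IsScalarTower A S Y] (Φ : X →ₐ[A] Y) {x y : X}
    (h : (1 : S) ⊗ₜ[A] x = (1 : S) ⊗ₜ[A] y) : Φ x = Φ y := by
  have := congrArg (Algebra.TensorProduct.lift (Algebra.ofId S Y) Φ fun _ _ => Commute.all _ _) h
  simpa [Algebra.ofId_apply, map_one] using this

variable (δ ε σ) in
/-- The axioms after base change to `S`. -/
structure AxiomsAt : Prop where
  co : ∀ c, (1 : S) ⊗ₜ[A] coL δ c = (1 : S) ⊗ₜ[A] coR δ c
  unl : ∀ c, (1 : S) ⊗ₜ[A] unL δ ε c = (1 : S) ⊗ₜ[A] c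
  unr : ∀ c, (1 : S) ⊗ₜ[A] unR δ ε c = (1 : S) ⊗ₜ[A] c
  anl : ∀ c, (1 : S) ⊗ₜ[A] anL δ σ c = (1 : S) ⊗ₜ[A] algebraMap A C₀ (ε c)
  anr : ∀ c, (1 : S) ⊗ₜ[A] anR δ σ c = (1 : S) ⊗ₜ[A] algebraMap A C₀ (ε c)

variable {S}

/-- The bialgebra over a stage where the axioms hold. -/
noncomputable abbrev bialgebraOf (h : AxiomsAt δ ε σ S) : Bialgebra S (S ⊗[A] C₀) :=
  Bialgebra.ofAlgHom (bcδ δ S) (bcε ε S)
    (hom_ext fun c => by
      change coL (bcδ δ S) (includeRight c) = coR (bcδ δ S) (includeRight c)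
      rw [nat_coL (compat_bc δ ε σ S), nat_coR (compat_bc δ ε σ S)]
      exact factor (Y := (S ⊗[A] C₀) ⊗[S] ((S ⊗[A] C₀) ⊗[S] (S ⊗[A] C₀))) S (cube S (includeRight : C₀ →ₐ[A] S ⊗[A] C₀)) (h.co c))
    (hom_ext fun c => by
      have h1 : unL (bcδ δ S) (bcε ε S) (includeRight c) = includeRight c := by
        rw [nat_unL (compat_bc δ ε σ S)]
        exact factor (Y := S ⊗[A] C₀) S (includeRight : C₀ →ₐ[A] S ⊗[A] C₀) (h.unl c)
      apply (Algebra.TensorProduct.lid S (S ⊗[A] C₀)).injective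
      refine h1.trans ?_
      exact ((Algebra.TensorProduct.lid S (S ⊗[A] C₀)).apply_symm_apply _).symm)
    (hom_ext fun c => by
      have h1 : unR (bcδ δ S) (bcε ε S) (includeRight c) = includeRight c := by
        rw [nat_unR (compat_bc δ ε σ S)]
        exact factor (Y := S ⊗[A] C₀) S (includeRight : C₀ →ₐ[A] S ⊗[A] C₀) (h.unr c)
      apply (Algebra.TensorProduct.rid S S (S ⊗[A] C₀)).injective
      refine h1.trans ?_
      exact ((Algebra.TensorProduct.rid S S (S ⊗[A] C₀)).apply_symm_apply _).symm)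

/-- The Hopf algebra over a stage where the axioms hold. -/
noncomputable abbrev hopfOf (h : AxiomsAt δ ε σ S) : HopfAlgebra S (S ⊗[A] C₀) :=
  letI := bialgebraOf h
  HopfAlgebra.ofAlgHom (bcσ σ S)
    (hom_ext fun c => by
      change anL (bcδ δ S) (bcσ σ S) (includeRight c) = algebraMap S _ (bcε ε S (includeRight c))
      rw [nat_anL (compat_bc δ ε σ S), (compat_bc δ ε σ S).counit,
        ← IsScalarTower.algebraMap_apply, ← AlgHom.commutes (includeRight : C₀ →ₐ[A] S ⊗[A] C₀)]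
      exact factor (Y := S ⊗[A] C₀) S (includeRight : C₀ →ₐ[A] S ⊗[A] C₀) (h.anl c))
    (hom_ext fun c => by
      change anR (bcδ δ S) (bcσ σ S) (includeRight c) = algebraMap S _ (bcε ε S (includeRight c))
      rw [nat_anR (compat_bc δ ε σ S), (compat_bc δ ε σ S).counit,
        ← IsScalarTower.algebraMap_apply, ← AlgHom.commutes (includeRight : C₀ →ₐ[A] S ⊗[A] C₀)]
      exact factor (Y := S ⊗[A] C₀) S (includeRight : C₀ →ₐ[A] S ⊗[A] C₀) (h.anr c))

end BaseChange

section Colimit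

variable {A : Type u} [CommRing A] {R : Type u} [CommRing R] [Algebra A R]

/-- The finitely generated subalgebras form a colimit system. -/
theorem isColim : Groth.L03.SmoothStage.IsColim (B := A)
    (fun S : {S : Subalgebra A R // S.FG} => S.1) (fun S => S.1.val) where
  nonempty := ⟨⟨⊥, Subalgebra.fg_bot⟩⟩
  dir i j := ⟨⟨i.1 ⊔ j.1, i.2.sup j.2⟩, Subalgebra.inclusion le_sup_left,
    Subalgebra.inclusion le_sup_right, rfl, rfl⟩
  surj a := ⟨⟨Algebra.adjoin A {a}, ⟨{a}, by simp⟩⟩, ⟨a, Algebra.subset_adjoin rfl⟩, rfl⟩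
  ker i x hx := ⟨i, AlgHom.id A _, rfl, Subtype.ext hx⟩

/-- A homomorphism from a finitely presented algebra into `X ⊗ R` factors through a stage. -/
theorem exists_hom {B : Type u} [CommRing B] [Algebra A B] [Algebra.FinitePresentation A B]
    (X : Type u) [CommRing X] [Algebra A X] (φ : B →ₐ[A] X ⊗[A] R) :
    ∃ (S : Subalgebra A R), S.FG ∧ ∃ χ : B →ₐ[A] X ⊗[A] S,
      ∀ b, Algebra.TensorProduct.map (AlgHom.id A X) S.val (χ b) = φ b := by
  classical
  obtain ⟨n, π, hπ, t, ht⟩ := Algebra.FinitePresentation.out (R := A) (A := B)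
  obtain ⟨i, hi⟩ := Groth.L03.ColimTensor.exists_lift isColim X
    fun k : Fin n => φ (π (MvPolynomial.X k))
  choose v hv using hi
  have hmap : ∀ (S : {S : Subalgebra A R // S.FG}) (w : X ⊗[A] S.1),
      Algebra.TensorProduct.map (AlgHom.id A X) S.1.val w = S.1.val.toLinearMap.lTensor X w := by
    intro S w
    induction w using TensorProduct.induction_on with
    | zero => simp
    | add a b ha hb => simp only [map_add, ha, hb]
    | tmul a b => simp
  have hev : ∀ p, Algebra.TensorProduct.map (AlgHom.id A X) i.1.val (MvPolynomial.aeval v p) =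
      φ (π p) := by
    intro p
    rw [← AlgHom.comp_apply, ← AlgHom.comp_apply φ π]
    congr 1
    exact MvPolynomial.algHom_ext fun k => by
      simp only [AlgHom.comp_apply, MvPolynomial.aeval_X, hmap, hv]
  obtain ⟨k, f, hf, hk⟩ := Groth.L03.ColimTensor.exists_kill isColim X i
    (fun p : Fin t.card => MvPolynomial.aeval v (t.equivFin.symm p).1) fun p => by
      rw [← hmap, hev, show π (t.equivFin.symm p).1 = 0 from
        (ht ▸ Ideal.subset_span (t.equivFin.symm p).2 :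
          (t.equivFin.symm p).1 ∈ RingHom.ker π.toRingHom), map_zero]
  let F : MvPolynomial (Fin n) A →ₐ[A] X ⊗[A] k.1 :=
    (Algebra.TensorProduct.map (AlgHom.id A X) f).comp (MvPolynomial.aeval v)
  have hF : RingHom.ker π.toRingHom ≤ RingHom.ker F.toRingHom := by
    rw [← ht, Ideal.span_le]
    intro p hp
    change Algebra.TensorProduct.map (AlgHom.id A X) f (MvPolynomial.aeval v p) = 0
    have h1 := hk (t.equivFin ⟨p, hp⟩)
    rw [Equiv.symm_apply_apply] at h1
    rw [← h1]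
    induction MvPolynomial.aeval v p using TensorProduct.induction_on with
    | zero => simp
    | add a b ha hb => simp only [map_add, ha, hb]
    | tmul a b => simp
  refine ⟨k.1, k.2, AlgHom.liftOfSurjective π hπ F hF, fun b => ?_⟩
  obtain ⟨p, rfl⟩ := hπ b
  rw [show AlgHom.liftOfSurjective π hπ F hF (π p) = F p from
    AlgHom.liftOfSurjective_apply π hπ F hF p, ← hev]
  change (Algebra.TensorProduct.map (AlgHom.id A X) k.1.val).comp
    (Algebra.TensorProduct.map (AlgHom.id A X) f) (MvPolynomial.aeval v p) = _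
  rw [← Algebra.TensorProduct.map_comp, AlgHom.id_comp, hf]

/-- Two homomorphisms out of a finite type algebra equal over `R` are equal at a stage. -/
theorem exists_eq {B : Type u} [CommRing B] [Algebra A B] [Algebra.FiniteType A B]
    (X : Type u) [CommRing X] [Algebra A X] (f g : B →ₐ[A] X)
    (h : ∀ b, (1 : R) ⊗ₜ[A] f b = (1 : R) ⊗ₜ[A] g b) :
    ∃ (S : Subalgebra A R), S.FG ∧
      ∀ (T : Subalgebra A R), S ≤ T → ∀ b, (1 : T) ⊗ₜ[A] f b = (1 : T) ⊗ₜ[A] g b := by
  classical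
  obtain ⟨n, π, hπ⟩ := Algebra.FiniteType.iff_quotient_mvPolynomial''.1
    (inferInstance : Algebra.FiniteType A B)
  let i₀ : {S : Subalgebra A R // S.FG} := ⟨⊥, Subalgebra.fg_bot⟩
  obtain ⟨k, φ, -, hk⟩ := Groth.L03.ColimTensor.exists_kill (isColim (A := A) (R := R)) X i₀
    (fun q : Fin n => (f (π (MvPolynomial.X q)) - g (π (MvPolynomial.X q))) ⊗ₜ[A] (1 : i₀.1))
    fun q => by
      have h1 := congrArg (TensorProduct.comm A R X) (h (π (MvPolynomial.X q)))
      rw [TensorProduct.comm_tmul, TensorProduct.comm_tmul] at h1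
      simp [TensorProduct.sub_tmul, h1]
  refine ⟨k.1, k.2, fun T hT b => ?_⟩
  obtain ⟨p, rfl⟩ := hπ b
  change ((includeRight : X →ₐ[A] T ⊗[A] X).comp (f.comp π)) p =
    ((includeRight : X →ₐ[A] T ⊗[A] X).comp (g.comp π)) p
  refine DFunLike.congr_fun ?_ p
  refine MvPolynomial.algHom_ext fun q => ?_
  have h2 := congrArg
    (fun w => TensorProduct.comm A X T ((Subalgebra.inclusion hT).toLinearMap.lTensor X w)) (hk q)
  simp only [LinearMap.lTensor_tmul, AlgHom.toLinearMap_apply, map_one, map_zero,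
    TensorProduct.comm_tmul, TensorProduct.tmul_sub, sub_eq_zero] at h2
  exact h2

end Colimit

section Glue

variable {A : Type u} [CommRing A] {R : Type u} [CommRing R] [Algebra A R]
  {C₀ : Type u} [CommRing C₀] [Algebra A C₀] {C : Type u} [CommRing C] [Algebra R C] [Algebra A C]
  [IsScalarTower A R C]

/-- `R ⊗ C₀ → C` -/
noncomputable def tot (θ : C₀ →ₐ[A] C) : R ⊗[A] C₀ →ₐ[R] C :=
  Algebra.TensorProduct.lift (Algebra.ofId R C) θ fun _ _ => Commute.all _ _

theorem tot_one (θ : C₀ →ₐ[A] C) (c : C₀) : tot (R := R) θ ((1 : R) ⊗ₜ c) = θ c := by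
  simp [tot]

theorem tot_bijective_step {S : Type u} [CommRing S] [Algebra A S] [Algebra S R] [Algebra S C]
    [IsScalarTower A S R] [IsScalarTower S R C] [IsScalarTower A S C] {θ : C₀ →ₐ[A] C}
    (h : Function.Bijective (tot (R := R) θ)) :
    Function.Bijective (tot (R := R) (A := S)
      (Algebra.TensorProduct.lift (Algebra.ofId S C) θ fun _ _ => Commute.all _ _ :
        S ⊗[A] C₀ →ₐ[S] C)) := by
  have key : tot (R := R) (A := S)
      (Algebra.TensorProduct.lift (Algebra.ofId S C) θ fun _ _ => Commute.all _ _ :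
        S ⊗[A] C₀ →ₐ[S] C) =
      (tot (R := R) θ).comp (Algebra.TensorProduct.cancelBaseChange A S R R C₀).toAlgHom := by
    refine hom_ext fun w => ?_
    rw [tot_one]
    induction w using TensorProduct.induction_on with
    | zero => simp
    | add a b ha hb => simp only [map_add, TensorProduct.tmul_add, ha, hb]
    | tmul s c =>
      simp [tot, Algebra.ofId_apply, Algebra.smul_def, ← IsScalarTower.algebraMap_apply S R C]
  rw [key]
  exact h.comp (Algebra.TensorProduct.cancelBaseChange A S R R C₀).bijective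

/-- The product of three maps. -/
noncomputable def tri {P Q : Type u} [CommRing P] [Algebra R P] [CommRing Q] [Algebra R Q]
    (f₁ f₂ f₃ : P →ₐ[R] Q) : P ⊗[R] (P ⊗[R] P) →ₐ[R] Q :=
  Algebra.TensorProduct.productMap f₁ (Algebra.TensorProduct.productMap f₂ f₃)

theorem tri_tmul {P Q : Type u} [CommRing P] [Algebra R P] [CommRing Q] [Algebra R Q]
    (f₁ f₂ f₃ : P →ₐ[R] Q) (a b c : P) :
    tri f₁ f₂ f₃ (a ⊗ₜ (b ⊗ₜ c)) = f₁ a * (f₂ b * f₃ c) := rfl

theorem cube_injective {θ : C₀ →ₐ[A] C} (h : Function.Bijective (tot (R := R) θ))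
    {x y : C₀ ⊗[A] (C₀ ⊗[A] C₀)} (hxy : cube R θ x = cube R θ y) :
    (1 : R) ⊗ₜ[A] x = (1 : R) ⊗ₜ[A] y := by
  let j : C →ₐ[R] R ⊗[A] C₀ := (AlgEquiv.ofBijective _ h).symm.toAlgHom
  have hj : ∀ c, j (θ c) = (1 : R) ⊗ₜ c := fun c => by
    rw [← tot_one (R := R) θ c]
    exact AlgEquiv.symm_apply_apply (AlgEquiv.ofBijective (tot (R := R) θ) h) ((1 : R) ⊗ₜ[A] c)
  let i₁ : C₀ →ₐ[A] C₀ ⊗[A] (C₀ ⊗[A] C₀) := includeLeft
  let i₂ : C₀ →ₐ[A] C₀ ⊗[A] (C₀ ⊗[A] C₀) :=
    (includeRight : C₀ ⊗[A] C₀ →ₐ[A] _).comp includeLeft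
  let i₃ : C₀ →ₐ[A] C₀ ⊗[A] (C₀ ⊗[A] C₀) :=
    (includeRight : C₀ ⊗[A] C₀ →ₐ[A] _).comp includeRight
  let m : (C₀ →ₐ[A] C₀ ⊗[A] (C₀ ⊗[A] C₀)) → C →ₐ[R] R ⊗[A] (C₀ ⊗[A] (C₀ ⊗[A] C₀)) :=
    fun i => (Algebra.TensorProduct.map (AlgHom.id R R) i).comp j
  let J : C ⊗[R] (C ⊗[R] C) →ₐ[R] R ⊗[A] (C₀ ⊗[A] (C₀ ⊗[A] C₀)) :=
    tri (Q := R ⊗[A] (C₀ ⊗[A] (C₀ ⊗[A] C₀))) (m i₁) (m i₂) (m i₃)
  have hJ : ∀ z, J (cube R θ z) = (1 : R) ⊗ₜ[A] z := by
    intro z
    induction z using TensorProduct.induction_on with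
    | zero => simp
    | add a b ha hb => simp only [map_add, TensorProduct.tmul_add, ha, hb]
    | tmul a w =>
      induction w using TensorProduct.induction_on with
      | zero => simp
      | add p q hp hq => simp only [map_add, TensorProduct.tmul_add, hp, hq]
      | tmul b c =>
        simp [cube_tmul, J, tri_tmul, m, i₁, i₂, i₃, hj, ← Algebra.TensorProduct.one_def]
  rw [← hJ, hxy, hJ]

theorem incl_injective {θ : C₀ →ₐ[A] C} (h : Function.Bijective (tot (R := R) θ))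
    {x y : C₀} (hxy : θ x = θ y) : (1 : R) ⊗ₜ[A] x = (1 : R) ⊗ₜ[A] y :=
  h.1 (by rw [tot_one, tot_one, hxy])

end Glue

end Groth.L25.Char.Model
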