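import Groth.Agent.L25.Char.Spread
import Mathlib.RingTheory.Idempotents

/-!
# Group algebras along nil thickenings
-/

set_option autoImplicit false

universe u

open TensorProduct

namespace Groth.L25.Char

open Groth.L25.MultType

variable {T : Type u} [CommRing T] {M N : Type u} [CommGroup M] [CommGroup N]

/-- A finite complete family of orthogonal idempotents gives a group-like element. -/
theorem isGroupLikeElem_sum_single {ι : Type u} [Fintype ι] (v : ι → M) (c : ι → T)
    (hc : CompleteOrthogonalIdempotents c) :
    IsGroupLikeElem T (∑ i, MonoidAlgebra.single (v i) (c i)) := by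
  classical
  refine ⟨?_, ?_⟩
  · rw [map_sum]
    simpa using hc.complete
  · rw [map_sum, TensorProduct.sum_tmul]
    simp_rw [TensorProduct.tmul_sum]
    refine Finset.sum_congr rfl fun i _ => ?_
    have h1 : ∀ j, MonoidAlgebra.single (v i) (c i) ⊗ₜ[T] MonoidAlgebra.single (v j) (c j) =
        (c i * c j) • (MonoidAlgebra.single (v i) (1 : T) ⊗ₜ[T] MonoidAlgebra.single (v j) 1) := by
      intro j
      rw [show MonoidAlgebra.single (v i) (c i) = c i • MonoidAlgebra.single (v i) (1 : T) by simp,
        show MonoidAlgebra.single (v j) (c j) = c j • MonoidAlgebra.single (v j) (1 : T) by simp,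
        TensorProduct.tmul_smul, TensorProduct.smul_tmul', smul_smul, mul_comm (c j) (c i),
        TensorProduct.smul_tmul']
    simp_rw [h1]
    rw [Finset.sum_eq_single i]
    · rw [(hc.idem i).eq,
        show MonoidAlgebra.single (v i) (c i) = c i • MonoidAlgebra.single (v i) (1 : T) by simp,
        map_smul, (MonoidAlgebra.isGroupLikeElem_single_one (v i)).comul_eq_tmul_self]
    · intro j _ hj
      rw [hc.ortho (Ne.symm hj), zero_smul]
    · simp

variable (J : Ideal T)

/-- Group-like elements of group algebras lift along nil ideals. -/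
theorem exists_groupLike_lift (hJ : ∀ x ∈ J, IsNilpotent x) {x₀ : MonoidAlgebra (T ⧸ J) M}
    (hx : IsGroupLikeElem (T ⧸ J) x₀) :
    ∃ x : MonoidAlgebra T M, IsGroupLikeElem T x ∧
      MonoidAlgebra.mapRingHom M (Ideal.Quotient.mk J) x = x₀ := by
  classical
  let e : x₀.coeff.support → T ⧸ J := fun i => x₀.coeff i
  have he : CompleteOrthogonalIdempotents e := by
    refine ⟨⟨fun i => isIdempotentElem_coeff hx _, fun i j hij => ?_⟩, ?_⟩
    · have := coeff_mul_coeff hx (i : M) j
      rwa [if_neg (fun h => hij (Subtype.ext h))] at this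
    · have := sum_coeff hx
      rw [Finsupp.sum] at this
      rwa [← Finset.sum_coe_sort] at this
  obtain ⟨e', he', hee'⟩ := he.lift_of_isNilpotent_ker (Ideal.Quotient.mk J)
    (fun x hxk => hJ x (by rwa [Ideal.mk_ker] at hxk)) (fun i => ⟨_, Ideal.Quotient.mk_out _⟩)
  refine ⟨∑ i : x₀.coeff.support, MonoidAlgebra.single (i : M) (e' i), isGroupLikeElem_sum_single _ _ he', ?_⟩
  rw [map_sum]
  simp_rw [MonoidAlgebra.mapRingHom_single,
    show ∀ i, Ideal.Quotient.mk J (e' i) = e i from congrFun hee']
  exact (Finset.sum_coe_sort x₀.coeff.support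
    (fun m => MonoidAlgebra.single m (x₀.coeff m))).trans (MonoidAlgebra.sum_coeff_single x₀)

variable {J}

/-- Congruent group-like elements are equal. -/
theorem groupLike_ext (hJ : ∀ x ∈ J, IsNilpotent x) {x y : MonoidAlgebra T M}
    (hx : IsGroupLikeElem T x) (hy : IsGroupLikeElem T y)
    (h : MonoidAlgebra.mapRingHom M (Ideal.Quotient.mk J) x =
      MonoidAlgebra.mapRingHom M (Ideal.Quotient.mk J) y) : x = y := by
  refine eq_of_isNilpotent_sub hx hy fun m => hJ _ (Ideal.Quotient.eq.1 ?_)
  have := congrArg (fun z : MonoidAlgebra (T ⧸ J) M => z.coeff m) h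
  simpa using this

/-- A homomorphism of group algebras bijective modulo a nil ideal is bijective. -/
theorem bijective_of_bijective_mod_nil (hJ : ∀ x ∈ J, IsNilpotent x)
    (f : MonoidAlgebra T M →ₐc[T] MonoidAlgebra T N)
    (f₀ : MonoidAlgebra (T ⧸ J) M ≃ₐc[T ⧸ J] MonoidAlgebra (T ⧸ J) N)
    (hf : ∀ z, MonoidAlgebra.mapRingHom N (Ideal.Quotient.mk J) (f z) =
      f₀ (MonoidAlgebra.mapRingHom M (Ideal.Quotient.mk J) z)) :
    Function.Bijective f := by
  choose y hy hym using fun n : N => exists_groupLike_lift J hJ
    ((MonoidAlgebra.isGroupLikeElem_single_one (A := T ⧸ J) n).map f₀.symm)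
  let θ : N →* GroupLike T (MonoidAlgebra T M) :=
    { toFun := fun n => ⟨y n, hy n⟩
      map_one' := GroupLike.ext (groupLike_ext hJ (hy 1) IsGroupLikeElem.one (by
        simp [hym, ← MonoidAlgebra.one_def]))
      map_mul' := fun a b => GroupLike.ext (groupLike_ext hJ (hy _) ((hy a).mul (hy b)) (by
        change _ = MonoidAlgebra.mapRingHom M (Ideal.Quotient.mk J) (y a * y b)
        rw [hym, map_mul (MonoidAlgebra.mapRingHom M _), hym, hym, ← map_mul,
          MonoidAlgebra.single_mul_single, mul_one])) }
  let g : MonoidAlgebra T N →ₐc[T] MonoidAlgebra T M :=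
    (MonoidAlgebra.liftGroupLikeBialgHom).comp (MonoidAlgebra.mapDomainBialgHom T θ)
  have hg : ∀ n r, g (MonoidAlgebra.single n r) = r • y n := fun n r => by simp [g, θ]
  have hg0 : ∀ z, MonoidAlgebra.mapRingHom M (Ideal.Quotient.mk J) (g z) =
      f₀.symm (MonoidAlgebra.mapRingHom N (Ideal.Quotient.mk J) z) := by
    intro z
    induction z using MonoidAlgebra.induction_linear with
    | zero => simp
    | add p q hp hq => simp only [map_add, hp, hq]
    | single n r =>
      rw [hg, MonoidAlgebra.mapRingHom_single, Algebra.smul_def, map_mul, hym,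
        show MonoidAlgebra.single n (Ideal.Quotient.mk J r) =
          Ideal.Quotient.mk J r • MonoidAlgebra.single n (1 : T ⧸ J) by simp,
        map_smul, Algebra.smul_def]
      congr 1
      simp [MonoidAlgebra.coe_algebraMap]
  refine Function.bijective_iff_has_inverse.2 ⟨g, fun z => ?_, fun z => ?_⟩
  · induction z using MonoidAlgebra.induction_linear with
    | zero => simp
    | add p q hp hq => simp only [map_add, hp, hq]
    | single m r =>
      suffices g (f (MonoidAlgebra.single m 1)) = MonoidAlgebra.single m 1 by
        rw [show MonoidAlgebra.single m r = r • MonoidAlgebra.single m (1 : T) by simp, map_smul,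
          map_smul, this]
      refine groupLike_ext hJ (((MonoidAlgebra.isGroupLikeElem_single_one m).map f).map g)
        (MonoidAlgebra.isGroupLikeElem_single_one m) ?_
      rw [hg0, hf]
      simp
  · induction z using MonoidAlgebra.induction_linear with
    | zero => simp
    | add p q hp hq => simp only [map_add, hp, hq]
    | single n r =>
      suffices f (g (MonoidAlgebra.single n 1)) = MonoidAlgebra.single n 1 by
        rw [show MonoidAlgebra.single n r = r • MonoidAlgebra.single n (1 : T) by simp, map_smul,
          map_smul, this]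
      refine groupLike_ext hJ (((MonoidAlgebra.isGroupLikeElem_single_one n).map g).map f)
        (MonoidAlgebra.isGroupLikeElem_single_one n) ?_
      rw [hf, hg0]
      simp

end Groth.L25.Char
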