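import Groth.Agent.L25.Char.SmoothLift

/-!
# Lifting homomorphisms between groups of multiplicative type compatibly with a homomorphism to a smooth group
-/

set_option autoImplicit false

universe u

open TensorProduct WithConv

noncomputable section

namespace Groth.L25.Char

open Groth.L25.MultType

variable {R : Type u} [CommRing R] {C : Type u} [CommRing C] [HopfAlgebra R C]
  {A : Type u} [CommRing A] [HopfAlgebra R A]

theorem lin_injective {T : Type u} [CommRing T] [Algebra R T] {f g : C →ₐ[R] T} (h : lin f = lin g) : f = g :=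
  AlgHom.ext fun c => LinearMap.congr_fun (congrArg WithConv.ofConv h) c

theorem inv_right {T : Type u} [CommRing T] [Algebra R T] (f : C →ₐ[R] T) :
    lin f * lin (f.comp (HopfAlgebra.antipodeAlgHom R C)) = 1 := by
  have h := push_mul_inv (AlgHom.id R T) f
  exact h

theorem inv_left {T : Type u} [CommRing T] [Algebra R T] (f : C →ₐ[R] T) :
    lin (f.comp (HopfAlgebra.antipodeAlgHom R C)) * lin f = 1 := by
  have h := push_inv_mul (AlgHom.id R T) f
  exact h

/-- the comultiplication of the last variable -/
def dLast (T : Type u) [CommRing T] [Algebra R T] : T ⊗[R] A →ₐ[R] (T ⊗[R] A) ⊗[R] A :=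
  (Algebra.TensorProduct.assoc R R R T A A).symm.toAlgHom.comp
    (Algebra.TensorProduct.map (AlgHom.id R T) (Bialgebra.comulAlgHom R A))

/-- the second variable -/
def sndLast (T : Type u) [CommRing T] [Algebra R T] : T ⊗[R] A →ₐ[R] (T ⊗[R] A) ⊗[R] A :=
  Algebra.TensorProduct.map Algebra.TensorProduct.includeLeft (AlgHom.id R A)

theorem sndLast_tmul {T : Type u} [CommRing T] [Algebra R T] (t : T) (a : A) :
    sndLast T (t ⊗ₜ[R] a) = (t ⊗ₜ 1) ⊗ₜ a := by simp [sndLast]

theorem intC_dLast (l : A →ₗ[R] R) (hl : IsInt l) {T : Type u} [CommRing T] [Algebra R T]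
    (z : WithConv (C →ₗ[R] T ⊗[R] A)) :
    intC l (push (dLast T) z) =
      push (Algebra.TensorProduct.includeLeft : T →ₐ[R] T ⊗[R] A) (intC l (T := T) z) := by
  refine WithConv.ext (LinearMap.ext fun c => ?_)
  change intL l (T ⊗[R] A) (dLast T (z.ofConv c)) =
    (Algebra.TensorProduct.includeLeft : T →ₐ[R] T ⊗[R] A) (intL l T (z.ofConv c))
  generalize z.ofConv c = t
  induction t using TensorProduct.induction_on with
  | zero => simp
  | add p q hp hq => simp only [map_add, hp, hq]
  | tmul s a =>
    have h1 : ∀ v : A ⊗[R] A, intL l (T ⊗[R] A)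
        ((Algebra.TensorProduct.assoc R R R T A A).symm (s ⊗ₜ v)) =
          s ⊗ₜ TensorProduct.lid R A (intMap l v) := by
      intro v
      induction v using TensorProduct.induction_on with
      | zero => simp
      | add p q hp hq => simp only [TensorProduct.tmul_add, map_add, hp, hq]
      | tmul p q => simp [intL_tmul, intMap_tmul, TensorProduct.tmul_smul]
    simp only [dLast, AlgHom.comp_apply, Algebra.TensorProduct.map_tmul, AlgHom.id_apply,
      AlgEquiv.coe_toAlgHom, Bialgebra.comulAlgHom_apply]
    rw [h1, hl.2, TensorProduct.lid_tmul, intL_tmul]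
    simp [TensorProduct.tmul_smul, TensorProduct.smul_tmul']

theorem intC_sndLast (l : A →ₗ[R] R) {T : Type u} [CommRing T] [Algebra R T]
    (z : WithConv (C →ₗ[R] T ⊗[R] A)) :
    intC l (push (sndLast T) z) =
      push (Algebra.TensorProduct.includeLeft : T →ₐ[R] T ⊗[R] A) (intC l (T := T) z) := by
  refine WithConv.ext (LinearMap.ext fun c => ?_)
  change intL l (T ⊗[R] A) (sndLast T (z.ofConv c)) =
    (Algebra.TensorProduct.includeLeft : T →ₐ[R] T ⊗[R] A) (intL l T (z.ofConv c))
  generalize z.ofConv c = t
  induction t using TensorProduct.induction_on with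
  | zero => simp
  | add p q hp hq => simp only [map_add, hp, hq]
  | tmul s a => simp [sndLast_tmul, intL_tmul, TensorProduct.smul_tmul']

theorem intC_left (l : A →ₗ[R] R) (hl : l 1 = 1) {T : Type u} [CommRing T] [Algebra R T]
    (z : WithConv (C →ₗ[R] T)) :
    intC l (push (Algebra.TensorProduct.includeLeft : T →ₐ[R] T ⊗[R] A) z) = z := by
  refine WithConv.ext (LinearMap.ext fun c => ?_)
  change intL l T ((z.ofConv c) ⊗ₜ (1 : A)) = z.ofConv c
  rw [intL_tmul, hl, one_smul]

/-- Two homomorphisms congruent modulo an ideal of square zero are conjugate. -/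
theorem exists_conj_sq (l : A →ₗ[R] R) (hl : IsInt l) {T : Type u} [CommRing T] [Algebra R T] {J : Ideal R}
    (hJ : (J * J).map (algebraMap R T) = ⊥) (φ ψ : C →ₐ[R] T ⊗[R] A)
    (hφ : push (dLast T) (lin φ) = push Algebra.TensorProduct.includeLeft (lin φ) * push (sndLast T) (lin φ))
    (hψ : push (dLast T) (lin ψ) = push Algebra.TensorProduct.includeLeft (lin ψ) * push (sndLast T) (lin ψ))
    (h : InI J (lin ψ - lin φ)) :
    ∃ x : C →ₐ[R] T, InI J (lin x - 1) ∧
      lin ψ = push Algebra.TensorProduct.includeLeft (lin x) * lin φ *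
        push Algebra.TensorProduct.includeLeft (lin (x.comp (HopfAlgebra.antipodeAlgHom R C))) := by
  have hsq : ∀ {T' : Type u} [CommRing T'] [Algebra R T'] (g : T →ₐ[R] T') (a b : T'),
      a ∈ J.map (algebraMap R T') → b ∈ J.map (algebraMap R T') → a * b = 0 := by
    intro T' _ _ g a b ha hb
    have h1 := Ideal.mul_mem_mul ha hb
    rwa [← Ideal.map_mul, ← g.comp_algebraMap, ← Ideal.map_map, hJ, Ideal.map_bot, Ideal.mem_bot] at h1
  have hsqI : ∀ {T' : Type u} [CommRing T'] [Algebra R T'] (_ : T →ₐ[R] T') (a b : WithConv (C →ₗ[R] T')),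
      InI J a → InI J b → a * b = 0 := by
    intro T' _ _ g a b ha hb
    refine WithConv.ext (LinearMap.ext fun c => ?_)
    simp only [LinearMap.convMul_def, LinearMap.comp_apply, WithConv.ofConv_toConv]
    induction Coalgebra.comul (R := R) c using TensorProduct.induction_on with
    | zero => simp
    | add p q hp hq => rw [map_add, map_add, hp, hq]; simp
    | tmul p q =>
      rw [TensorProduct.map_tmul, LinearMap.mul'_apply]
      exact hsq g _ _ (ha p) (hb q)
  let d := dLast (A := A) (R := R) T
  let p1 : T ⊗[R] A →ₐ[R] (T ⊗[R] A) ⊗[R] A := Algebra.TensorProduct.includeLeft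
  let p2 := sndLast (A := A) (R := R) T
  let j : T →ₐ[R] T ⊗[R] A := Algebra.TensorProduct.includeLeft
  let F := lin φ
  let F' := lin (φ.comp (HopfAlgebra.antipodeAlgHom R C))
  let z := (lin ψ - F) * F'
  have hz : InI J z := h.mul_right _
  have hFF : F' * F = 1 := inv_left φ
  have hFF' : F * F' = 1 := inv_right φ
  have hψz : lin ψ = F + z * F := by
    change lin ψ = F + (lin ψ - F) * F' * F
    rw [mul_assoc, hFF, _root_.mul_one, add_sub_cancel]
  let P1 := push p1 F
  let P1' := push p1 F'
  let P2 := push p2 F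
  have hP1 : P1' * P1 = 1 := by rw [← push_mul, hFF, push_one]
  have hP : (P1 * P2) * (push p2 F' * P1') = 1 := by
    rw [mul_assoc, ← mul_assoc P2, ← push_mul, hFF', push_one, _root_.one_mul, ← push_mul, hFF', push_one]
  have hcoc : push d z = push p1 z + P1 * push p2 z * P1' := by
    have h1 : push d z * (P1 * P2) = (push p1 z + P1 * push p2 z * P1') * (P1 * P2) := by
      have h2 := hψ
      rw [hψz] at h2
      simp only [push_add, push_mul] at h2
      change push d F + push d z * push d F = (P1 + push p1 z * P1) * (P2 + push p2 z * P2) at h2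
      rw [show push d F = P1 * P2 from hφ] at h2
      have h3 : push p1 z * P1 * (push p2 z * P2) = 0 := by
        rw [mul_assoc, ← mul_assoc P1, ← mul_assoc (push p1 z),
          hsqI (p1.comp j) _ _ hz.push (hz.push.mul_left P1), zero_mul]
      rw [add_mul P1, mul_add, mul_add, h3, add_zero, add_assoc] at h2
      have h4 := add_left_cancel h2
      rw [h4, add_mul, mul_assoc (P1 * push p2 z) P1', ← mul_assoc P1' P1, hP1, _root_.one_mul]
      simp only [mul_assoc]
      exact add_comm _ _
    have h5 := congrArg (· * (push p2 F' * P1')) h1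
    simpa only [mul_assoc _ (P1 * P2), hP, _root_.mul_one] using h5
  let w := intC l (T := T) z
  have hw : InI J w := fun c => intL_mem l (hz c)
  have hI1 : intC l (push d z) = push j w := intC_dLast l hl z
  have hI2 : intC l (push p1 z) = z := intC_left l hl.1 z
  have hI3 : intC l (P1 * push p2 z * P1') = F * push j w * F' :=
    (intC_conj l F F' (push p2 z)).trans (by rw [intC_sndLast])
  have hkey : z = push j w - F * push j w * F' := by
    have h1 := congrArg (intC l) hcoc
    rw [intC_add, hI1, hI2, hI3] at h1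
    exact eq_sub_of_add_eq h1.symm
  let Z : C →ₐ[R] T ⊗[R] A := (toConv ψ * toConv (φ.comp (HopfAlgebra.antipodeAlgHom R C))).ofConv
  have hZc : ∀ c, Z c = algebraMap R _ (Coalgebra.counit (R := R) c) + z.ofConv c := fun c => by
    have h1 : lin Z = 1 + z := by
      rw [show lin Z = lin ψ * F' from lin_mul _ _, hψz, add_mul, hFF', mul_assoc, hFF', _root_.mul_one]
    exact LinearMap.congr_fun (congrArg WithConv.ofConv h1) c
  have hzalg : ∀ c c', z.ofConv (c * c') = Coalgebra.counit (R := R) c • z.ofConv c' +
      Coalgebra.counit (R := R) c' • z.ofConv c := by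
    intro c c'
    have h1 := map_mul Z c c'
    rw [hZc, hZc, hZc, Bialgebra.counit_mul, map_mul] at h1
    simp only [Algebra.smul_def]
    linear_combination h1 + hsq j _ _ (hz c) (hz c')
  have hz1 : z.ofConv 1 = 0 := by
    have h1 := map_one Z
    rwa [hZc, Bialgebra.counit_one, map_one, add_eq_left] at h1
  let x : C →ₐ[R] T := AlgHom.ofLinearMap
    (((1 : WithConv (C →ₗ[R] T)) + w).ofConv)
    (by
      change algebraMap R T (Coalgebra.counit (R := R) (1 : C)) + intL l T (z.ofConv 1) = 1
      rw [hz1, map_zero, Bialgebra.counit_one, map_one, add_zero])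
    (fun c c' => by
      change algebraMap R T (Coalgebra.counit (R := R) (c * c')) + intL l T (z.ofConv (c * c')) =
        (algebraMap R T (Coalgebra.counit (R := R) c) + w.ofConv c) *
          (algebraMap R T (Coalgebra.counit (R := R) c') + w.ofConv c')
      rw [hzalg, map_add, map_smul, map_smul, Bialgebra.counit_mul, map_mul, Algebra.smul_def,
        Algebra.smul_def, show intL l T (z.ofConv c) = w.ofConv c from rfl,
        show intL l T (z.ofConv c') = w.ofConv c' from rfl]
      linear_combination -(hsq (AlgHom.id R T) _ _ (hw c) (hw c')))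
  have hx : lin x = 1 + w := rfl
  refine ⟨x, by rw [hx, add_sub_cancel_left]; exact hw, ?_⟩
  have hxi : lin (x.comp (HopfAlgebra.antipodeAlgHom R C)) = 1 - w := by
    refine left_inv_eq_right_inv (inv_left x) ?_
    rw [hx, mul_sub, _root_.mul_one, add_mul, _root_.one_mul,
      hsqI (AlgHom.id R T) w w hw hw, add_zero, add_sub_cancel_right]
  have hj : push j (1 - w) = 1 - push j w := WithConv.ext (LinearMap.ext fun c => by
    change j (_ - _) = _ - _
    rw [map_sub]
    congr 1
    all_goals exact j.commutes _)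
  rw [hxi, hx, push_add, push_one, hj, hψz, hkey]
  have h1 : push j w * F * push j w = 0 := by
    rw [mul_assoc]
    exact hsqI j _ _ hw.push (hw.push.mul_left F)
  calc F + (push j w - F * push j w * F') * F
      = F + push j w * F - F * push j w := by
        rw [sub_mul, mul_assoc (F * push j w), hFF, _root_.mul_one, add_sub_assoc]
    _ = (1 + push j w) * F * (1 - push j w) := by
        rw [add_mul, _root_.one_mul, mul_sub, _root_.mul_one, add_mul, h1, add_zero]

/-- the comultiplication law of a homomorphism -/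
theorem push_comul (γ : C →ₐc[R] A) :
    push (Bialgebra.comulAlgHom R A) (lin (γ : C →ₐ[R] A)) =
      push Algebra.TensorProduct.includeLeft (lin (γ : C →ₐ[R] A)) *
        push Algebra.TensorProduct.includeRight (lin (γ : C →ₐ[R] A)) := by
  refine WithConv.ext (LinearMap.ext fun c => ?_)
  have h := CoalgHomClass.map_comp_comul_apply γ c
  change Coalgebra.comul (R := R) (γ c) = _
  rw [← h]
  simp only [LinearMap.convMul_def, LinearMap.comp_apply, WithConv.ofConv_toConv, push, lin]
  induction Coalgebra.comul (R := R) c using TensorProduct.induction_on with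
  | zero => simp
  | add p q hp hq => simp only [map_add, hp, hq]
  | tmul p q => simp

/-- conjugate of a homomorphism by a point -/
theorem exists_conj (γ : C →ₐc[R] A) (x : C →ₐ[R] R) :
    ∃ γ' : C →ₐc[R] A, lin (γ' : C →ₐ[R] A) = push (Algebra.ofId R A) (lin x) * lin (γ : C →ₐ[R] A) *
      push (Algebra.ofId R A) (lin (x.comp (HopfAlgebra.antipodeAlgHom R C))) := by
  let e := Algebra.ofId R A
  let f : C →ₐ[R] A := ((toConv (e.comp x) * toConv (γ : C →ₐ[R] A)) *
    toConv (e.comp (x.comp (HopfAlgebra.antipodeAlgHom R C)))).ofConv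
  have hf : lin f = push e (lin x) * lin (γ : C →ₐ[R] A) *
      push e (lin (x.comp (HopfAlgebra.antipodeAlgHom R C))) := by
    rw [show lin f = lin ((toConv (e.comp x) * toConv (γ : C →ₐ[R] A)).ofConv) *
      lin (e.comp (x.comp (HopfAlgebra.antipodeAlgHom R C))) from lin_mul _ _,
      show lin ((toConv (e.comp x) * toConv (γ : C →ₐ[R] A)).ofConv) =
        lin (e.comp x) * lin (γ : C →ₐ[R] A) from lin_mul _ _]
    rfl
  have hR : ∀ {T : Type u} [CommRing T] [Algebra R T] (g g' : R →ₐ[R] T) (y : WithConv (C →ₗ[R] R)),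
      push g y = push g' y := fun g g' y => by rw [Subsingleton.elim g g']
  let a := push (Algebra.ofId R (A ⊗[R] A)) (lin x)
  let b := push (Algebra.ofId R (A ⊗[R] A)) (lin (x.comp (HopfAlgebra.antipodeAlgHom R C)))
  have hlaw : push (Bialgebra.comulAlgHom R A) (lin f) =
      push Algebra.TensorProduct.includeLeft (lin f) * push Algebra.TensorProduct.includeRight (lin f) := by
    have hg : ∀ (g : A →ₐ[R] A ⊗[R] A), push g (lin f) = a * push g (lin (γ : C →ₐ[R] A)) * b := fun g => by
      rw [hf, push_mul, push_mul, push_push, push_push, hR (g.comp e) (Algebra.ofId R _),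
        hR (g.comp e) (Algebra.ofId R _)]
    rw [hg, hg, hg, push_comul]
    have hba : b * a = 1 := by rw [← push_mul, inv_left, push_one]
    simp only [mul_assoc]
    rw [← mul_assoc b a, hba, _root_.one_mul]
  have hcounit : push (Bialgebra.counitAlgHom R A) (lin f) = 1 := by
    have h1 : push (Bialgebra.counitAlgHom R A) (lin (γ : C →ₐ[R] A)) = 1 :=
      WithConv.ext (LinearMap.ext fun c => CoalgHomClass.counit_comp_apply γ c)
    rw [hf, push_mul, push_mul, h1, _root_.mul_one, push_push, push_push,
      hR ((Bialgebra.counitAlgHom R A).comp e) (AlgHom.id R R), hR ((Bialgebra.counitAlgHom R A).comp e)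
        (AlgHom.id R R)]
    exact inv_right x
  refine ⟨BialgHom.ofAlgHom f ?_ ?_, hf⟩
  · exact AlgHom.ext fun c => LinearMap.congr_fun (congrArg WithConv.ofConv hcounit) c
  · refine AlgHom.ext fun c => ?_
    change TensorProduct.map f.toLinearMap f.toLinearMap (Coalgebra.comul (R := R) c) =
      (push (Bialgebra.comulAlgHom R A) (lin f)).ofConv c
    rw [hlaw]
    simp only [LinearMap.convMul_def, LinearMap.comp_apply, WithConv.ofConv_toConv, push, lin]
    induction Coalgebra.comul (R := R) c using TensorProduct.induction_on with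
    | zero => simp
    | add p q hp hq => simp only [map_add, hp, hq]
    | tmul p q => simp

/-- congruence modulo an ideal, read in the reduced tensor product -/
theorem tmul_eq_iff (I : Ideal R) {T : Type u} [CommRing T] [Algebra R T] (s t : T) :
    (1 : R ⧸ I) ⊗ₜ[R] s = (1 : R ⧸ I) ⊗ₜ t ↔ s - t ∈ I.map (algebraMap R T) := by
  have hQ : Algebra.TensorProduct.quotIdealMapEquivQuotTensor T I (Ideal.Quotient.mk _ (s - t)) =
      (1 : R ⧸ I) ⊗ₜ (s - t) := by simp [TensorProduct.tmul_sub]
  rw [← sub_eq_zero, show (1 : R ⧸ I) ⊗ₜ[R] s - (1 : R ⧸ I) ⊗ₜ t = (1 : R ⧸ I) ⊗ₜ (s - t) from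
    (TensorProduct.tmul_sub _ _ _).symm, ← hQ, map_eq_zero_iff _ (AlgEquiv.injective _),
    Ideal.Quotient.eq_zero_iff_mem]

/-- a homomorphism into a smooth group lifts compatibly with a homomorphism of groups of multiplicative type -/
theorem exists_rel_lift {A₁ A₂ : Type u} [CommRing A₁] [HopfAlgebra R A₁] [CommRing A₂] [HopfAlgebra R A₂]
    [Algebra.FormallySmooth R C] (hA : ∃ l : A₁ →ₗ[R] R, IsInt l) (α : A₂ →ₐc[R] A₁) (β : C →ₐc[R] A₁)
    {I : Ideal R} (hI : IsNilpotent I) (γ : C →ₐc[R] A₂)
    (h : ∀ c, β c - α (γ c) ∈ I.map (algebraMap R A₁)) :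
    ∃ γ' : C →ₐc[R] A₂, (∀ c, γ' c - γ c ∈ I.map (algebraMap R A₂)) ∧ ∀ c, α (γ' c) = β c := by
  obtain ⟨l, hl⟩ := hA
  obtain ⟨N, hN⟩ := hI
  have key : ∀ k : ℕ, ∃ γ' : C →ₐc[R] A₂, (∀ c, γ' c - γ c ∈ I.map (algebraMap R A₂)) ∧
      ∀ c, β c - α (γ' c) ∈ (I ^ (k + 1)).map (algebraMap R A₁) := by
    intro k
    induction k with
    | zero => exact ⟨γ, fun c => by rw [sub_self]; exact zero_mem _, fun c => by rw [pow_one]; exact h c⟩
    | succ k ih =>
      obtain ⟨γk, hγk, hk⟩ := ih
      let J := I ^ (k + 1)
      let K := I ^ (k + 2)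
      let T := R ⧸ K
      let π : A₁ →ₐ[R] T ⊗[R] A₁ := Algebra.TensorProduct.includeRight
      let φ₁ : C →ₐ[R] A₁ := (α : A₂ →ₐ[R] A₁).comp (γk : C →ₐ[R] A₂)
      have hJ : (J * J).map (algebraMap R T) = ⊥ := by
        rw [eq_bot_iff, Ideal.map_le_iff_le_comap]
        refine le_trans ((pow_add I _ _).symm.le.trans (Ideal.pow_le_pow_right (show k + 2 ≤ k + 1 + (k + 1) by omega))) fun r hr => ?_
        rw [Ideal.mem_comap, Ideal.mem_bot]
        exact Ideal.Quotient.eq_zero_iff_mem.2 hr
      have hlaw : ∀ g : C →ₐc[R] A₁, push (dLast T) (lin (π.comp (g : C →ₐ[R] A₁))) =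
          push Algebra.TensorProduct.includeLeft (lin (π.comp (g : C →ₐ[R] A₁))) *
            push (sndLast T) (lin (π.comp (g : C →ₐ[R] A₁))) := by
        intro g
        let j : A₁ ⊗[R] A₁ →ₐ[R] (T ⊗[R] A₁) ⊗[R] A₁ := Algebra.TensorProduct.map π (AlgHom.id R A₁)
        have hj : ∀ y, j y = Algebra.TensorProduct.map π (AlgHom.id R A₁) y := fun y => rfl
        have e1 : (dLast T).comp π = j.comp (Bialgebra.comulAlgHom R A₁) := AlgHom.ext fun a => by
          simp only [dLast, π, AlgHom.comp_apply, Algebra.TensorProduct.includeRight_apply,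
            Algebra.TensorProduct.map_tmul, AlgHom.id_apply, AlgEquiv.coe_toAlgHom]
          generalize Bialgebra.comulAlgHom R A₁ a = v
          induction v using TensorProduct.induction_on with
          | zero => simp
          | add p q hp hq => simp only [TensorProduct.tmul_add, map_add, hp, hq]
          | tmul p q => simp [j, π]
        have e2 : (Algebra.TensorProduct.includeLeft : T ⊗[R] A₁ →ₐ[R] _).comp π =
            j.comp Algebra.TensorProduct.includeLeft := AlgHom.ext fun a => by simp [j, π]
        have e3 : (sndLast T).comp π = j.comp Algebra.TensorProduct.includeRight := AlgHom.ext fun a => by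
          simp [j, π, sndLast, Algebra.TensorProduct.one_def]
        rw [lin_comp, push_push, push_push, push_push, e1, e2, e3]
        have h1 := congrArg (fun y => push (C := C) (T := A₁ ⊗[R] A₁) (T' := (T ⊗[R] A₁) ⊗[R] A₁) j y) (push_comul g)
        rw [push_mul] at h1
        exact h1
      obtain ⟨x, hx, hxe⟩ := exists_conj_sq l hl hJ (π.comp φ₁) (π.comp (β : C →ₐ[R] A₁))
        (hlaw (α.comp γk)) (hlaw β) (fun c => by
          change π (β c) - π (α (γk c)) ∈ _
          rw [← map_sub]
          have h1 := Ideal.mem_map_of_mem (π : A₁ →+* T ⊗[R] A₁) (hk c)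
          rwa [Ideal.map_map (algebraMap R A₁) (π : A₁ →+* T ⊗[R] A₁),
            show (π : A₁ →+* T ⊗[R] A₁).comp (algebraMap R A₁) = algebraMap R _ from π.comp_algebraMap] at h1)
      obtain ⟨y, hy⟩ := Algebra.FormallySmooth.exists_lift (A := C) K
        ⟨N, by
          rw [Ideal.zero_eq_bot, eq_bot_iff, ← pow_mul]
          exact (Ideal.pow_le_pow_right (Nat.le_mul_of_pos_left N (by omega))).trans hN.le⟩ x
      have hyI : ∀ c, y c - algebraMap R R (Coalgebra.counit (R := R) c) ∈ I := fun c => by
        have h1 : Ideal.Quotient.mk K (y c - Coalgebra.counit (R := R) c) = (lin x - 1).ofConv c := by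
          rw [map_sub]
          exact congrArg₂ (· - ·) (DFunLike.congr_fun hy c) rfl
        have h2 := hx c
        rw [← h1, show algebraMap R T = Ideal.Quotient.mk K from rfl,
          Ideal.mem_map_iff_of_surjective _ Ideal.Quotient.mk_surjective] at h2
        obtain ⟨r, hr, hre⟩ := h2
        rw [Ideal.Quotient.eq] at hre
        have h3 := sub_mem (Ideal.pow_le_self k.succ_ne_zero hr)
          (Ideal.pow_le_self (k + 1).succ_ne_zero hre)
        simpa using h3
      obtain ⟨γ', hγ'⟩ := exists_conj γk y
      refine ⟨γ', fun c => ?_, fun c => ?_⟩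
      · let q : A₂ →ₐ[R] A₂ ⧸ I.map (algebraMap R A₂) := Ideal.Quotient.mkₐ R _
        have hq1 : push q (push (Algebra.ofId R A₂) (lin y)) = 1 := by
          refine WithConv.ext (LinearMap.ext fun d => ?_)
          change q (algebraMap R A₂ (y d)) = algebraMap R _ (Coalgebra.counit (R := R) d)
          rw [← q.commutes (Coalgebra.counit (R := R) d)]
          refine Ideal.Quotient.eq.2 ?_
          rw [← map_sub]
          exact Ideal.mem_map_of_mem _ (hyI d)
        have hq2 : push q (push (Algebra.ofId R A₂) (lin (y.comp (HopfAlgebra.antipodeAlgHom R C)))) = 1 := by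
          have h2 := congrArg (fun m => push q (push (Algebra.ofId R A₂) m)) (inv_right y)
          simp only [push_mul, push_one, hq1, _root_.one_mul] at h2
          exact h2
        have h3 : q (γ' c) = q (γk c) := by
          have h4 : push q (lin (γ' : C →ₐ[R] A₂)) = push q (lin (γk : C →ₐ[R] A₂)) := by
            rw [hγ', push_mul, push_mul, hq1, hq2, _root_.one_mul, _root_.mul_one]
          exact LinearMap.congr_fun (congrArg WithConv.ofConv h4) c
        rw [show γ' c - γ c = (γ' c - γk c) + (γk c - γ c) by abel]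
        exact add_mem (Ideal.Quotient.eq.1 h3) (hγk c)
      · rw [← tmul_eq_iff]
        have h4 : push (π.comp (α : A₂ →ₐ[R] A₁)) (lin (γ' : C →ₐ[R] A₂)) =
            lin (π.comp (β : C →ₐ[R] A₁)) := by
          rw [hxe, hγ', push_mul, push_mul]
          have h5 : ∀ (f : C →ₐ[R] R) (f' : C →ₐ[R] T), (Ideal.Quotient.mkₐ R K).comp f = f' →
              push (π.comp (α : A₂ →ₐ[R] A₁)) (push (Algebra.ofId R A₂) (lin f)) =
                push Algebra.TensorProduct.includeLeft (lin f') := by
            intro f f' hf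
            rw [← hf, lin_comp, push_push, push_push, Subsingleton.elim
              ((π.comp (α : A₂ →ₐ[R] A₁)).comp (Algebra.ofId R A₂))
              (Algebra.TensorProduct.includeLeft.comp (Ideal.Quotient.mkₐ R K))]
          rw [h5 y x hy, h5 (y.comp (HopfAlgebra.antipodeAlgHom R C)) (x.comp (HopfAlgebra.antipodeAlgHom R C))
            (by rw [← AlgHom.comp_assoc, hy])]
          rfl
        exact (LinearMap.congr_fun (congrArg WithConv.ofConv h4) c).symm
  obtain ⟨γ', h1, h2⟩ := key N
  refine ⟨γ', h1, fun c => ?_⟩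
  have h3 := h2 c
  rw [show I ^ (N + 1) = ⊥ by rw [pow_succ, hN, Ideal.zero_eq_bot, Ideal.bot_mul], Ideal.map_bot,
    Ideal.mem_bot, sub_eq_zero] at h3
  exact h3.symm

end Groth.L25.Char
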