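import Groth.Agent.L25.Char.Henselian
import Groth.Agent.L25.Char.LocalSplit
import Groth.Agent.L25.MultType.KillTrivial

/-!
# The finite part of the torsion of a group with closed fibre of multiplicative type

Over a Noetherian henselian local ring, an affine group of finite type which is flat along the closed
fibre, with closed fibre of multiplicative type, has finite subgroups of multiplicative type with the
closed fibres of the torsion subgroups.
-/

set_option autoImplicit false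

universe u

open TensorProduct

namespace Groth.L25.Char.TorsionPiece

open Groth.L25.MultType

/-- A bialgebra map factors through a surjection. -/
theorem exists_factor {R C F X : Type u} [CommRing R] [CommRing C] [Bialgebra R C] [CommRing F]
    [Bialgebra R F] [CommRing X] [Bialgebra R X] (p : C →ₐc[R] F) (hp : Function.Surjective p)
    (f : C →ₐc[R] X) (h : ∀ c, p c = 0 → f c = 0) : ∃ g : F →ₐc[R] X, ∀ c, g (p c) = f c := by
  let p' : C →ₐ[R] F := (p : C →ₐ[R] F)
  let f' : C →ₐ[R] X := (f : C →ₐ[R] X)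
  let l : (C ⧸ RingHom.ker p') →ₐ[R] X :=
    Ideal.Quotient.liftₐ (RingHom.ker p') f' (fun c hc => h c hc)
  let ε : (C ⧸ RingHom.ker p') ≃ₐ[R] F := Ideal.quotientKerAlgEquivOfSurjective (f := p') hp
  let g : F →ₐ[R] X := l.comp ε.symm.toAlgHom
  have hg : ∀ c, g (p c) = f c := fun c => by
    change l (ε.symm (p c)) = _
    rw [show ε.symm (p c) = Ideal.Quotient.mk _ c from (AlgEquiv.symm_apply_eq _).2 rfl]
    rfl
  refine ⟨BialgHom.ofAlgHom g (AlgHom.ext fun y => ?_) (AlgHom.ext fun y => ?_), hg⟩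
  · obtain ⟨c, rfl⟩ := hp y
    change Coalgebra.counit (R := R) (g (p c)) = Coalgebra.counit (R := R) (p c)
    rw [hg, CoalgHomClass.counit_comp_apply, CoalgHomClass.counit_comp_apply]
  · obtain ⟨c, rfl⟩ := hp y
    change TensorProduct.map g.toLinearMap g.toLinearMap (Coalgebra.comul (R := R) (p c)) =
      Coalgebra.comul (R := R) (g (p c))
    rw [hg, ← CoalgHomClass.map_comp_comul_apply p c, ← CoalgHomClass.map_comp_comul_apply f c]
    induction Coalgebra.comul (R := R) c using TensorProduct.induction_on with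
    | zero => simp
    | add a b ha hb => simp only [map_add, ha, hb]
    | tmul a b =>
      simp only [TensorProduct.map_tmul]
      change g (p a) ⊗ₜ[R] g (p b) = f a ⊗ₜ[R] f b
      rw [hg, hg]

/-- The counit vanishes on torsion. -/
theorem counit_torsion {R C : Type u} [CommRing R] [CommRing C] [HopfAlgebra R C] {n : ℕ} {x : C}
    (hx : x ∈ SGA3b.torsionIdeal R C n) : Coalgebra.counit (R := R) x = 0 := by
  have hle : SGA3b.torsionIdeal R C n ≤ RingHom.ker (Bialgebra.counitAlgHom R C) := by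
    refine torsionIdeal_le_iff.2 fun a => ?_
    rw [RingHom.mem_ker, map_sub, AlgHom.commutes, sub_eq_zero]
    have h1 := comp_powConv (WithConv.toConv (Bialgebra.counitAlgHom R C)) n a
    rw [show WithConv.toConv (Bialgebra.counitAlgHom R C) = 1 from ?_, one_pow] at h1
    · exact h1
    · exact congrArg WithConv.toConv (AlgHom.ext fun c => rfl)
  exact hle hx

/-- The torsion ideal of a base change. -/
theorem torsion_baseChange_le {R C : Type u} [CommRing R] [CommRing C] [HopfAlgebra R C] (Q : Type u)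
    [CommRing Q] [Algebra R Q] {n : ℕ} {X : Type u} [CommRing X] [Algebra Q X]
    (f : Q ⊗[R] C →ₐ[Q] X)
    (h : ∀ x ∈ SGA3b.torsionIdeal R C n, f ((1 : Q) ⊗ₜ x) = 0) :
    SGA3b.torsionIdeal Q (Q ⊗[R] C) n ≤ RingHom.ker f := by
  refine torsionIdeal_le_iff.2 fun a => ?_
  induction a using TensorProduct.induction_on with
  | zero => simp
  | add p q hp hq => rw [map_add, map_add, map_add, add_sub_add_comm]; exact add_mem hp hq
  | tmul q c =>
    rw [show q ⊗ₜ[R] c = q • ((1 : Q) ⊗ₜ[R] c) by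
      rw [TensorProduct.smul_tmul', smul_eq_mul, _root_.mul_one], map_smul, map_smul, RingHom.mem_ker,
      map_sub, map_smul, smul_eq_mul, map_mul (algebraMap Q (Q ⊗[R] C)), map_mul f, AlgHom.commutes,
      ← Algebra.smul_def, ← smul_sub, powConv_baseChange]
    have h1 := h _ (torsionIdeal_le_iff.1 le_rfl c)
    rw [TensorProduct.tmul_sub, map_sub] at h1
    rw [TensorProduct.counit_tmul, CommSemiring.counit_apply,
      show algebraMap Q (Q ⊗[R] C) (Coalgebra.counit (R := R) c • (1 : Q)) =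
        (1 : Q) ⊗ₜ[R] algebraMap R C (Coalgebra.counit c) by
        rw [Algebra.algebraMap_eq_smul_one (A := C), TensorProduct.tmul_smul,
          Algebra.TensorProduct.algebraMap_apply, TensorProduct.smul_tmul']
        rfl, h1, smul_zero]

/-- The image of a torsion element. -/
theorem one_tmul_mem_torsion {R C : Type u} [CommRing R] [CommRing C] [HopfAlgebra R C] (Q : Type u)
    [CommRing Q] [Algebra R Q] {n : ℕ} {x : C} (hx : x ∈ SGA3b.torsionIdeal R C n) :
    (1 : Q) ⊗ₜ[R] x ∈ SGA3b.torsionIdeal Q (Q ⊗[R] C) n := by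
  have hle : SGA3b.torsionIdeal R C n ≤
      (SGA3b.torsionIdeal Q (Q ⊗[R] C) n).comap
        (Algebra.TensorProduct.includeRight : C →ₐ[R] Q ⊗[R] C) := by
    refine torsionIdeal_le_iff.2 fun a => ?_
    rw [Ideal.mem_comap]
    have h1 := torsionIdeal_le_iff.1 (le_refl (SGA3b.torsionIdeal Q (Q ⊗[R] C) n)) ((1 : Q) ⊗ₜ a)
    rw [powConv_baseChange, TensorProduct.counit_tmul, CommSemiring.counit_apply,
      show algebraMap Q (Q ⊗[R] C) (Coalgebra.counit (R := R) a • (1 : Q)) =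
        (1 : Q) ⊗ₜ[R] algebraMap R C (Coalgebra.counit a) by
        rw [Algebra.algebraMap_eq_smul_one (A := C), TensorProduct.tmul_smul,
          Algebra.TensorProduct.algebraMap_apply, TensorProduct.smul_tmul']
        rfl] at h1
    rw [map_sub]
    exact h1
  exact hle hx

variable {A : Type u} [CommRing A] [IsLocalRing A] [IsNoetherianRing A]

local notation "𝔪" => IsLocalRing.maximalIdeal A

/-- Krull: an element of a finite module vanishing modulo every power of the maximal ideal is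
zero. -/
theorem eq_zero_of_levels {V : Type u} [AddCommGroup V] [Module A V] [Module.Finite A V] {v : V}
    (h : ∀ N : ℕ, (1 : A ⧸ 𝔪 ^ (N + 1)) ⊗ₜ[A] v = 0) : v = 0 := by
  have h2 : v ∈ (⨅ i : ℕ, 𝔪 ^ i • (⊤ : Submodule A V)) := by
    rw [Submodule.mem_iInf]
    intro i
    refine Submodule.smul_mono_left (Ideal.pow_le_pow_right i.le_succ) ?_
    have h1 := congrArg (TensorProduct.quotTensorEquivQuotSMul V (𝔪 ^ (i + 1))) (h i)
    rwa [map_zero, TensorProduct.quotTensorEquivQuotSMul_mk_one_tmul,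
      Submodule.Quotient.mk_eq_zero] at h1
  rw [Ideal.iInf_pow_smul_eq_bot_of_isLocalRing _ (IsLocalRing.maximalIdeal.isMaximal A).ne_top] at h2
  exact (Submodule.mem_bot A).1 h2

/-- A finite module with flat reductions modulo the powers of the maximal ideal is flat. -/
theorem flat_of_levels {V : Type u} [AddCommGroup V] [Module A V] [Module.Finite A V]
    (h : ∀ N : ℕ, Module.Flat (A ⧸ 𝔪 ^ (N + 1)) ((A ⧸ 𝔪 ^ (N + 1)) ⊗[A] V)) :
    Module.Flat A V := by
  let k := IsLocalRing.ResidueField A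
  let b := Module.finBasis k (k ⊗[A] V)
  have hmk : Function.Surjective (TensorProduct.mk A k V 1) := TensorProduct.mk_surjective A V k
    Ideal.Quotient.mk_surjective
  choose f hf using fun i => hmk (b i)
  let v := Fintype.linearCombination A f
  have hv : Function.Surjective v := by
    rw [← LinearMap.range_eq_top, Fintype.range_linearCombination]
    exact IsLocalRing.span_eq_top_of_tmul_eq_basis f b hf
  have hk : Function.Injective (v.baseChange k) := by
    have hsurj : Function.Surjective (v.baseChange k) := LinearMap.lTensor_surjective k hv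
    refine (LinearMap.injective_iff_surjective_of_finrank_eq_finrank ?_).2 hsurj
    rw [Module.finrank_baseChange, Module.finrank_pi, Fintype.card_fin]
  suffices hinj : Function.Injective v from
    Module.Flat.of_linearEquiv (LinearEquiv.ofBijective v ⟨hinj, hv⟩).symm
  rw [injective_iff_map_eq_zero]
  intro x hx
  refine eq_zero_of_levels (A := A) fun N => ?_
  let Q := A ⧸ 𝔪 ^ (N + 1)
  let vQ := v.baseChange Q
  have hvQ : Function.Surjective vQ := LinearMap.lTensor_surjective Q hv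
  haveI := h N
  haveI : Module.FinitePresentation Q (Q ⊗[A] V) :=
    Module.finitePresentation_of_finite Q _
  haveI : Module.Projective Q (Q ⊗[A] V) := Module.Flat.projective_of_finitePresentation
  obtain ⟨s, hs⟩ := Module.projective_lifting_property vQ LinearMap.id hvQ
  let p : Q ⊗[A] (Fin (Module.finrank k (k ⊗[A] V)) → A) →ₗ[Q]
      Q ⊗[A] (Fin (Module.finrank k (k ⊗[A] V)) → A) := LinearMap.id - s ∘ₗ vQ
  have hvp : ∀ y, vQ (p y) = 0 := fun y => by
    have := LinearMap.congr_fun hs (vQ y)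
    simp only [p, LinearMap.sub_apply, LinearMap.id_apply, map_sub, LinearMap.comp_apply] at this ⊢
    rw [this, sub_self]
  letI : Algebra Q k := (Ideal.Quotient.factor (Ideal.pow_le_self N.succ_ne_zero)).toAlgebra
  haveI : IsScalarTower A Q k := IsScalarTower.of_algebraMap_eq fun a => rfl
  let g : Q →ₐ[A] k := IsScalarTower.toAlgHom A Q k
  have hrange : ∀ y, p y ∈ (𝔪).map (algebraMap A Q) • (⊤ : Submodule Q _) := by
    intro y
    have h1 : g.toLinearMap.rTensor _ (p y) = 0 := by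
      apply hk
      rw [map_zero]
      have hnat : ∀ w, v.baseChange k (g.toLinearMap.rTensor _ w) =
          g.toLinearMap.rTensor V (vQ w) := fun w => by
        induction w using TensorProduct.induction_on with
        | zero => simp
        | add a b ha hb => simp only [map_add, ha, hb]
        | tmul a b => simp [vQ]
      rw [hnat, hvp, map_zero]
    have hex := rTensor_exact (Fin (Module.finrank k (k ⊗[A] V)) → A)
      (LinearMap.exact_subtype_ker_map g.toLinearMap)
      (Ideal.Quotient.factor_surjective (Ideal.pow_le_self N.succ_ne_zero))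
    obtain ⟨w, hw⟩ := (hex _).1 h1
    rw [← hw]
    clear hw h1
    induction w using TensorProduct.induction_on with
    | zero => simp
    | add a b ha hb => rw [map_add]; exact add_mem ha hb
    | tmul a b =>
      rw [LinearMap.rTensor_tmul,
        show (LinearMap.ker g.toLinearMap).subtype a ⊗ₜ[A] b = (a : Q) • ((1 : Q) ⊗ₜ[A] b) by
          rw [TensorProduct.smul_tmul', smul_eq_mul, _root_.mul_one]; rfl]
      refine Submodule.smul_mem_smul ?_ Submodule.mem_top
      obtain ⟨r, hr⟩ := Ideal.Quotient.mk_surjective (a : Q)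
      rw [← hr]
      refine Ideal.mem_map_of_mem _ (Ideal.Quotient.eq_zero_iff_mem.1 ?_)
      have h2 : g (a : Q) = 0 := a.2
      rw [← hr] at h2
      exact h2
  have hfix : p ((1 : Q) ⊗ₜ x) = (1 : Q) ⊗ₜ x := by
    simp [p, vQ, hx]
  have hall : ∀ j : ℕ, (1 : Q) ⊗ₜ[A] x ∈ (𝔪).map (algebraMap A Q) ^ j • (⊤ : Submodule Q _) := by
    intro j
    induction j with
    | zero =>
      rw [pow_zero, Ideal.one_eq_top, Submodule.top_smul]
      trivial
    | succ j ih =>
      rw [← hfix, pow_succ ((𝔪).map (algebraMap A Q)) j, Submodule.mul_smul]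
      refine Submodule.smul_induction_on ih (fun r hr z _ => ?_) (fun a b ha hb => ?_)
      · rw [map_smul]
        exact Submodule.smul_mem_smul hr (hrange z)
      · rw [map_add]; exact add_mem ha hb
  have h0 := hall (N + 1)
  rwa [← Ideal.map_pow, show (𝔪 ^ (N + 1)).map (algebraMap A Q) = ⊥ from Ideal.map_quotient_self _,
    Submodule.bot_smul, Submodule.mem_bot] at h0

variable [HenselianLocalRing A] {C : Type u} [CommRing C] [HopfAlgebra A C] [Algebra.FiniteType A C]

/-- The closed fibre of the torsion subgroup is finite. -/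
theorem finite_fibre
    (hs : SGA3b.IsMultType (A ⧸ 𝔪) ((A ⧸ 𝔪) ⊗[A] C)) {n : ℕ} (hn : 0 < n) :
    Module.Finite A ((C ⧸ SGA3b.torsionIdeal A C n) ⧸
      (𝔪).map (algebraMap A (C ⧸ SGA3b.torsionIdeal A C n))) := by
  let k := A ⧸ 𝔪
  haveI := finite_torsion hs hn
  haveI : Module.Finite A ((k ⊗[A] C) ⧸ SGA3b.torsionIdeal k (k ⊗[A] C) n) :=
    Module.Finite.trans k _
  let Cn := C ⧸ SGA3b.torsionIdeal A C n
  let W := Cn ⧸ (𝔪).map (algebraMap A Cn)
  let q : C →ₐ[A] W := (Ideal.Quotient.mkₐ A _).comp (Ideal.Quotient.mkₐ A _)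
  let σ : k →ₐ[A] W := Ideal.Quotient.liftₐ _ (Algebra.ofId A W) fun r hr => by
    change algebraMap A W r = 0
    rw [IsScalarTower.algebraMap_apply A Cn W, Ideal.Quotient.algebraMap_eq,
      Ideal.Quotient.eq_zero_iff_mem]
    exact Ideal.mem_map_of_mem _ hr
  letI : Algebra k W := σ.toRingHom.toAlgebra
  haveI : IsScalarTower A k W := IsScalarTower.of_algebraMap_eq fun a => (σ.commutes a).symm
  let f : k ⊗[A] C →ₐ[k] W :=
    Algebra.TensorProduct.lift (Algebra.ofId k W) q fun _ _ => Commute.all _ _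
  have hle := torsion_baseChange_le k f fun x hx => by
    simp only [f, Algebra.TensorProduct.lift_tmul, map_one, one_mul]
    change Ideal.Quotient.mk _ (Ideal.Quotient.mk (SGA3b.torsionIdeal A C n) x) = 0
    rw [Ideal.Quotient.eq_zero_iff_mem.2 hx, map_zero]
  let g := Ideal.Quotient.liftₐ (SGA3b.torsionIdeal k (k ⊗[A] C) n) f fun x hx => hle hx
  refine Module.Finite.of_surjective (g.restrictScalars A).toLinearMap fun w => ?_
  obtain ⟨z, rfl⟩ := Ideal.Quotient.mk_surjective w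
  obtain ⟨c, rfl⟩ := Ideal.Quotient.mk_surjective z
  refine ⟨Ideal.Quotient.mk _ ((1 : k) ⊗ₜ c), ?_⟩
  change f ((1 : k) ⊗ₜ c) = _
  simp [f, q]
  rfl

/-- The idempotent cutting out the finite part of the torsion. -/
theorem exists_idem
    (hs : SGA3b.IsMultType (A ⧸ 𝔪) ((A ⧸ 𝔪) ⊗[A] C)) {n : ℕ} (hn : 0 < n) :
    ∃ i : C, i * i - i ∈ SGA3b.torsionIdeal A C n ∧
      i ∈ SGA3b.torsionIdeal A C n ⊔ (𝔪).map (algebraMap A C) ∧
      Module.Finite A (C ⧸ (SGA3b.torsionIdeal A C n ⊔ Ideal.span {i})) := by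
  let T := SGA3b.torsionIdeal A C n
  let Cn := C ⧸ T
  let P := (𝔪).map (algebraMap A Cn)
  obtain ⟨e, he, hfin, hqf⟩ := Groth.L05.exists_idem_finiteType (A := A) (S := Cn)
  haveI : Module.Finite A (Cn ⧸ P) := finite_fibre hs hn
  letI : Field (A ⧸ 𝔪) := Ideal.Quotient.field _
  haveI : IsArtinianRing (Cn ⧸ P) := by
    haveI : Module.Finite (A ⧸ 𝔪) (Cn ⧸ P) := Module.Finite.of_restrictScalars_finite A _ _
    exact IsArtinianRing.of_finite (A ⧸ 𝔪) (Cn ⧸ P)
  have hnil : IsNilpotent (Ideal.Quotient.mk P (1 - e)) := by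
    rw [← mem_nilradical, nilradical_eq_sInf]
    refine Ideal.mem_sInf.2 fun {Q} (hQ : Q.IsPrime) => ?_
    let q := Q.comap (Ideal.Quotient.mk P)
    haveI : q.IsPrime := Ideal.comap_isPrime _ _
    have hqm : q.LiesOver 𝔪 := ⟨by
      refine (IsLocalRing.maximalIdeal.isMaximal A).eq_of_le (Ideal.IsPrime.ne_top inferInstance) ?_
      intro a ha
      change algebraMap A Cn a ∈ q
      rw [Ideal.mem_comap, Ideal.Quotient.eq_zero_iff_mem.2 (Ideal.mem_map_of_mem _ ha)]
      exact Q.zero_mem⟩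
    have hne : e ∉ q := fun h => hqf q h hqm
      (Groth.L05.quasiFiniteAt_of_isOpen_singleton_closedFibre ⟨Q, hQ⟩ (isOpen_discrete _))
    refine (Ideal.mem_comap (f := Ideal.Quotient.mk P)).1
      ((Ideal.IsPrime.mem_or_mem (I := q) inferInstance (x := e) (y := 1 - e) ?_).resolve_left hne)
    rw [mul_sub, mul_one, he.eq, sub_self]
    exact q.zero_mem
  have h0 : (1 - e) ∈ P := Ideal.Quotient.eq_zero_iff_mem.1
    ((he.one_sub.map (Ideal.Quotient.mk P)).eq_zero_of_isNilpotent hnil)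
  obtain ⟨i, hi⟩ := Ideal.Quotient.mk_surjective (1 - e)
  refine ⟨i, ?_, ?_, ?_⟩
  · rw [← Ideal.Quotient.eq_zero_iff_mem, map_sub, map_mul, hi, he.one_sub.eq, sub_self]
  · rw [← hi, show P = ((𝔪).map (algebraMap A C)).map (Ideal.Quotient.mk T) by
      rw [Ideal.map_map]; rfl] at h0
    have h1 : i ∈ (((𝔪).map (algebraMap A C)).map (Ideal.Quotient.mk T)).comap
      (Ideal.Quotient.mk T) := h0
    rw [Ideal.comap_map_of_surjective _ Ideal.Quotient.mk_surjective, ← RingHom.ker_eq_comap_bot,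
      Ideal.mk_ker, sup_comm] at h1
    exact h1
  · let J := T ⊔ Ideal.span {i}
    let f : Cn →ₐ[A] C ⧸ J := Ideal.Quotient.liftₐ T (Ideal.Quotient.mkₐ A J)
      fun x hx => Ideal.Quotient.eq_zero_iff_mem.2 (Ideal.mem_sup_left hx)
    have hf : ∀ x ∈ Ideal.span ({1 - e} : Set Cn), f x = 0 := fun x hx => by
      obtain ⟨y, rfl⟩ := Ideal.mem_span_singleton'.1 hx
      rw [map_mul, ← hi]
      exact mul_eq_zero_of_right _
        (Ideal.Quotient.eq_zero_iff_mem.2 (Ideal.mem_sup_right (Ideal.subset_span rfl)))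
    exact Module.Finite.of_surjective (Ideal.Quotient.liftₐ _ f hf).toLinearMap fun y => by
      obtain ⟨c, rfl⟩ := Ideal.Quotient.mk_surjective y
      exact ⟨Ideal.Quotient.mk _ (Ideal.Quotient.mk T c), rfl⟩

/-- Over a quotient by a nilpotent extension of the residue field, the piece is the torsion. -/
theorem piece_mem_torsion (Q : Type u) [CommRing Q] [Algebra A Q]
    (hQ : IsNilpotent ((𝔪).map (algebraMap A Q))) {n : ℕ} {i : C}
    (hi : i * i - i ∈ SGA3b.torsionIdeal A C n)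
    (him : i ∈ SGA3b.torsionIdeal A C n ⊔ (𝔪).map (algebraMap A C)) {x : C}
    (hx : x ∈ SGA3b.torsionIdeal A C n ⊔ Ideal.span {i}) :
    (1 : Q) ⊗ₜ[A] x ∈ SGA3b.torsionIdeal Q (Q ⊗[A] C) n := by
  let T := SGA3b.torsionIdeal Q (Q ⊗[A] C) n
  let p : C →+* (Q ⊗[A] C) ⧸ T := (Ideal.Quotient.mk T).comp
    (Algebra.TensorProduct.includeRight : C →ₐ[A] Q ⊗[A] C).toRingHom
  have hT : ∀ x ∈ SGA3b.torsionIdeal A C n, p x = 0 := fun x hx =>
    Ideal.Quotient.eq_zero_iff_mem.2 (one_tmul_mem_torsion Q hx)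
  have hm : ∀ r ∈ 𝔪, IsNilpotent (p (algebraMap A C r)) := fun r hr => by
    obtain ⟨N, hN⟩ := hQ
    refine ⟨N, ?_⟩
    have h1 : algebraMap A Q r ^ N = 0 := by
      rw [← Ideal.mem_bot, ← Ideal.zero_eq_bot, ← hN]
      exact Ideal.pow_mem_pow (Ideal.mem_map_of_mem _ hr) N
    rw [← map_pow, ← map_pow]
    change Ideal.Quotient.mk T ((Algebra.TensorProduct.includeRight : C →ₐ[A] Q ⊗[A] C)
      (algebraMap A C (r ^ N))) = 0
    rw [AlgHom.commutes, IsScalarTower.algebraMap_apply A Q, map_pow, h1, map_zero, map_zero]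
  have hle : (SGA3b.torsionIdeal A C n ⊔ (𝔪).map (algebraMap A C)) ≤
      (nilradical ((Q ⊗[A] C) ⧸ T)).comap p :=
    sup_le (fun x hx => by rw [Ideal.mem_comap, hT x hx]; exact zero_mem _)
      (Ideal.map_le_iff_le_comap.2 fun r hr => mem_nilradical.2 (hm r hr))
  have hidem : IsIdempotentElem (p i) := by
    have h1 := hT _ hi
    rw [map_sub, map_mul, sub_eq_zero] at h1
    exact h1
  have h0 : p i = 0 := hidem.eq_zero_of_isNilpotent (mem_nilradical.1 (hle him))
  obtain ⟨t, ht, s, hs, rfl⟩ := Submodule.mem_sup.1 hx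
  obtain ⟨c, rfl⟩ := Ideal.mem_span_singleton'.1 hs
  refine Ideal.Quotient.eq_zero_iff_mem.1 ?_
  change p (t + c * i) = 0
  rw [map_add, map_mul, hT t ht, h0, mul_zero, add_zero]

/-- The levels of a group flat along the closed fibre with closed fibre of multiplicative type. -/
theorem isMultType_level
    (hfl : ∀ (q : Ideal C) [q.IsPrime], Ideal.map (algebraMap A C) 𝔪 ≤ q →
      Module.Flat A (Localization.AtPrime q))
    (hs : SGA3b.IsMultType (A ⧸ 𝔪) ((A ⧸ 𝔪) ⊗[A] C)) (N : ℕ) :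
    SGA3b.IsMultType (A ⧸ 𝔪 ^ (N + 1)) ((A ⧸ 𝔪 ^ (N + 1)) ⊗[A] C) := by
  letI : Field (A ⧸ 𝔪) := Ideal.Quotient.field _
  exact isMultType_reduction hfl
    (isQuasiIsotrivial_of_isIsotrivial (isIsotrivial_of_field hs)) N

/-- The finite part of the torsion is a closed subgroup. -/
theorem isHopfIdeal_piece
    (hfl : ∀ (q : Ideal C) [q.IsPrime], Ideal.map (algebraMap A C) 𝔪 ≤ q →
      Module.Flat A (Localization.AtPrime q))
    (hs : SGA3b.IsMultType (A ⧸ 𝔪) ((A ⧸ 𝔪) ⊗[A] C)) {n : ℕ} {i : C}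
    (hi : i * i - i ∈ SGA3b.torsionIdeal A C n)
    (him : i ∈ SGA3b.torsionIdeal A C n ⊔ (𝔪).map (algebraMap A C))
    (hfin : Module.Finite A (C ⧸ (SGA3b.torsionIdeal A C n ⊔ Ideal.span {i}))) :
    (SGA3b.torsionIdeal A C n ⊔ Ideal.span {i}).IsHopfIdeal A := by
  let J := SGA3b.torsionIdeal A C n ⊔ Ideal.span {i}
  haveI := hfin
  have hnilp : ∀ N, IsNilpotent ((𝔪).map (algebraMap A (A ⧸ 𝔪 ^ (N + 1)))) := fun N =>
    ⟨N + 1, by rw [← Ideal.map_pow, Ideal.zero_eq_bot]; exact Ideal.map_quotient_self _⟩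
  have hmemT : ∀ N, ∀ x ∈ J, (1 : A ⧸ 𝔪 ^ (N + 1)) ⊗ₜ[A] x ∈
      SGA3b.torsionIdeal (A ⧸ 𝔪 ^ (N + 1)) ((A ⧸ 𝔪 ^ (N + 1)) ⊗[A] C) n := fun N x hx =>
    piece_mem_torsion _ (hnilp N) hi him hx
  have hhopf : ∀ N, (SGA3b.torsionIdeal (A ⧸ 𝔪 ^ (N + 1))
      ((A ⧸ 𝔪 ^ (N + 1)) ⊗[A] C) n).IsHopfIdeal (A ⧸ 𝔪 ^ (N + 1)) := fun N => by
    let Q := A ⧸ 𝔪 ^ (N + 1)
    haveI := isCocomm (isMultType_level hfl hs N)
    let φ : Q ⊗[A] C →ₐc[Q] Q ⊗[A] C :=
      (WithConv.toConv (BialgHom.id Q (Q ⊗[A] C)) ^ n).ofConv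
    have hφ : (φ : Q ⊗[A] C →ₐ[Q] Q ⊗[A] C) = SGA3b.powConv Q (Q ⊗[A] C) n :=
      congrArg WithConv.ofConv
        (BialgHom.toAlgHom_convPow (WithConv.toConv (BialgHom.id Q (Q ⊗[A] C))) n)
    exact isHopfIdeal_map_ker φ _ (by rw [SGA3b.torsionIdeal, hφ])
  let π : ∀ N, (A ⧸ 𝔪 ^ (N + 1)) ⊗[A] C →ₐ[A ⧸ 𝔪 ^ (N + 1)]
      (A ⧸ 𝔪 ^ (N + 1)) ⊗[A] (C ⧸ J) := fun N =>
    Algebra.TensorProduct.map (AlgHom.id _ _) (Ideal.Quotient.mkₐ A J)
  have hπT : ∀ N, SGA3b.torsionIdeal (A ⧸ 𝔪 ^ (N + 1)) ((A ⧸ 𝔪 ^ (N + 1)) ⊗[A] C) n ≤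
      RingHom.ker (π N) := fun N => torsion_baseChange_le _ (π N) fun x hx => by
    change _ ⊗ₜ[A] Ideal.Quotient.mk J x = 0
    rw [Ideal.Quotient.eq_zero_iff_mem.2 (Ideal.mem_sup_left hx), TensorProduct.tmul_zero]
  refine { toIsCoideal := ⟨?_, ?_⟩, antipode_mem := ?_ }
  · intro x hx
    change x ∈ J at hx
    refine eq_zero_of_levels (A := A) fun N => ?_
    have h1 := counit_torsion (hmemT N x hx)
    rw [TensorProduct.counit_tmul, CommSemiring.counit_apply] at h1
    rw [← mul_one (Coalgebra.counit (R := A) x), ← smul_eq_mul, ← TensorProduct.smul_tmul, h1,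
      TensorProduct.zero_tmul]
  · intro x hx
    change x ∈ J at hx
    let f : C →ₐ[A] (C ⧸ J) ⊗[A] (C ⧸ J) :=
      (Algebra.TensorProduct.map (Ideal.Quotient.mkₐ A J) (Ideal.Quotient.mkₐ A J)).comp
        (Bialgebra.comulAlgHom A C)
    have h0 : f x = 0 := by
      refine eq_zero_of_levels (A := A) fun N => ?_
      let Q := A ⧸ 𝔪 ^ (N + 1)
      let TQ := SGA3b.torsionIdeal Q (Q ⊗[A] C) n
      haveI := hhopf N
      have h1 : TensorProduct.map (TQ.restrictScalars Q).mkQ (TQ.restrictScalars Q).mkQ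
          (Coalgebra.comul (R := Q) ((1 : Q) ⊗ₜ[A] x)) = 0 :=
        Submodule.IsCoideal.map_mkQ_comul_eq_zero (hmemT N x hx)
      let πb : (Q ⊗[A] C) ⧸ TQ →ₐ[Q] Q ⊗[A] (C ⧸ J) :=
        Ideal.Quotient.liftₐ TQ (π N) fun y hy => hπT N hy
      let il : Q ⊗[A] (C ⧸ J) →ₐ[Q] Q ⊗[A] ((C ⧸ J) ⊗[A] (C ⧸ J)) :=
        Algebra.TensorProduct.map (AlgHom.id Q Q) Algebra.TensorProduct.includeLeft
      let ir : Q ⊗[A] (C ⧸ J) →ₐ[Q] Q ⊗[A] ((C ⧸ J) ⊗[A] (C ⧸ J)) :=
        Algebra.TensorProduct.map (AlgHom.id Q Q) Algebra.TensorProduct.includeRight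
      let G : ((Q ⊗[A] C) ⧸ TQ) ⊗[Q] ((Q ⊗[A] C) ⧸ TQ) →ₐ[Q]
          Q ⊗[A] ((C ⧸ J) ⊗[A] (C ⧸ J)) :=
        Algebra.TensorProduct.lift (il.comp πb) (ir.comp πb)
          fun _ _ => Commute.all (S := Q ⊗[A] ((C ⧸ J) ⊗[A] (C ⧸ J))) _ _
      have hbrQ : ∀ w : (Q ⊗[A] C) ⊗[Q] (Q ⊗[A] C), TensorProduct.map (TQ.restrictScalars Q).mkQ
          (TQ.restrictScalars Q).mkQ w =
          Algebra.TensorProduct.map (Ideal.Quotient.mkₐ Q TQ) (Ideal.Quotient.mkₐ Q TQ) w := by
        intro w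
        induction w using TensorProduct.induction_on with
        | zero => exact (map_zero (TensorProduct.map (TQ.restrictScalars Q).mkQ
            (TQ.restrictScalars Q).mkQ)).trans (map_zero _).symm
        | add p q hp hq =>
          exact (map_add _ p q).trans ((congrArg₂ (· + ·) hp hq).trans (map_add _ p q).symm)
        | tmul p q => rfl
      have h1' : Algebra.TensorProduct.map (Ideal.Quotient.mkₐ Q TQ) (Ideal.Quotient.mkₐ Q TQ)
          (Coalgebra.comul (R := Q) ((1 : Q) ⊗ₜ[A] x)) = 0 := (hbrQ _).symm.trans h1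
      have key : ∀ w : C ⊗[A] C, G (Algebra.TensorProduct.map (Ideal.Quotient.mkₐ Q TQ)
          (Ideal.Quotient.mkₐ Q TQ)
            (AlgebraTensorModule.tensorTensorTensorComm A Q A Q Q Q C C
              (((1 : Q) ⊗ₜ (1 : Q)) ⊗ₜ w))) =
          (1 : Q) ⊗ₜ Algebra.TensorProduct.map (Ideal.Quotient.mkₐ A J) (Ideal.Quotient.mkₐ A J) w := by
        intro w
        induction w using TensorProduct.induction_on with
        | zero => simp
        | add p q hp hq => simp only [TensorProduct.tmul_add, map_add, hp, hq]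
        | tmul p q =>
          simp only [AlgebraTensorModule.tensorTensorTensorComm_tmul,
            Algebra.TensorProduct.map_tmul]
          change il (π N ((1 : Q) ⊗ₜ p)) * ir (π N ((1 : Q) ⊗ₜ q)) = _
          simp [il, ir, π, Algebra.TensorProduct.tmul_mul_tmul]
      rw [TensorProduct.comul_tmul, CommSemiring.comul_apply] at h1'
      have h2 := key (Coalgebra.comul (R := A) x)
      rw [h1', map_zero] at h2
      exact h2.symm
    have hbr : ∀ w : C ⊗[A] C, TensorProduct.map (J.restrictScalars A).mkQ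
        (J.restrictScalars A).mkQ w =
        Algebra.TensorProduct.map (Ideal.Quotient.mkₐ A J) (Ideal.Quotient.mkₐ A J) w := by
      intro w
      induction w using TensorProduct.induction_on with
      | zero => exact (map_zero (TensorProduct.map (J.restrictScalars A).mkQ
          (J.restrictScalars A).mkQ)).trans (map_zero _).symm
      | add p q hp hq => exact (map_add _ p q).trans ((congrArg₂ (· + ·) hp hq).trans (map_add _ p q).symm)
      | tmul p q => rfl
    exact (hbr _).trans h0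
  · intro x hx
    rw [← Ideal.Quotient.eq_zero_iff_mem]
    refine eq_zero_of_levels (A := A) fun N => ?_
    haveI := hhopf N
    have h1 := hπT N (Ideal.IsHopfIdeal.antipode_mem (R := A ⧸ 𝔪 ^ (N + 1)) (hmemT N x hx))
    rw [RingHom.mem_ker] at h1
    rw [← h1, TensorProduct.antipode_def]
    simp [π]
    rfl

/-- The reductions of the finite piece are the torsion subgroups of the reductions. -/
theorem exists_reduction_equiv (Q : Type u) [CommRing Q] [Algebra A Q]
    (hQ : IsNilpotent ((𝔪).map (algebraMap A Q))) {n : ℕ} {i : C}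
    (hi : i * i - i ∈ SGA3b.torsionIdeal A C n)
    (him : i ∈ SGA3b.torsionIdeal A C n ⊔ (𝔪).map (algebraMap A C))
    [(SGA3b.torsionIdeal A C n ⊔ Ideal.span {i}).IsHopfIdeal A]
    (hC : SGA3b.IsMultType Q (Q ⊗[A] C)) [Algebra.FiniteType Q (Q ⊗[A] C)] (hn : 0 < n) :
    SGA3b.IsMultType Q (Q ⊗[A] (C ⧸ (SGA3b.torsionIdeal A C n ⊔ Ideal.span {i}))) ∧
      Module.Flat Q (Q ⊗[A] (C ⧸ (SGA3b.torsionIdeal A C n ⊔ Ideal.span {i}))) := by
  let J := SGA3b.torsionIdeal A C n ⊔ Ideal.span {i}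
  haveI := isCocomm hC
  let φ : Q ⊗[A] C →ₐc[Q] Q ⊗[A] C := (WithConv.toConv (BialgHom.id Q (Q ⊗[A] C)) ^ n).ofConv
  have hφ : (φ : Q ⊗[A] C →ₐ[Q] Q ⊗[A] C) = SGA3b.powConv Q (Q ⊗[A] C) n :=
    congrArg WithConv.ofConv
      (BialgHom.toAlgHom_convPow (WithConv.toConv (BialgHom.id Q (Q ⊗[A] C))) n)
  let TQ := SGA3b.torsionIdeal Q (Q ⊗[A] C) n
  haveI : TQ.IsHopfIdeal Q := isHopfIdeal_map_ker φ _ (by rw [hφ]; rfl)
  let π : Q ⊗[A] C →ₐc[Q] Q ⊗[A] (C ⧸ J) :=
    Bialgebra.TensorProduct.map (BialgHom.id Q Q) (Bialgebra.Quotient.mkBialgHom (R := A) J)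
  have hπsurj : Function.Surjective π :=
    LinearMap.lTensor_surjective Q
      (g := (Bialgebra.Quotient.mkBialgHom (R := A) J : C →ₐ[A] C ⧸ J).toLinearMap)
      Ideal.Quotient.mk_surjective
  have hker : RingHom.ker (π : Q ⊗[A] C →ₐ[Q] Q ⊗[A] (C ⧸ J)) = TQ := by
    refine le_antisymm ?_ (torsion_baseChange_le Q _ fun x hx => ?_)
    · have h1 : RingHom.ker (π : Q ⊗[A] C →ₐ[Q] Q ⊗[A] (C ⧸ J)) =
          (RingHom.ker (Ideal.Quotient.mkₐ A J)).map
            (Algebra.TensorProduct.includeRight : C →ₐ[A] Q ⊗[A] C) :=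
        Algebra.TensorProduct.lTensor_ker (R := A) (A := Q) (Ideal.Quotient.mkₐ A J)
          (Ideal.Quotient.mkₐ_surjective A J)
      rw [h1, show RingHom.ker (Ideal.Quotient.mkₐ A J) = J from Ideal.Quotient.mkₐ_ker A J,
        Ideal.map_le_iff_le_comap]
      exact fun x hx => piece_mem_torsion Q hQ hi him hx
    · change (1 : Q) ⊗ₜ[A] Ideal.Quotient.mk J x = 0
      rw [Ideal.Quotient.eq_zero_iff_mem.2 (Ideal.mem_sup_left hx), TensorProduct.tmul_zero]
  obtain ⟨ε⟩ := nonempty_quotientEquiv π hπsurj TQ hker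
  have h := (isMultType_torsion hC hn TQ rfl).1
  exact ⟨isMultType_of_bialgEquiv ε h, flat (isMultType_of_bialgEquiv ε h)⟩

/-- **The finite torsion pieces.** -/
theorem exists_piece
    (hfl : ∀ (q : Ideal C) [q.IsPrime], Ideal.map (algebraMap A C) 𝔪 ≤ q →
      Module.Flat A (Localization.AtPrime q))
    (hs : SGA3b.IsMultType (A ⧸ 𝔪) ((A ⧸ 𝔪) ⊗[A] C)) {n : ℕ} (hn : 0 < n) :
    ∃ (F : Type u) (_ : CommRing F) (_ : HopfAlgebra A F) (π : C →ₐc[A] F) (i : C),
      Function.Surjective π ∧ Module.Finite A F ∧ SGA3b.IsMultType A F ∧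
      i * i - i ∈ SGA3b.torsionIdeal A C n ∧
      i ∈ SGA3b.torsionIdeal A C n ⊔ (𝔪).map (algebraMap A C) ∧
      ∀ c, π c = 0 ↔ c ∈ SGA3b.torsionIdeal A C n ⊔ Ideal.span {i} := by
  obtain ⟨i, hi, him, hfin⟩ := exists_idem hs hn
  let J := SGA3b.torsionIdeal A C n ⊔ Ideal.span {i}
  haveI : J.IsHopfIdeal A := isHopfIdeal_piece hfl hs hi him hfin
  let F := C ⧸ J
  haveI : Module.Finite A F := hfin
  haveI : Module.Flat A F := flat_of_levels fun N =>
    (exists_reduction_equiv (A ⧸ 𝔪 ^ (N + 1))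
      ⟨N + 1, by rw [← Ideal.map_pow, Ideal.zero_eq_bot]; exact Ideal.map_quotient_self _⟩
      hi him (isMultType_level hfl hs N) hn).2
  have hFk : SGA3b.IsMultType (A ⧸ 𝔪) ((A ⧸ 𝔪) ⊗[A] F) :=
    (exists_reduction_equiv (A ⧸ 𝔪)
      ⟨1, by rw [pow_one, Ideal.zero_eq_bot]; exact Ideal.map_quotient_self _⟩ hi him hs hn).1
  haveI : Algebra.FinitePresentation A F :=
    Algebra.FinitePresentation.of_finiteType.1 inferInstance
  obtain ⟨R', _, _, _, A', _, _, φ, e, hff, hA', hφ, he, hker, hmem⟩ :=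
    exists_clopen_local (R := A) F inferInstance
      (fun q _ _ => Module.Flat.trans A F (Localization.AtPrime q)) hFk
  have he0 : e = 0 := by
    refine Descent.eq_zero_of_idem_of_mem_jacobson he ?_
    exact Groth.L05.map_le_jacobson_bot (A := R') (C := R' ⊗[A] F)
      (IsLocalRing.jacobson_eq_maximalIdeal (⊥ : Ideal R') bot_ne_top).ge hmem
  exact ⟨F, inferInstance, inferInstance, Bialgebra.Quotient.mkBialgHom (R := A) J, i,
    Ideal.Quotient.mk_surjective, hfin, isMultType_of_clopen_zero φ e hA' hφ hker he0, hi, him,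
    fun c => Ideal.Quotient.eq_zero_iff_mem⟩

end Groth.L25.Char.TorsionPiece
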